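import Cfsg.Agent.Lib.GaussPre.System
import Mathlib.Algebra.Group.Conj
import Mathlib.Data.Fintype.Card
import Mathlib.Tactic.Group
import Mathlib.Tactic.FieldSimp
import Mathlib.Tactic.Ring

/-!
# The big cell

* `exists_cell` : every element is `u v t u'`; `exists_rep` : it has a conjugate `v t u`;
* `exists_coord` : a non-central element has such a conjugate with a nonzero simple coordinate in `v`.
-/

set_option autoImplicit false
set_option linter.unusedSectionVars false

namespace Cfsg.Agent.GaussPre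

variable {G : Type*} [Group G] {F : Type*} [Field F] [Fintype F] {n : ℕ}

theorem exists_notMem (s : Finset F) (h : s.card < Fintype.card F) : ∃ x, x ∉ s := by
  by_contra hs
  push_neg at hs
  have e : s = Finset.univ := Finset.eq_univ_iff_forall.2 hs
  rw [e, Finset.card_univ] at h
  exact lt_irrefl _ h

variable (S : GaussSys G F n)

namespace GaussSys

/-- The conjugate of `g` in the big cell with torus part `f` and first factor `v`. -/
def Rep (g : G) (f : Fin n → Fˣ) (v : G) : Prop :=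
  v ∈ S.V ∧ ∃ u ∈ S.U, IsConj g (v * S.tor f * u)

theorem Rep.of_conj {g : G} {f f' : Fin n → Fˣ} {v v' u u' : G} (x : G) (hu : u' ∈ S.U) (hv : v' ∈ S.V)
    (hg : IsConj g (v * S.tor f * u)) (e : x * (v * S.tor f * u) * x⁻¹ = v' * S.tor f' * u') :
    S.Rep g f' v' :=
  ⟨hv, u', hu, hg.trans (isConj_iff.2 ⟨x, e⟩)⟩

/-- The identity behind a conjugation by a negative simple root element. -/
theorem xm_move (i : Fin n) (f : Fin n → Fˣ) (r a : F) (w : Fˣ) (hw : (w : F) = 1 - a * r) :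
    S.tor f * S.xp i a * S.xm i (-r) =
      S.xm i (-r / (w : F) / (S.chi i f : F)) * S.tor (f * Pi.mulSingle i w) * S.xp i (a / w) := by
  rw [mul_assoc, S.sl2 i (-r) a w (by rw [hw]; ring), ← mul_assoc, ← mul_assoc, S.tor_xm', map_mul]
  group

theorem exists_cell (hF : 9 ≤ Fintype.card F) (g : G) :
    ∃ u ∈ S.U, ∃ v ∈ S.V, ∃ f, ∃ u' ∈ S.U, g = u * v * S.tor f * u' := by
  classical
  have key : ∀ i : Fin n, ∀ a : F, ∀ y : G,
      (∃ u ∈ S.U, ∃ v ∈ S.V, ∃ f, ∃ u' ∈ S.U, y = u * v * S.tor f * u') →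
      ∃ u ∈ S.U, ∃ v ∈ S.V, ∃ f, ∃ u' ∈ S.U, S.xm i a * y = u * v * S.tor f * u' := by
    rintro i a _ ⟨u, hu, v, hv, f, u2, hu2, rfl⟩
    obtain ⟨u1, hu1, hd1, eu⟩ := S.splitU' i hu
    set δ := S.d i u with hδ
    obtain ⟨hrv, hrc⟩ := S.radV_mem i hv
    set cc := S.c i v with hcc
    obtain ⟨h1, -⟩ := S.conjm i a u1 hu1 hd1
    obtain ⟨h2, h2c⟩ := S.conjp i δ _ hrv hrc
    set v1 := S.xp i δ * S.radV i v * S.xp i (-δ) with hv1
    set v2 := S.xm i a * v1 * S.xm i (-a) with hv2
    have hv2m : v2 ∈ S.V := mul_mem (mul_mem (S.xm_mem _ _) h2) (S.xm_mem _ _)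
    have hv2c : S.c i v2 = 0 := by
      rw [hv2, S.c_mul i _ (mul_mem (S.xm_mem _ _) h2) _ (S.xm_mem _ _), S.c_mul i _ (S.xm_mem _ _) _ h2,
        S.c_xm_self, S.c_xm_self, h2c, add_zero, add_neg_cancel]
    -- the parameter
    set A := -a * (1 + cc * δ) - cc with hA
    obtain ⟨al, hal⟩ := exists_notMem ({a⁻¹, -(1 + cc * δ) / A} : Finset F)
      (lt_of_le_of_lt Finset.card_le_two (by omega))
    simp only [Finset.mem_insert, Finset.mem_singleton, not_or] at hal
    have hw1 : 1 - a * al ≠ 0 := by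
      intro h
      have ha : a ≠ 0 := fun e => one_ne_zero (by rw [e, zero_mul, sub_zero] at h; exact h)
      exact hal.1 (eq_inv_of_mul_eq_one_left (by rw [mul_comm]; exact (sub_eq_zero.1 h).symm))
    set b := -al / (1 - a * al) + δ with hb
    have hw2 : 1 + cc * b ≠ 0 := by
      intro h
      have h' : (1 + cc * δ) + A * al = 0 := by
        have e : (1 + cc * b) * (1 - a * al) = (1 + cc * δ) + A * al := by
          have hb' : b * (1 - a * al) = -al + δ * (1 - a * al) := by rw [hb, add_mul, div_mul_cancel₀ _ hw1]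
          rw [hA]
          linear_combination cc * hb'
        rw [← e, h, zero_mul]
      by_cases hA0 : A = 0
      · rw [hA0, zero_mul, add_zero] at h'
        rw [hA, h', mul_zero, zero_sub, neg_eq_zero] at hA0
        rw [hA0, zero_mul, add_zero] at h'
        exact one_ne_zero h'
      · exact hal.2 (by rw [eq_div_iff hA0]; linear_combination h')
    set w1 := Units.mk0 _ hw1 with hw1d
    set w2 := Units.mk0 _ hw2 with hw2d
    have e1 : S.xm i a = S.xp i al *
        (S.xm i (a / w1) * S.tor (Pi.mulSingle i w1) * S.xp i (-al / w1)) := by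
      rw [← S.sl2 i a (-al) w1 (by rw [hw1d, Units.val_mk0]; ring), ← mul_assoc, S.xp_mul_neg, one_mul]
    have e2 : S.xp i b * S.xm i cc = S.xm i (cc / w2) * S.tor (Pi.mulSingle i w2) * S.xp i (b / w2) :=
      S.sl2 i cc b w2 (by rw [hw2d, Units.val_mk0])
    -- the two conjugates
    obtain ⟨h3, -⟩ := S.conjp i (-al) _ hv2m hv2c
    rw [neg_neg] at h3
    set v3 := S.xp i (-al) * v2 * S.xp i al with hv3
    set t1 := (Pi.mulSingle i w1 : Fin n → Fˣ)
    set t2 := (Pi.mulSingle i w2 : Fin n → Fˣ)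
    refine ⟨S.xm i a * u1 * S.xm i (-a) * S.xp i al, mul_mem h1 (S.xp_mem _ _),
      v3 * S.xm i (a / w1) * S.xm i (cc / w2 / (S.chi i t1 : F)), ?_, t1 * t2 * f,
      S.xp i ((b / w2) / (S.chi i f : F)) * u2, mul_mem (S.xp_mem _ _) hu2, ?_⟩
    · exact mul_mem (mul_mem h3 (S.xm_mem _ _)) (S.xm_mem _ _)
    have e3 : S.xp i (b / w2) * S.tor f = S.tor f * S.xp i ((b / w2) / (S.chi i f : F)) := by
      rw [S.tor_xp, mul_div_cancel₀ _ (Units.ne_zero _)]
    calc S.xm i a * (u * v * S.tor f * u2)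
        = (S.xm i a * u1 * S.xm i (-a)) * v2 * (S.xm i a * S.xp i δ * S.xm i cc) * S.tor f * u2 := by
          conv_lhs => rw [eu, ← S.radV_mul i v, ← hcc]
          rw [hv2, hv1]
          simp only [S.xm_neg, S.xp_neg]
          group
      _ = (S.xm i a * u1 * S.xm i (-a)) * v2 *
            (S.xp i al * S.xm i (a / w1) * S.tor t1 * (S.xp i b * S.xm i cc)) * S.tor f * u2 := by
          rw [hb, S.xp_add, e1]
          simp only [hw1d, Units.val_mk0]
          group
      _ = (S.xm i a * u1 * S.xm i (-a)) * S.xp i al * v3 *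
            (S.xm i (a / w1) * (S.tor t1 * S.xm i (cc / w2)) * S.tor t2) * (S.xp i (b / w2) * S.tor f) * u2 := by
          rw [e2, hv3, S.xp_neg]
          group
      _ = _ := by
          rw [S.tor_xm', e3, map_mul, map_mul]
          group
  have hm : g ∈ Subgroup.closure ({g | ∃ i a, g = S.xp i a} ∪ {g | ∃ i a, g = S.xm i a}) := by
    rw [S.gen]; exact Subgroup.mem_top g
  induction hm using Subgroup.closure_induction_left with
  | one => exact ⟨1, one_mem _, 1, one_mem _, 1, 1, one_mem _, by simp⟩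
  | mul_left x hx y _ ih =>
    rcases hx with ⟨i, a, rfl⟩ | ⟨i, a, rfl⟩
    · obtain ⟨u, hu, v, hv, f, u', hu', rfl⟩ := ih
      exact ⟨S.xp i a * u, mul_mem (S.xp_mem _ _) hu, v, hv, f, u', hu', by group⟩
    · exact key i a y ih
  | inv_mul_cancel x hx y _ ih =>
    rcases hx with ⟨i, a, rfl⟩ | ⟨i, a, rfl⟩
    · obtain ⟨u, hu, v, hv, f, u', hu', rfl⟩ := ih
      exact ⟨(S.xp i a)⁻¹ * u, mul_mem (inv_mem (S.xp_mem _ _)) hu, v, hv, f, u', hu', by group⟩
    · rw [← S.xm_neg]
      exact key i (-a) y ih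

theorem exists_rep (hF : 9 ≤ Fintype.card F) (g : G) : ∃ f v, S.Rep g f v := by
  obtain ⟨u, hu, v, hv, f, u', hu', rfl⟩ := S.exists_cell hF g
  exact ⟨f, v, hv, u' * u, mul_mem hu' hu, isConj_iff.2 ⟨u⁻¹, by group⟩⟩

/-- If all first factors have zero simple coordinates, the element is central. -/
theorem central_of_coord_zero (hF : 9 ≤ Fintype.card F) {g : G}
    (H : ∀ f v, S.Rep g f v → ∀ i, S.c i v = 0) : g ∈ Subgroup.center G := by
  classical
  obtain ⟨f, v, hv, u, hu, hg⟩ := S.exists_rep hF g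
  -- all middle parts are central
  have mid : ∀ f' v' u', v' ∈ S.V → u' ∈ S.U → IsConj g (v' * S.tor f' * u') →
      ∀ i, S.d i u' = 0 ∧ S.chi i f' = 1 := by
    intro f' v' u' hv' hu' hg' i
    by_contra hbad
    obtain ⟨u1, hu1, hd1, eu⟩ := S.splitU i hu'
    set δ := S.d i u' with hδ
    set χ : F := (S.chi i f' : F) with hχ
    obtain ⟨r, hr0, hr1, hr2⟩ : ∃ r : F, r ≠ 0 ∧ 1 - δ * r ≠ 0 ∧ χ * (1 - δ * r) ≠ 1 := by
      by_cases hd : δ = 0
      · refine ⟨1, one_ne_zero, by simp [hd], fun e => hbad ⟨hd, Units.ext ?_⟩⟩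
        rw [hd, zero_mul, sub_zero, mul_one] at e
        exact e
      · obtain ⟨r, hr⟩ := exists_notMem ({0, δ⁻¹, (1 - χ⁻¹) / δ} : Finset F)
          (lt_of_le_of_lt Finset.card_le_three (by omega))
        simp only [Finset.mem_insert, Finset.mem_singleton, not_or] at hr
        refine ⟨r, hr.1, fun e => hr.2.1 (eq_inv_of_mul_eq_one_left ?_), fun e => hr.2.2 ?_⟩
        · linear_combination -e
        · have hχ0 : χ ≠ 0 := Units.ne_zero _
          field_simp
          linear_combination -e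
    set w := Units.mk0 _ hr1 with hw
    obtain ⟨hu2, -⟩ := S.conjm i r u1 hu1 hd1
    have hrep : S.Rep g (f' * Pi.mulSingle i w) (S.xm i r * v' * S.xm i (-r / (w : F) / χ)) := by
      refine Rep.of_conj S (S.xm i r) (u' := S.xp i (δ / w) * (S.xm i r * u1 * S.xm i (-r)))
        (mul_mem (S.xp_mem _ _) hu2) (mul_mem (mul_mem (S.xm_mem _ _) hv') (S.xm_mem _ _)) hg' ?_
      calc S.xm i r * (v' * S.tor f' * u') * (S.xm i r)⁻¹
          = S.xm i r * v' * (S.tor f' * S.xp i δ * S.xm i (-r)) * (S.xm i r * u1 * S.xm i (-r)) := by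
            conv_lhs => rw [eu]
            rw [S.xm_neg]; group
        _ = _ := by
            rw [S.xm_move i f' r δ w (by rw [hw, Units.val_mk0]), ← hχ]
            group
    have h0 := H _ _ hrep i
    rw [S.c_mul i _ (mul_mem (S.xm_mem _ _) hv') _ (S.xm_mem _ _), S.c_mul i _ (S.xm_mem _ _) v' hv',
      S.c_xm_self, S.c_xm_self, H f' v' ⟨hv', u', hu', hg'⟩ i, add_zero, hw, Units.val_mk0] at h0
    have hχ0 : χ ≠ 0 := Units.ne_zero _
    apply hr2
    rw [div_div, add_div' _ _ _ (mul_ne_zero hr1 hχ0), div_eq_zero_iff, or_iff_left (mul_ne_zero hr1 hχ0)] at h0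
    have h' : r * (χ * (1 - δ * r) - 1) = 0 := by linear_combination h0
    exact sub_eq_zero.1 ((mul_eq_zero.1 h').resolve_left hr0)
  -- the torus part is central
  have hc : ∀ y : G, y * S.tor f = S.tor f * y := by
    intro y
    have hy : y ∈ Subgroup.closure ({g | ∃ i a, g = S.xp i a} ∪ {g | ∃ i a, g = S.xm i a}) := by
      rw [S.gen]; exact Subgroup.mem_top y
    induction hy using Subgroup.closure_induction with
    | mem x hx =>
      rcases hx with ⟨i, a, rfl⟩ | ⟨i, a, rfl⟩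
      · rw [S.tor_xp, (mid f v u hv hu hg i).2, Units.val_one, one_mul]
      · rw [S.tor_xm', (mid f v u hv hu hg i).2, Units.val_one, div_one]
    | one => rw [one_mul, mul_one]
    | mul x y _ _ hx hy => rw [mul_assoc, hy, ← mul_assoc, hx, mul_assoc]
    | inv x _ hx =>
      calc x⁻¹ * S.tor f = x⁻¹ * (S.tor f * x) * x⁻¹ := by group
        _ = S.tor f * x⁻¹ := by rw [← hx]; group
  -- all conjugates of the two unipotent factors stay in place
  have stay : ∀ h : G, h * v * h⁻¹ ∈ S.V ∧ h * u * h⁻¹ ∈ S.U := by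
    intro h
    have hh : h ∈ Subgroup.closure ({g | ∃ i a, g = S.xp i a} ∪ {g | ∃ i a, g = S.xm i a}) := by
      rw [S.gen]; exact Subgroup.mem_top h
    have main : ∀ x ∈ ({g | ∃ i a, g = S.xp i a} ∪ {g | ∃ i a, g = S.xm i a} : Set G), ∀ y : G,
        (y * v * y⁻¹ ∈ S.V ∧ y * u * y⁻¹ ∈ S.U) →
        (x * (y * v * y⁻¹) * x⁻¹ ∈ S.V ∧ x * (y * u * y⁻¹) * x⁻¹ ∈ S.U) := by
      rintro x hx y ⟨hy1, hy2⟩
      have hconj : IsConj g ((y * v * y⁻¹) * S.tor f * (y * u * y⁻¹)) :=
        hg.trans (isConj_iff.2 ⟨y, by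
          calc y * (v * S.tor f * u) * y⁻¹ = (y * v * y⁻¹) * (y * S.tor f) * u * y⁻¹ := by group
            _ = (y * v * y⁻¹) * (S.tor f * y) * u * y⁻¹ := by rw [hc]
            _ = _ := by group⟩)
      rcases hx with ⟨i, a, rfl⟩ | ⟨i, a, rfl⟩
      · refine ⟨?_, mul_mem (mul_mem (S.xp_mem _ _) hy2) (inv_mem (S.xp_mem _ _))⟩
        rw [← S.xp_neg]
        exact (S.conjp i a _ hy1 (H _ _ ⟨hy1, _, hy2, hconj⟩ i)).1
      · refine ⟨mul_mem (mul_mem (S.xm_mem _ _) hy1) (inv_mem (S.xm_mem _ _)), ?_⟩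
        rw [← S.xm_neg]
        exact (S.conjm i a _ hy2 (mid _ _ _ hy1 hy2 hconj i).1).1
    induction hh using Subgroup.closure_induction_left with
    | one => exact ⟨by simpa using hv, by simpa using hu⟩
    | mul_left x hx y _ ih =>
      have := main x hx y ih
      simpa only [mul_inv_rev, mul_assoc] using this
    | inv_mul_cancel x hx y _ ih =>
      rcases hx with ⟨i, a, rfl⟩ | ⟨i, a, rfl⟩
      · have := main _ (Or.inl ⟨i, -a, rfl⟩) y ih
        rw [← S.xp_neg]
        simpa only [mul_inv_rev, mul_assoc] using this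
      · have := main _ (Or.inr ⟨i, -a, rfl⟩) y ih
        rw [← S.xm_neg]
        simpa only [mul_inv_rev, mul_assoc] using this
  rw [S.coreV v fun h => (stay h).1, S.coreU u fun h => (stay h).2, one_mul, mul_one] at hg
  have hgt : g = S.tor f := by
    obtain ⟨x, hx⟩ := isConj_iff.1 hg
    calc g = x⁻¹ * (x * g * x⁻¹) * x := by group
      _ = x⁻¹ * S.tor f * x := by rw [hx]
      _ = S.tor f := by rw [hc, inv_mul_cancel_right]
  rw [hgt]
  exact Subgroup.mem_center_iff.2 hc

theorem exists_coord (hF : 9 ≤ Fintype.card F) {g : G} (hg : g ∉ Subgroup.center G) :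
    ∃ f v i, S.Rep g f v ∧ S.c i v ≠ 0 := by
  by_contra h
  push_neg at h
  exact hg (S.central_of_coord_zero hF fun f v hr i => h f v i hr)

end GaussSys

end Cfsg.Agent.GaussPre
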