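import Cfsg.Agent.Lib.GaussPre.Gen
import Cfsg.Agent.Lib.ChevBN.RadicalFiltration
import Cfsg.Agent.Lib.ChevBN.Facts
import Cfsg.Agent.Lib.ChevSt.Torus
import Cfsg.Agent.Lib.Chev.SL2Hom

/-!
# The root elements of a Chevalley group as a Gauss datum

* `GTab` : the table conditions on an ordering of the fundamental roots along the diagram;
* `cgX`, `cgTor` : root elements and torus in the Chevalley group;
* `chevGS` : the resulting `GSData`.
-/

set_option autoImplicit false
set_option linter.unusedSectionVars false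

namespace Cfsg.Agent.GaussPre

open Cfsg.Lie Cfsg.Lie.ChevalleyDatum Cfsg.Agent.Chev Cfsg.Agent.ChevBN Cfsg.Agent.ChevSt
open scoped commutatorElement

variable (D : ChevalleyDatum) (M : List (List ℤ)) (d : ℤ)

/-- An entry of a list of natural numbers. -/
def nd (l : List ℕ) (i : ℕ) : ℕ := l.getD i 0

/-- The coefficient of a root at the node of an ordering. -/
def cf (pi : List ℕ) (i r : ℕ) : ℤ := co D M (nd pi i) r / d

/-- Minus the Cartan integer of two nodes of an ordering. -/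
def kN (pi : List ℕ) (i j : ℕ) : ℕ := (-(D.cartan (nd pi i) (D.simple (nd pi j)))).toNat

/-- The table conditions on an ordering of the nodes. -/
structure GTab (pi par : List ℕ) : Prop where
  lt : ∀ i < D.rank, nd pi i < D.rank
  inj : ∀ i < D.rank, ∀ j < D.rank, nd pi i = nd pi j → i = j
  surj : ∀ k < D.rank, ∃ i < D.rank, nd pi i = k
  div : ∀ q < D.nroots, ∀ k < D.rank, d * (co D M k q / d) = co D M k q
  indep : ∀ i < D.rank, ∀ j < D.rank, i ≠ j → D.cartan (nd pi i) (D.simple (nd pi j)) = 0 → ∀ r < D.nroots,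
    (∀ l < D.rank, l ≠ i → l ≠ j → co D M (nd pi l) r = 0) →
      co D M (nd pi i) r = 0 ∨ co D M (nd pi j) r = 0
  np : ∀ i < D.rank, ∀ j < D.rank, i ≠ j → D.cartan (nd pi i) (D.simple (nd pi j)) ≤ 0
  par_lt : ∀ i < D.rank, nd par i < D.rank ∧ (i ≠ 0 → nd par i < i)
  adj : ∀ i < D.rank, ∀ j < D.rank, i ≠ j → kN D pi i j ≠ 0 → (i ≠ 0 ∧ nd par i = j) ∨ (j ≠ 0 ∧ nd par j = i)
  k_pos : ∀ i < D.rank, i ≠ 0 → kN D pi i (nd par i) ≠ 0 ∧ kN D pi (nd par i) i ≠ 0
  k_up : ∀ i < D.rank, i ≠ 0 → kN D pi i (nd par i) ≤ 3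
  k_down : ∀ i : Fin D.rank,
    ∑ j ∈ Finset.univ.filter (fun j : Fin D.rank => j.val ≠ 0 ∧ nd par j.val = i.val), kN D pi i.val j.val ≤ 3

/-- A diagonal element of `SL(2)`. -/
def slDg {F : Type*} [Field F] (w : Fˣ) : Matrix.SpecialLinearGroup (Fin 2) F :=
  ⟨!![(w : F), 0; 0, (w : F)⁻¹], by simp [Matrix.det_fin_two]⟩

variable {D M d} (F : Type*) [Field F] (hD : Good D) (hR : Roots D M d) {pi par : List ℕ}

/-- A root element of the group. -/
def cgX (r : ℕ) (t : F) : ↥(D.group F) := ⟨xg hD F r t, xg_mem_group hD r t⟩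

theorem cgX_add {r : ℕ} (hr : r < D.nroots) (a b : F) :
    cgX F hD r (a + b) = cgX F hD r a * cgX F hD r b := Subtype.ext (xg_add hD hr a b).symm

variable (D pi) in
/-- The characters at the roots of the torus parametrised along an ordering. -/
def cgChi (r : ℕ) : (Fin D.rank → Fˣ) →* Fˣ where
  toFun f := ∏ i, f i ^ D.pairing (D.simple (nd pi i.val)) r
  map_one' := by simp
  map_mul' f g := by simp [mul_zpow, Finset.prod_mul_distrib]

theorem cgChi_single (i : Fin D.rank) (a : Fˣ) (r : ℕ) :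
    cgChi D F pi r (Pi.mulSingle i a) = a ^ D.pairing (D.simple (nd pi i.val)) r := by
  show ∏ j, (Pi.mulSingle i a : Fin D.rank → Fˣ) j ^ _ = _
  rw [Fintype.prod_eq_single i fun j hj => by rw [Pi.mulSingle_eq_of_ne hj, one_zpow], Pi.mulSingle_eq_same]

variable (D pi) in
/-- The torus in the general linear group. -/
def cgTorGL : (Fin D.rank → Fˣ) →* GL D.Idx F :=
  (dgU D F).comp (MonoidHom.pi fun s : Fin D.nroots => cgChi D F pi s.val)

variable {F} (T : GTab D M d pi par)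
include hD hR T

theorem simple_pi_lt (i : Fin D.rank) : D.simple (nd pi i.val) < D.nroots := hD.simple_lt _ (T.lt i.val i.isLt)

theorem cgTorGL_single (i : Fin D.rank) (a : Fˣ) :
    cgTorGL D F pi (Pi.mulSingle i a) = hg hD F (D.simple (nd pi i.val)) (a : F) := by
  refine Units.ext ?_
  rw [coe_hg, hMat_eq_diag hD (simple_pi_lt hD hR T i) a.ne_zero]
  show Matrix.diagonal _ = Matrix.diagonal _
  congr 1
  funext x
  rcases x with j | s
  · rfl
  · show ((cgChi D F pi s.val (Pi.mulSingle i a) : Fˣ) : F) = _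
    rw [cgChi_single, Units.mk0_val]
    rfl

theorem cgTorGL_mem (f : Fin D.rank → Fˣ) : cgTorGL D F pi f ∈ D.group F := by
  rw [← Finset.univ_prod_mulSingle f, map_prod']
  exact list_prod_mem fun g hg => by
    simp only [List.mem_map, Finset.mem_toList] at hg
    obtain ⟨_, ⟨i, -, rfl⟩, rfl⟩ := hg
    rw [cgTorGL_single hD hR T]
    exact mul_mem (mul_mem (mul_mem (xg_mem_group hD _ _) (xg_mem_group hD _ _)) (xg_mem_group hD _ _))
      (mul_mem (mul_mem (xg_mem_group hD _ _) (xg_mem_group hD _ _)) (xg_mem_group hD _ _))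
where
  map_prod' {s : Finset (Fin D.rank)} {f : Fin D.rank → (Fin D.rank → Fˣ)} :
      cgTorGL D F pi (∏ i ∈ s, f i) = ((s.toList.map f).map (cgTorGL D F pi)).prod := by
    rw [← map_list_prod, Finset.prod_map_toList]

theorem cgTorGL_xg (f : Fin D.rank → Fˣ) (r : ℕ) (a : F) :
    cgTorGL D F pi f * xg hD F r a = xg hD F r ((cgChi D F pi r f : F) * a) * cgTorGL D F pi f := by
  rw [← Finset.univ_prod_mulSingle f]
  induction (Finset.univ : Finset (Fin D.rank)) using Finset.induction_on generalizing a with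
  | empty => simp
  | insert i s hi ih =>
    rw [Finset.prod_insert hi, map_mul, map_mul, mul_assoc, ih, ← mul_assoc, cgTorGL_single hD hR T,
      hg_conj hD (simple_pi_lt hD hR T i) (f i).ne_zero, cgChi_single, mul_assoc, Units.val_mul,
      Units.val_zpow_eq_zpow_val]
    congr 2
    ring

variable (F) in
/-- The torus of the group. -/
def cgTor : (Fin D.rank → Fˣ) →* ↥(D.group F) :=
  (cgTorGL D F pi).codRestrict _ (cgTorGL_mem hD hR T)

theorem d_mul_cf {r : ℕ} (hr : r < D.nroots) (i : Fin D.rank) :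
    d * cf D M d pi i.val r = co D M (nd pi i.val) r := T.div r hr _ (T.lt i.val i.isLt)

theorem nonneg_iff {r : ℕ} (hr : r < D.nroots) :
    (∀ i : Fin D.rank, 0 ≤ cf D M d pi i.val r) ↔ D.IsPosRoot r := by
  rw [hR.sgn r hr]
  constructor
  · intro h k hk
    obtain ⟨i, hi, rfl⟩ := T.surj k hk
    rw [← d_mul_cf hD hR T hr ⟨i, hi⟩]
    exact mul_nonneg hR.d_pos.le (h ⟨i, hi⟩)
  · intro h i
    have := h _ (T.lt i.val i.isLt)
    rw [← d_mul_cf hD hR T hr i] at this
    exact nonneg_of_mul_nonneg_right this hR.d_pos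

theorem cf_neg {r : ℕ} (hr : r < D.nroots) (i : Fin D.rank) :
    cf D M d pi i.val (D.neg r) = -cf D M d pi i.val r := by
  refine mul_left_cancel₀ hR.d_pos.ne' ?_
  rw [mul_neg, d_mul_cf hD hR T (hD.neg_lt r hr), d_mul_cf hD hR T hr, hR.co_neg hD hr]

theorem nonpos_iff {r : ℕ} (hr : r < D.nroots) :
    (∀ i : Fin D.rank, cf D M d pi i.val r ≤ 0) ↔ ¬ D.IsPosRoot r := by
  rw [← pos_or_neg hD hr, ← nonneg_iff hD hR T (hD.neg_lt r hr)]
  exact forall_congr' fun i => by rw [cf_neg hD hR T hr]; omega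

theorem cf_simple (i j : Fin D.rank) :
    cf D M d pi j.val (D.simple (nd pi i.val)) = if j = i then 1 else 0 := by
  refine mul_left_cancel₀ hR.d_pos.ne' ?_
  rw [d_mul_cf hD hR T (simple_pi_lt hD hR T i), hR.dual _ (T.lt j.val j.isLt) _ (T.lt i.val i.isLt)]
  by_cases h : j = i
  · subst h; simp
  · rw [if_neg h, if_neg fun e => h (Fin.ext (T.inj _ j.isLt _ i.isLt e)), mul_zero]

theorem cf_comb {r s : ℕ} (hr : r < D.nroots) (hs : s < D.nroots) (h₁ : s ≠ r) (h₂ : s ≠ D.neg r)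
    {τ : ℕ × ℤ × ℕ × ℕ} (hτ : τ ∈ D.commTerms r s) (i : Fin D.rank) :
    cf D M d pi i.val τ.1 = τ.2.2.1 * cf D M d pi i.val r + τ.2.2.2 * cf D M d pi i.val s := by
  obtain ⟨hlt, -, -, hv⟩ := (isLin_co hD M (nd pi i.val)).commTerms hD hr hs h₁ h₂ hτ
  refine mul_left_cancel₀ hR.d_pos.ne' ?_
  rw [d_mul_cf hD hR T hlt, hv, ← d_mul_cf hD hR T hr i, ← d_mul_cf hD hR T hs i]
  ring

theorem cg_comm {r s : Fin D.nroots} (h : ∃ i : Fin D.rank, cf D M d pi i.val r.val + cf D M d pi i.val s.val ≠ 0)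
    (a b : F) :
    cgX F hD r.val a * cgX F hD s.val b * (cgX F hD r.val a)⁻¹ * (cgX F hD s.val b)⁻¹ ∈
      Subgroup.closure {g : ↥(D.group F) | ∃ (q : Fin D.nroots) (t : F), g = cgX F hD q.val t ∧
        ∃ x y : ℕ, 0 < x ∧ 0 < y ∧
          ∀ i : Fin D.rank, cf D M d pi i.val q.val = x * cf D M d pi i.val r.val + y * cf D M d pi i.val s.val} := by
  by_cases h₁ : r = s
  · subst h₁
    have e : cgX F hD r.val a * cgX F hD r.val b = cgX F hD r.val b * cgX F hD r.val a := by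
      rw [← cgX_add F hD r.isLt, ← cgX_add F hD r.isLt, add_comm]
    rw [e, mul_inv_cancel_right, mul_inv_cancel]
    exact one_mem _
  have h₂ : r.val ≠ D.neg s.val := fun e => by
    obtain ⟨i, hi⟩ := h
    exact hi (by rw [e, cf_neg hD hR T s.isLt, neg_add_cancel])
  have h₁' : r.val ≠ s.val := fun e => h₁ (Fin.ext e)
  have hc := commutator_xg_eq hD (F := F) s.isLt r.isLt h₁' h₂ b (-a)
  rw [neg_neg, commutatorElement_def] at hc
  set K := Subgroup.closure {g : ↥(D.group F) | ∃ (q : Fin D.nroots) (t : F), g = cgX F hD q.val t ∧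
    ∃ x y : ℕ, 0 < x ∧ 0 < y ∧
      ∀ i : Fin D.rank, cf D M d pi i.val q.val = x * cf D M d pi i.val r.val + y * cf D M d pi i.val s.val}
  suffices hmem : ((cgX F hD r.val a * cgX F hD s.val b * (cgX F hD r.val a)⁻¹ * (cgX F hD s.val b)⁻¹ :
      ↥(D.group F)) : GL D.Idx F) ∈ K.map (D.group F).subtype by
    obtain ⟨g, hg, e⟩ := hmem
    rwa [← Subtype.ext e]
  show xg hD F r.val a * xg hD F s.val b * (xg hD F r.val a)⁻¹ * (xg hD F s.val b)⁻¹ ∈ _
  rw [hc]
  refine list_prod_mem fun g hg => ?_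
  simp only [ChevalleyDatum.commWord, List.map_map, List.mem_map, Function.comp_apply] at hg
  obtain ⟨τ, hτ, rfl⟩ := hg
  obtain ⟨hlt, hx, hy, -⟩ := (isLin_co hD M 0).commTerms hD s.isLt r.isLt h₁' h₂ hτ
  refine ⟨cgX F hD τ.1 _, Subgroup.subset_closure ⟨⟨τ.1, hlt⟩, _, rfl, τ.2.2.2, τ.2.2.1, hy, hx, fun i => ?_⟩, rfl⟩
  show cf D M d pi i.val τ.1 = _
  rw [cf_comb hD hR T s.isLt r.isLt h₁' h₂ hτ]
  ring

theorem cg_sl2 (i : Fin D.rank) (a b : F) (w : Fˣ) (hw : (w : F) = 1 + a * b) :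
    cgX F hD (D.simple (nd pi i.val)) b * cgX F hD (D.neg (D.simple (nd pi i.val))) a =
      cgX F hD (D.neg (D.simple (nd pi i.val))) (a / w) * cgTor F hD hR T (Pi.mulSingle i w) *
        cgX F hD (D.simple (nd pi i.val)) (b / w) := by
  have hr := simple_pi_lt hD hR T i
  refine Subtype.ext ?_
  show xg hD F _ b * xg hD F _ a = xg hD F _ (a / w) * cgTorGL D F pi (Pi.mulSingle i w) * xg hD F _ (b / w)
  rw [cgTorGL_single hD hR T, ← RankOne.sl2Hom_slX hD hr, ← RankOne.sl2Hom_slY hD hr,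
    ← RankOne.sl2Hom_slY hD hr, ← RankOne.sl2Hom_slX hD hr]
  have hD' : RankOne.sl2Hom hD hr
      (slDg w) =
      hg hD F (D.simple (nd pi i.val)) (w : F) := by
    simp [RankOne.sl2Hom, RankOne.phi, RankOne.phiE, xg_zero, slDg]
  rw [← hD', ← map_mul, ← map_mul, ← map_mul]
  congr 1
  apply Subtype.ext
  simp only [Matrix.SpecialLinearGroup.coe_mul]
  have hw0 : (w : F) ≠ 0 := w.ne_zero
  ext p q
  fin_cases p <;> fin_cases q <;> simp [RankOne.slX, RankOne.slY, slDg, Matrix.mul_apply, Fin.sum_univ_two] <;>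
    first
    | (field_simp; rw [hw]; ring1)
    | (rw [hw]; ring1)
    | (have h1 : (1 + a * b) ≠ 0 := hw ▸ hw0; rw [hw]; field_simp; ring_nf; rw [← mul_add]; field_simp)
    | (have h1 : (1 + b * a) ≠ 0 := by rw [mul_comm]; exact hw ▸ hw0
       rw [hw]; field_simp)
    | field_simp

/-- The root elements of the simple roots and their negatives generate the group. -/
theorem cg_gen : Subgroup.closure {g : ↥(D.group F) | ∃ (b : Bool) (i : Fin D.rank) (t : F), g =
    cgX F hD (if b = true then D.simple (nd pi i.val) else D.neg (D.simple (nd pi i.val))) t} = ⊤ := by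
  set H := Subgroup.closure {g : ↥(D.group F) | ∃ (b : Bool) (i : Fin D.rank) (t : F), g =
    cgX F hD (if b = true then D.simple (nd pi i.val) else D.neg (D.simple (nd pi i.val))) t}
  set K := H.map (D.group F).subtype
  have hs : ∀ k < D.rank, (∀ t, xg hD F (D.simple k) t ∈ K) ∧ ∀ t, xg hD F (D.neg (D.simple k)) t ∈ K := by
    intro k hk
    obtain ⟨i, hi, rfl⟩ := T.surj k hk
    exact ⟨fun t => ⟨_, Subgroup.subset_closure ⟨true, ⟨i, hi⟩, t, rfl⟩, rfl⟩,
      fun t => ⟨_, Subgroup.subset_closure ⟨false, ⟨i, hi⟩, t, rfl⟩, rfl⟩⟩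
  have hn : ∀ k < D.rank, ng hD F (D.simple k) 1 ∈ K := fun k hk =>
    mul_mem (mul_mem ((hs k hk).1 _) ((hs k hk).2 _)) ((hs k hk).1 _)
  have hconj : ∀ k < D.rank, ∀ q < D.nroots, (∀ t, xg hD F q t ∈ K) → ∀ t, xg hD F (wN D k q) t ∈ K := by
    intro k hk q hq h t
    have he := ng_conj_xg hD hk hq ((nSign D (D.simple k) q : F) * t)
    rw [← mul_assoc, ← Int.cast_mul, show nSign D (D.simple k) q * nSign D (D.simple k) q = 1 by
      rcases (nSign_cases hD (hD.simple_lt k hk) hq).1 with e | e <;> rw [e] <;> rfl, Int.cast_one, one_mul] at he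
    rw [← he]
    exact mul_mem (mul_mem (hn k hk) (h _)) (inv_mem (hn k hk))
  have hall : ∀ q < D.nroots, ∀ t, xg hD F q t ∈ K := by
    intro q hq
    by_cases hp : D.IsPosRoot q
    · exact hR.pos_induction hD (P := fun q => ∀ t, xg hD F q t ∈ K) (fun k hk => (hs k hk).1) hconj hq hp
    · have h := hR.pos_induction hD (P := fun q => ∀ t, xg hD F (D.neg q) t ∈ K) (fun k hk => (hs k hk).2)
        (fun k hk p hp h => by
          have h2 := hconj k hk (D.neg p) (hD.neg_lt p hp) h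
          rwa [hR.refl_neg hD hk hp] at h2)
        (hD.neg_lt q hq) ((pos_or_neg hD hq).2 hp)
      simpa [hD.neg_neg q hq] using h
  rw [eq_top_iff]
  rintro g -
  have hg : (g : GL D.Idx F) ∈ K := by
    have hle : D.group F ≤ K := (Subgroup.closure_le _).2 fun x hx => by
      obtain ⟨r, t, e⟩ := hx
      obtain rfl : x = xg hD F r.val t := Units.ext (by rw [e, coe_xg, ChevalleyDatum.x, dif_pos r.isLt])
      exact hall r.val r.isLt t
    exact hle g.2
  obtain ⟨x, hx, e⟩ := hg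
  rwa [← Subtype.ext e]

theorem cg_side {P : ℕ → Prop} {g : ↥(D.group F)} {Q : ℕ → Prop} (hPQ : ∀ q < D.nroots, Q q → P q)
    (hg : g ∈ Subgroup.closure {g : ↥(D.group F) | ∃ (q : Fin D.nroots) (t : F), g = cgX F hD q.val t ∧ Q q.val}) :
    (g : GL D.Idx F) ∈ Subgroup.closure {g : GL D.Idx F | ∃ (q : ℕ) (t : F), P q ∧
      (g : Matrix D.Idx D.Idx F) = D.x F q t} := by
  induction hg using Subgroup.closure_induction with
  | mem x hx =>
    obtain ⟨q, t, rfl, hq⟩ := hx
    exact Subgroup.subset_closure ⟨q.val, t, hPQ _ q.isLt hq, rfl⟩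
  | one => exact one_mem _
  | mul x y _ _ hx hy => exact mul_mem hx hy
  | inv x _ hx => exact inv_mem hx

theorem posUni_side {g : GL D.Idx F} (hg : g ∈ D.posUnipotent F) :
    ∃ h : ↥(D.group F), (h : GL D.Idx F) = g ∧ h ∈ Subgroup.closure
      {g : ↥(D.group F) | ∃ (q : Fin D.nroots) (t : F), g = cgX F hD q.val t ∧
        ∀ i : Fin D.rank, 0 ≤ cf D M d pi i.val q.val} := by
  rw [ChevalleyDatum.posUnipotent] at hg
  induction hg using Subgroup.closure_induction with
  | mem x hx =>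
    obtain ⟨r, t, hr, e⟩ := hx
    obtain rfl : x = xg hD F r t := Units.ext e
    exact ⟨cgX F hD r t, rfl, Subgroup.subset_closure ⟨⟨r, hr.1⟩, t, rfl, (nonneg_iff hD hR T hr.1).2 hr⟩⟩
  | one => exact ⟨1, rfl, one_mem _⟩
  | mul x y _ _ hx hy =>
    obtain ⟨a, rfl, ha⟩ := hx
    obtain ⟨b, rfl, hb⟩ := hy
    exact ⟨a * b, rfl, mul_mem ha hb⟩
  | inv x _ hx =>
    obtain ⟨a, rfl, ha⟩ := hx
    exact ⟨a⁻¹, rfl, inv_mem ha⟩

theorem negUni_side {g : GL D.Idx F} (hg : g ∈ D.negUnipotent F) :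
    ∃ h : ↥(D.group F), (h : GL D.Idx F) = g ∧ h ∈ Subgroup.closure
      {g : ↥(D.group F) | ∃ (q : Fin D.nroots) (t : F), g = cgX F hD q.val t ∧
        ∀ i : Fin D.rank, cf D M d pi i.val q.val ≤ 0} := by
  rw [ChevalleyDatum.negUnipotent] at hg
  induction hg using Subgroup.closure_induction with
  | mem x hx =>
    obtain ⟨r, t, hr, e⟩ := hx
    obtain rfl : x = xg hD F r t := Units.ext e
    exact ⟨cgX F hD r t, rfl,
      Subgroup.subset_closure ⟨⟨r, hr.1⟩, t, rfl, (nonpos_iff hD hR T hr.1).2 ((isNeg_iff hD hr.1).1 hr)⟩⟩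
  | one => exact ⟨1, rfl, one_mem _⟩
  | mul x y _ _ hx hy =>
    obtain ⟨a, rfl, ha⟩ := hx
    obtain ⟨b, rfl, hb⟩ := hy
    exact ⟨a * b, rfl, mul_mem ha hb⟩
  | inv x _ hx =>
    obtain ⟨a, rfl, ha⟩ := hx
    exact ⟨a⁻¹, rfl, inv_mem ha⟩

variable (F) in
/-- The Gauss datum of a Chevalley group. -/
def chevGS : GSData ↥(D.group F) F D.rank (Fin D.nroots) where
  co r i := cf D M d pi i.val r.val
  el b i := ⟨if b = true then D.simple (nd pi i.val) else D.neg (D.simple (nd pi i.val)), by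
    cases b
    · exact hD.neg_lt _ (simple_pi_lt hD hR T i)
    · exact simple_pi_lt hD hR T i⟩
  X r := cgX F hD r.val
  tor := cgTor F hD hR T
  chi r := cgChi D F pi r.val
  k i j := kN D pi i.val j.val
  par i := ⟨nd par i.val, (T.par_lt i.val i.isLt).1⟩
  co_el b i j := by
    cases b
    · show cf D M d pi j.val (D.neg _) = _
      rw [cf_neg hD hR T (simple_pi_lt hD hR T i), cf_simple hD hR T]
      split <;> simp
    · show cf D M d pi j.val (D.simple _) = _
      rw [cf_simple hD hR T]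
      simp
  sign r := by
    by_cases hp : D.IsPosRoot r.val
    · exact Or.inl ((nonneg_iff hD hR T r.isLt).2 hp)
    · exact Or.inr ((nonpos_iff hD hR T r.isLt).2 hp)
  co_ne r := by
    by_contra hc
    push Not at hc
    have h1 := (nonneg_iff hD hR T r.isLt).1 fun i => (hc i).ge
    exact (nonpos_iff hD hR T r.isLt).1 (fun i => (hc i).le) h1
  line r i h := by
    have key : ∀ q < D.nroots, D.IsPosRoot q → (∀ j : Fin D.rank, j ≠ i → cf D M d pi j.val q = 0) →
        q = D.simple (nd pi i.val) := by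
      intro q hq hp hz
      refine hR.sole q hq hp _ (T.lt i.val i.isLt) fun k hk hne => ?_
      obtain ⟨j, hj, rfl⟩ := T.surj k hk
      rw [← d_mul_cf hD hR T hq ⟨j, hj⟩, hz ⟨j, hj⟩ (fun e => hne (by rw [← e])), mul_zero]
    by_cases hp : D.IsPosRoot r.val
    · exact Or.inl (Fin.ext (key r.val r.isLt hp h))
    · refine Or.inr (Fin.ext ?_)
      have h' := key _ (hD.neg_lt r.val r.isLt) ((pos_or_neg hD r.isLt).2 hp) fun j hj => by
        rw [cf_neg hD hR T r.isLt, neg_eq_zero]; exact h j hj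
      show r.val = D.neg _
      rw [← h', hD.neg_neg r.val r.isLt]
  indep i j hij hk r h := by
    have hne : i.val ≠ j.val := fun e => hij (Fin.ext e)
    have h0 : D.cartan (nd pi i.val) (D.simple (nd pi j.val)) = 0 := by
      have := T.np _ i.isLt _ j.isLt hne
      simp only [kN, Int.toNat_eq_zero] at hk
      omega
    rcases T.indep _ i.isLt _ j.isLt hne h0 r.val r.isLt (fun l hl h1 h2 => by
        rw [← d_mul_cf hD hR T r.isLt ⟨l, hl⟩,
          h ⟨l, hl⟩ (fun e => h1 (congrArg Fin.val e)) (fun e => h2 (congrArg Fin.val e)), mul_zero]) with e | e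
    · exact Or.inl (by rw [← d_mul_cf hD hR T r.isLt i] at e; exact (mul_eq_zero.1 e).resolve_left hR.d_pos.ne')
    · exact Or.inr (by rw [← d_mul_cf hD hR T r.isLt j] at e; exact (mul_eq_zero.1 e).resolve_left hR.d_pos.ne')
  X_add r a b := cgX_add F hD r.isLt a b
  X_ne b i a h := by
    refine xg_eq_one hD ?_ (congrArg Subtype.val h)
    cases b
    · exact hD.neg_lt _ (simple_pi_lt hD hR T i)
    · exact simple_pi_lt hD hR T i
  tor_X f r a := Subtype.ext (cgTorGL_xg hD hR T f r.val a)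
  comm r s h a b := cg_comm hD hR T h a b
  chi_neg i f := by
    show ∏ j, f j ^ D.pairing _ (D.neg (D.simple _)) = (∏ j, f j ^ D.pairing _ (D.simple _))⁻¹
    rw [← Finset.prod_inv_distrib]
    refine Finset.prod_congr rfl fun j _ => ?_
    rw [(isLin_pairing hD _).neg _ (simple_pi_lt hD hR T i), zpow_neg]
  chi_other i j hij w := by
    show cgChi D F pi (D.simple (nd pi j.val)) _ = _
    rw [cgChi_single, pairing_simple hD (T.lt i.val i.isLt)]
    have := T.np _ i.isLt _ j.isLt (fun e => hij (Fin.ext e))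
    rw [kN, inv_pow, ← zpow_natCast, Int.toNat_of_nonneg (by omega), zpow_neg, inv_inv]
  sl2 i a b w hw := cg_sl2 hD hR T i a b w hw
  uniq v hv f u hu h := by
    have hv' : (v : GL D.Idx F) ∈ D.negUnipotent F :=
      cg_side hD hR T (P := D.IsNegRoot) (Q := fun q => ∀ i : Fin D.rank, cf D M d pi i.val q ≤ 0)
        (fun q hq h => (isNeg_iff hD hq).2 ((nonpos_iff hD hR T hq).1 h)) hv
    have hu' : (u : GL D.Idx F) ∈ D.posUnipotent F :=
      cg_side hD hR T (P := D.IsPosRoot) (Q := fun q => ∀ i : Fin D.rank, 0 ≤ cf D M d pi i.val q)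
        (fun q hq h => (nonneg_iff hD hR T hq).1 h) hu
    have htor : cgTorGL D F pi f ∈ D.diagonalSubgroup F := by
      rw [← Finset.univ_prod_mulSingle f]
      induction (Finset.univ : Finset (Fin D.rank)) using Finset.induction_on with
      | empty => simp
      | insert i s hi ih =>
        rw [Finset.prod_insert hi, map_mul, cgTorGL_single hD hR T]
        exact mul_mem (Subgroup.subset_closure
          ⟨_, _, simple_pi_lt hD hR T i, (f i).ne_zero, coe_hg hD _ _⟩) ih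
    have h' : (v : GL D.Idx F) * cgTorGL D F pi f * (u : GL D.Idx F) = 1 := congrArg Subtype.val h
    have hB : (v : GL D.Idx F) ∈ D.borelSubgroup F := by
      rw [show (v : GL D.Idx F) = (u : GL D.Idx F)⁻¹ * (cgTorGL D F pi f)⁻¹ from
        eq_mul_inv_of_mul_eq (mul_eq_one_iff_eq_inv.1 h')]
      exact mul_mem (Subgroup.mem_sup_left (inv_mem hu')) (Subgroup.mem_sup_right (inv_mem htor))
    have hv1 : (v : GL D.Idx F) = 1 := Subgroup.mem_bot.1 (borel_inf_neg hD hR (F := F) ▸ ⟨hB, hv'⟩)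
    rw [hv1, one_mul] at h'
    have hu1 : (u : GL D.Idx F) = 1 := by
      refine Subgroup.mem_bot.1 (pos_inf_diag hD hR (F := F) ▸ Subgroup.mem_inf.2 ⟨hu', ?_⟩)
      rw [← mul_eq_one_iff_inv_eq.1 h']
      exact inv_mem htor
    exact ⟨Subtype.ext hv1, Subtype.ext hu1⟩
  opp := by
    obtain ⟨n, hn, hmap⟩ := opposition hD hR (F := F)
    have hng : n ∈ D.group F := (chev_G hD hR (F := F)) ▸ RGD.RootData.N_le_G _ ((chev_N hD hR (F := F)) ▸ hn)
    refine ⟨⟨n, hng⟩⁻¹, fun q t hq => ?_⟩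
    have h1 : xg hD F q.val t ∈ D.negUnipotent F :=
      Subgroup.subset_closure ⟨q.val, t, (isNeg_iff hD q.isLt).2 ((nonpos_iff hD hR T q.isLt).1 hq), rfl⟩
    rw [← hmap] at h1
    obtain ⟨y, hy, e⟩ := h1
    obtain ⟨z, rfl, hz⟩ := posUni_side hD hR T hy
    rw [show (⟨n, hng⟩ : ↥(D.group F))⁻¹ * cgX F hD q.val t * (⟨n, hng⟩⁻¹)⁻¹ = z from Subtype.ext (by
      show n⁻¹ * xg hD F q.val t * n⁻¹⁻¹ = z.1
      rw [← e]
      show n⁻¹ * (n * z.1 * n⁻¹) * n⁻¹⁻¹ = z.1
      group)]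
    exact hz
  opp' := by
    obtain ⟨n, hn, hmap⟩ := opposition hD hR (F := F)
    have hng : n ∈ D.group F := (chev_G hD hR (F := F)) ▸ RGD.RootData.N_le_G _ ((chev_N hD hR (F := F)) ▸ hn)
    refine ⟨⟨n, hng⟩, fun q t hq => ?_⟩
    have h1 : n * xg hD F q.val t * n⁻¹ ∈ D.negUnipotent F := by
      rw [← hmap]
      exact ⟨_, Subgroup.subset_closure ⟨q.val, t, (nonneg_iff hD hR T q.isLt).1 hq, rfl⟩, rfl⟩
    obtain ⟨z, hze, hz⟩ := negUni_side hD hR T h1
    rwa [← show z = ⟨n, hng⟩ * cgX F hD q.val t * ⟨n, hng⟩⁻¹ from Subtype.ext hze]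
  par_lt i hi := (T.par_lt i.val i.isLt).2 hi
  k_adj i j hij h := by
    rcases T.adj _ i.isLt _ j.isLt (fun e => hij (Fin.ext e)) h with ⟨h1, h2⟩ | ⟨h1, h2⟩
    · exact Or.inl ⟨h1, Fin.ext h2⟩
    · exact Or.inr ⟨h1, Fin.ext h2⟩
  k_pos i hi := T.k_pos i.val i.isLt hi
  k_up i hi := T.k_up i.val i.isLt hi
  k_down i := by
    simp only [Fin.ext_iff]
    exact T.k_down i
  gen := cg_gen hD hR T

end Cfsg.Agent.GaussPre
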