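import Cfsg.Agent.Lib.GaussPre.ChevGS
import Cfsg.Agent.Lib.ChevBN.RootTables

/-!
# The orderings of the nodes of the exceptional diagrams
-/

set_option autoImplicit false
set_option maxRecDepth 100000
set_option maxHeartbeats 4000000
set_option synthInstance.maxSize 4000
set_option synthInstance.maxHeartbeats 400000

namespace Cfsg.Agent.GaussPre

open Cfsg.Lie Cfsg.Agent.ChevBN

theorem gTabG2 : GTab chevG2 adjG2 1 [0, 1] [0, 0] := by constructor <;> decide +kernel
theorem gTabF4 : GTab chevF4 adjF4 1 [0, 1, 2, 3] [0, 0, 1, 2] := by constructor <;> decide +kernel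
theorem gTabE6 : GTab chevE6 adjE6 3 [3, 1, 2, 4, 0, 5] [0, 0, 0, 0, 2, 3] := by constructor <;> decide +kernel
theorem gTabE7 : GTab chevE7 adjE7 2 [3, 1, 2, 4, 0, 5, 6] [0, 0, 0, 0, 2, 3, 5] := by
  constructor <;> decide +kernel
theorem gTabE8 : GTab chevE8 adjE8 1 [3, 1, 2, 4, 0, 5, 6, 7] [0, 0, 0, 0, 2, 3, 5, 6] := by
  constructor <;> decide +kernel

end Cfsg.Agent.GaussPre
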