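import Cfsg.Agent.Lib.GaussPre.ChevLevi
import Cfsg.Agent.Lib.GaussPre.ChevTabs

/-!
# The Levi tables of the exceptional diagrams
-/

set_option autoImplicit false
set_option maxRecDepth 100000
set_option maxHeartbeats 4000000
set_option synthInstance.maxSize 4000
set_option synthInstance.maxHeartbeats 400000

namespace Cfsg.Agent.GaussPre

open Cfsg.Lie Cfsg.Agent.ChevBN

theorem lTabG2 : LTab chevG2 adjG2 1 0 [0, 1] [0, 1] [1, 2]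
    2 1 0 0 (-1)
    [[0, 7], [4, 0]]
    [[0, 1], [1, 0]]
    [1, 0, 1, 0, 1]
    [0] := by
  constructor <;> decide +kernel

theorem sTabF4 : STab chevF4 3
    [[0, 33, 34], [14, 0, 27], [13, 20, 0]]
    [[0, 1, -1], [1, 0, 1], [-1, 1, 0]] := by
  constructor <;> decide +kernel

theorem lTabF4 : LTab chevF4 adjF4 1 1 [0, 1, 2, 3] [0, 0, 1, 1] [3, 6, 9, 5]
    5 2 0 2 1
    [[0, 33, 34], [14, 0, 27], [13, 20, 0]]
    [[0, 1, -1], [1, 0, 1], [-1, 1, 0]]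
    [3, 2, 1, 2, 0, 1, 2, 3, 2, 1, 2, 0, 1, 2, 3, 2, 1, 2, 0, 1, 2]
    [1, 0] := by
  constructor <;> decide +kernel

theorem sTabE6 : STab chevE6 4
    [[0, 42, 43, 44], [29, 0, 39, 40], [28, 32, 0, 37], [27, 31, 34, 0]]
    [[0, 1, -1, 1], [1, 0, 1, -1], [-1, 1, 0, 1], [1, -1, 1, 0]] := by
  constructor <;> decide +kernel

theorem lTabE6 : LTab chevE6 adjE6 3 2 [3, 1, 2, 4, 0, 5] [0, 1, 0, 0, 1, 1] [7, 4, 5, 5, 3, 3]
    4 4 2 0 (-1)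
    [[0, 42, 43, 44], [29, 0, 39, 40], [28, 32, 0, 37], [27, 31, 34, 0]]
    [[0, 1, -1, 1], [1, 0, 1, -1], [-1, 1, 0, 1], [1, -1, 1, 0]]
    [4, 2, 0, 3, 5, 1, 0, 3, 2, 0, 4, 2, 1, 0, 3, 5, 3, 0, 4, 2, 1, 0, 3, 4, 2, 1, 0, 2, 1, 4]
    [0, 1, 2] := by
  constructor <;> decide +kernel

end Cfsg.Agent.GaussPre
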