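import Cfsg.Agent.Lib.GaussPre.ChevLevi
import Cfsg.Agent.Lib.GaussPre.ChevTabs

/-!
# The Levi tables of the exceptional diagrams
-/

set_option autoImplicit false
set_option maxRecDepth 100000
set_option maxHeartbeats 4000000
set_option synthInstance.maxSize 4000
set_option synthInstance.maxHeartbeats 400000

namespace Cfsg.Agent.GaussPre

open Cfsg.Lie Cfsg.Agent.ChevBN

theorem sTabE7 : STab chevE7 5
    [[0, 73, 74, 75, 76], [52, 0, 69, 70, 71], [51, 56, 0, 66, 67], [50, 55, 59, 0, 64], [49, 54, 58, 61, 0]]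
    [[0, 1, -1, 1, -1], [1, 0, 1, -1, 1], [-1, 1, 0, 1, -1], [1, -1, 1, 0, 1], [-1, 1, -1, 1, 0]] := by
  constructor <;> decide +kernel

theorem lTabE7 : LTab chevE7 adjE7 2 3 [3, 1, 2, 4, 0, 5, 6] [0, 1, 0, 0, 1, 0, 1] [13, 7, 9, 10, 5, 7, 4]
    5 4 2 0 (-1)
    [[0, 73, 74, 75, 76], [52, 0, 69, 70, 71], [51, 56, 0, 66, 67], [50, 55, 59, 0, 64], [49, 54, 58, 61, 0]]
    [[0, 1, -1, 1, -1], [1, 0, 1, -1, 1], [-1, 1, 0, 1, -1], [1, -1, 1, 0, 1], [-1, 1, -1, 1, 0]]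
    [6, 5, 3, 0, 2, 1, 0, 3, 5, 6, 4, 2, 0, 3, 5, 1, 0, 3, 2, 0, 4, 2, 1, 0, 3, 5, 6, 5, 1, 0, 3, 2, 0, 4, 2, 1, 0, 3, 5, 3, 0, 4, 2, 1, 0, 3, 4, 2, 1, 0, 2, 1, 4]
    [3, 2, 1, 0] := by
  constructor <;> decide +kernel

end Cfsg.Agent.GaussPre
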