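import Cfsg.Agent.Lib.GaussPre.ChevLevi
import Cfsg.Agent.Lib.GaussPre.ChevTabs

/-!
# The Levi tables of the exceptional diagrams
-/

set_option autoImplicit false
set_option maxRecDepth 100000
set_option maxHeartbeats 4000000
set_option synthInstance.maxSize 4000
set_option synthInstance.maxHeartbeats 400000

namespace Cfsg.Agent.GaussPre

open Cfsg.Lie Cfsg.Agent.ChevBN

theorem sTabE8 : STab chevE8 6
    [[0, 135, 136, 137, 138, 139], [104, 0, 130, 131, 132, 133], [103, 109, 0, 126, 127, 128], [102, 108, 113, 0, 123, 124], [101, 107, 112, 116, 0, 121], [100, 106, 111, 115, 118, 0]]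
    [[0, 1, -1, 1, -1, 1], [1, 0, 1, -1, 1, -1], [-1, 1, 0, 1, -1, 1], [1, -1, 1, 0, 1, -1], [-1, 1, -1, 1, 0, 1], [1, -1, 1, -1, 1, 0]] := by
  constructor <;> decide +kernel

theorem lTabE8 : LTab chevE8 adjE8 1 4 [3, 1, 2, 4, 0, 5, 6, 7] [0, 1, 0, 0, 1, 0, 0, 1] [31, 16, 21, 25, 11, 19, 13, 7]
    7 4 2 0 (-1)
    [[0, 135, 136, 137, 138, 139], [104, 0, 130, 131, 132, 133], [103, 109, 0, 126, 127, 128], [102, 108, 113, 0, 123, 124], [101, 107, 112, 116, 0, 121], [100, 106, 111, 115, 118, 0]]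
    [[0, 1, -1, 1, -1, 1], [1, 0, 1, -1, 1, -1], [-1, 1, 0, 1, -1, 1], [1, -1, 1, 0, 1, -1], [-1, 1, -1, 1, 0, 1], [1, -1, 1, -1, 1, 0]]
    [7, 6, 5, 3, 0, 2, 1, 0, 3, 5, 6, 4, 2, 0, 3, 5, 1, 0, 3, 2, 0, 4, 2, 1, 0, 3, 5, 6, 7, 6, 5, 3, 0, 2, 1, 0, 3, 5, 6, 4, 2, 0, 3, 5, 1, 0, 3, 2, 0, 4, 2, 1, 0, 3, 5, 6, 7, 1, 0, 3, 5, 6, 4, 2, 0, 3, 5, 1, 0, 3, 2, 0, 4, 2, 1, 0, 3, 5, 6, 5, 1, 0, 3, 2, 0, 4, 2, 1, 0, 3, 5, 3, 0, 4, 2, 1, 0, 3, 4, 2, 1, 0, 2, 1, 4]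
    [4, 3, 2, 1, 0] := by
  constructor <;> decide +kernel

end Cfsg.Agent.GaussPre
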