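import Cfsg.Agent.EqLemmas
import Mathlib.Algebra.Group.Conj
import Mathlib.GroupTheory.Subgroup.Center
import Mathlib.Data.Fintype.Card
import Mathlib.Tactic.Group

/-!
# Products of two conjugates through a parabolic decomposition

* `conj_translate` : an element without fixed points on a normalised finite subgroup absorbs translations;
* `TwoConj x g` : `g` is a product of two conjugates of `x`;
* `twoConj_of_parts` : the criterion; `square_of_surj` : passage to a quotient.
-/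

set_option autoImplicit false
set_option linter.unusedSectionVars false

namespace Cfsg.Agent.GaussPre

variable {G : Type*} [Group G]

/-- `g` is a product of two conjugates of `x`. -/
def TwoConj (x g : G) : Prop := ∃ u w : G, g = (u * x * u⁻¹) * (w * x * w⁻¹)

theorem TwoConj.of_isConj {x g g' : G} (h : TwoConj x g) (hc : IsConj g g') : TwoConj x g' := by
  obtain ⟨u, w, rfl⟩ := h
  obtain ⟨y, rfl⟩ := isConj_iff.1 hc
  exact ⟨y * u, y * w, by group⟩

theorem twoConj_of_isConj {x a b : G} (ha : IsConj x a) (hb : IsConj x b) : TwoConj x (a * b) := by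
  obtain ⟨u, rfl⟩ := isConj_iff.1 ha
  obtain ⟨w, rfl⟩ := isConj_iff.1 hb
  exact ⟨u, w, rfl⟩

variable [Finite G]

/-- A fixed point free normalising element absorbs translations. -/
theorem conj_translate (A : Subgroup G) {m : G} (hn : ∀ a ∈ A, m * a * m⁻¹ ∈ A)
    (hc : ∀ a ∈ A, m * a = a * m → a = 1) {v : G} (hv : v ∈ A) :
    IsConj m (v * m) ∧ IsConj m (m * v) := by
  have hsurj : ∀ y ∈ A, ∃ a ∈ A, m * a * m⁻¹ = y := by
    intro y hy
    let f : A → A := fun a => ⟨m * (a : G) * m⁻¹, hn _ a.2⟩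
    have hf : Function.Injective f := fun a b e => Subtype.ext (by
      have h : m * (a : G) * m⁻¹ = m * (b : G) * m⁻¹ := congrArg Subtype.val e
      exact mul_left_cancel (mul_right_cancel h))
    obtain ⟨a, ha⟩ := Finite.surjective_of_injective hf ⟨y, hy⟩
    exact ⟨a, a.2, congrArg Subtype.val ha⟩
  have left : ∀ w ∈ A, IsConj m (w * m) := by
    intro w hw
    let φ : A → A := fun a => ⟨(a : G) * (m * (a : G)⁻¹ * m⁻¹), mul_mem a.2 (hn _ (inv_mem a.2))⟩
    have hinj : Function.Injective φ := fun a b e => by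
      have e' : (a : G) * (m * (a : G)⁻¹ * m⁻¹) = (b : G) * (m * (b : G)⁻¹ * m⁻¹) := congrArg Subtype.val e
      have h := hc ((b : G)⁻¹ * a) (mul_mem (inv_mem b.2) a.2) (by
        calc m * ((b : G)⁻¹ * a) = (b : G)⁻¹ * ((b : G) * (m * (b : G)⁻¹ * m⁻¹)) * m * a := by group
          _ = _ := by rw [← e']; group)
      exact Subtype.ext (inv_mul_eq_one.1 h).symm
    obtain ⟨a, ha⟩ := Finite.surjective_of_injective hinj ⟨w, hw⟩
    refine isConj_iff.2 ⟨a, ?_⟩
    have e : (a : G) * (m * (a : G)⁻¹ * m⁻¹) = w := congrArg Subtype.val ha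
    rw [← e]; group
  refine ⟨left v hv, ?_⟩
  have h := left (m * v * m⁻¹) (hn v hv)
  rwa [show m * v * m⁻¹ * m = m * v by group] at h

/-- Products of two conjugates from a decomposition `v (a y a⁻¹) (b z b⁻¹) u`. -/
theorem twoConj_of_parts {P Q : Subgroup G} {x y z g : G} (hy : IsConj x y) (hz : IsConj x z)
    (hyP : ∀ v ∈ P, y * v * y⁻¹ ∈ P) (hyc : ∀ v ∈ P, y * v = v * y → v = 1)
    (hzQ : ∀ v ∈ Q, z * v * z⁻¹ ∈ Q) (hzc : ∀ v ∈ Q, z * v = v * z → v = 1)
    {v u a b : G} (hv : v ∈ P) (hu : u ∈ Q) (ha : ∀ w ∈ P, a⁻¹ * w * a ∈ P) (hb : ∀ w ∈ Q, b⁻¹ * w * b ∈ Q)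
    (hg : IsConj g (v * ((a * y * a⁻¹) * (b * z * b⁻¹)) * u)) : TwoConj x g := by
  have h1 : IsConj x (v * (a * y * a⁻¹)) := by
    have h := hy.trans (conj_translate P hyP hyc (ha v hv)).1
    exact h.trans (isConj_iff.2 ⟨a, by group⟩)
  have h2 : IsConj x (b * z * b⁻¹ * u) := by
    have h := hz.trans (conj_translate Q hzQ hzc (hb u hu)).2
    exact h.trans (isConj_iff.2 ⟨b, by group⟩)
  refine (twoConj_of_isConj h1 h2).of_isConj ?_
  rw [show v * (a * y * a⁻¹) * (b * z * b⁻¹ * u) = v * ((a * y * a⁻¹) * (b * z * b⁻¹)) * u by group]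
  exact hg.symm

/-- A covering class of a group gives a class whose square is a central quotient. -/
theorem square_of_surj {H : Type*} [Group H] (π : G →* H) (hπ : Function.Surjective π)
    (hker : ∀ z ∈ Subgroup.center G, π z = 1) {x : G} (hreal : IsConj (π x) (π x)⁻¹)
    (hcov : ∀ g, g ∉ Subgroup.center G → TwoConj x g) :
    ∃ c : H, ∀ h : H, ∃ a b : H, h = (a * c * a⁻¹) * (b * c * b⁻¹) := by
  refine ⟨π x, fun h => ?_⟩
  obtain ⟨g, rfl⟩ := hπ h
  by_cases hg : g ∈ Subgroup.center G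
  · obtain ⟨b, hb⟩ := isConj_iff.1 hreal
    exact ⟨1, b, by rw [hb, hker g hg]; group⟩
  · obtain ⟨u, w, rfl⟩ := hcov g hg
    exact ⟨π u, π w, by simp only [map_mul, map_inv]⟩

/-- The conclusion passes along isomorphisms. -/
theorem square_of_equiv {H : Type*} [Group H] (e : G ≃* H)
    (h : ∃ c : H, ∀ h : H, ∃ a b : H, h = (a * c * a⁻¹) * (b * c * b⁻¹)) :
    ∃ c : G, ∀ g : G, ∃ a b : G, g = (a * c * a⁻¹) * (b * c * b⁻¹) := by
  obtain ⟨c, hc⟩ := h
  refine ⟨e.symm c, fun g => ?_⟩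
  obtain ⟨a, b, hab⟩ := hc (e g)
  exact ⟨e.symm a, e.symm b, e.injective (by simp [hab])⟩

end Cfsg.Agent.GaussPre
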