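import Cfsg.Agent.Lib.SLComm.RegPair
import Mathlib.Data.Fintype.Card

/-!
# The standard regular unipotent matrix and products of two of its conjugates

* `jor1 k` : ones on the diagonal and above it; `exists_conj_inv` : it is conjugate to its inverse;
* `exists_pair` : in every dimension a non-scalar matrix of determinant one, and the identity in dimension one,
  is a product of two conjugates of it.
-/

set_option autoImplicit false
set_option linter.unusedSectionVars false
set_option linter.style.haveILetI false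

namespace Cfsg.Agent.GaussPre

open Matrix Cfsg.Agent.SLComm

variable (K : Type*) [Field K] (k : ℕ)

/-- Ones on the diagonal and above it. -/
def jorMat : Matrix (Fin k) (Fin k) K :=
  Matrix.of fun i j => if i = j then 1 else if j.val = i.val + 1 then 1 else 0

theorem jorMat_uReg : UReg (jorMat K k) := by
  refine ⟨fun i j h => ?_, fun i => by simp [jorMat], fun i j h => ?_⟩
  · have : j.val < i.val := h
    simp only [jorMat, Matrix.of_apply]
    rw [if_neg (Fin.ne_of_gt h), if_neg (by omega)]
  · simp only [jorMat, Matrix.of_apply]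
    rw [if_neg (fun e => by rw [e] at h; omega), if_pos h]
    exact one_ne_zero

/-- As an invertible matrix. -/
def jor1 : GL (Fin k) K :=
  Matrix.GeneralLinearGroup.mkOfDetNeZero (jorMat K k) (by rw [det_uReg (jorMat_uReg K k)]; exact one_ne_zero)

theorem jor1_coe : ((jor1 K k : GL (Fin k) K) : Matrix (Fin k) (Fin k) K) = jorMat K k := rfl

variable {K k}

/-- The inverse of a regular upper unitriangular matrix. -/
theorem uReg_inv {X Y : Matrix (Fin k) (Fin k) K} (hX : UReg X) (hXY : X * Y = 1) : UReg Y := by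
  haveI : Invertible X := Matrix.invertibleOfIsUnitDet X (by rw [det_uReg hX]; exact isUnit_one)
  have hY : Y = X⁻¹ := (Matrix.inv_eq_right_inv hXY).symm
  have hXt : X.BlockTriangular id := fun i j h => hX.1 i j h
  have hYt : ∀ i j, j < i → Y i j = 0 := fun i j h => by
    rw [hY]; exact (blockTriangular_inv_of_blockTriangular hXt) h
  have hYd : ∀ i, Y i i = 1 := fun i => by
    have h := congrFun (congrFun hXY i) i
    rw [Matrix.mul_apply, Finset.sum_eq_single i (fun l _ hl => by
      rcases lt_or_gt_of_ne hl with h' | h'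
      · rw [hX.1 i l h', zero_mul]
      · rw [hYt l i h', mul_zero]) (by simp), hX.2.1, one_mul, Matrix.one_apply_eq] at h
    exact h
  refine ⟨hYt, hYd, fun i j hij hY0 => ?_⟩
  have h := congrFun (congrFun hXY i) j
  have hne : i ≠ j := fun e => by rw [e] at hij; omega
  rw [Matrix.mul_apply, ← Finset.sum_subset (s₁ := {i, j}) (Finset.subset_univ _) (fun l _ hl => by
    simp only [Finset.mem_insert, Finset.mem_singleton, not_or] at hl
    rcases lt_or_gt_of_ne hl.1 with h' | h'
    · rw [hX.1 i l h', zero_mul]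
    · refine mul_eq_zero_of_right _ (hYt l j ?_)
      have h1 : i.val < l.val := h'
      have h2 : l.val ≠ j.val := fun e => hl.2 (Fin.ext e)
      show j.val < l.val
      omega), Finset.sum_pair hne, hY0, mul_zero, zero_add, hYd, mul_one, Matrix.one_apply_ne hne] at h
  exact hX.2.2 i j hij h

theorem exists_conj_inv : ∃ x : GL (Fin k) K, (jor1 K k)⁻¹ = x * jor1 K k * x⁻¹ := by
  refine exists_conj_of_sim ((sim_uReg (jorMat_uReg K k)).trans (sim_uReg (U := ((jor1 K k)⁻¹ : GL (Fin k) K).1) ?_).symm)
  refine uReg_inv (jorMat_uReg K k) ?_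
  rw [← jor1_coe, ← Units.val_mul, mul_inv_cancel, Units.val_one]

/-- Products of two conjugates of the regular unipotent matrix. -/
theorem exists_pair [Fintype K] (hK : 4 ≤ Fintype.card K) {g : GL (Fin k) K}
    (hdet : (g : Matrix (Fin k) (Fin k) K).det = 1)
    (hg : 2 ≤ k → ∀ c : K, (g : Matrix (Fin k) (Fin k) K) ≠ c • 1) :
    ∃ x y : GL (Fin k) K, g = (x * jor1 K k * x⁻¹) * (y * jor1 K k * y⁻¹) := by
  classical
  have hS : 4 ≤ (Finset.univ : Finset K).card := by rwa [Finset.card_univ]
  match k, g, hdet, hg with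
  | 0, g, _, _ => exact ⟨1, 1, Units.ext (Subsingleton.elim _ _)⟩
  | 1, g, hdet, _ =>
    refine ⟨1, 1, Units.ext ?_⟩
    ext i j
    rw [Subsingleton.elim i 0, Subsingleton.elim j 0]
    rw [Matrix.det_fin_one] at hdet
    simp [hdet, jor1_coe, jorMat, Matrix.mul_apply]
  | 2, g, hdet, hg =>
    have hns := hg le_rfl
    by_cases hr : ∀ l : Fin 2 → K, ∃ w, ((g : Matrix (Fin 2) (Fin 2) K) - 1) *ᵥ w ∉ Submodule.span K {l}
    · have hone : (fun _ => 1 : Fin 2 → K) ≠ 0 := fun h => one_ne_zero (congrFun h 0)
      obtain ⟨B, L, U, -, hB, hL, hU, he, -⟩ := regSplit Finset.univ hS 1 _ hdet (fun _ => ⟨hns, hr⟩) _ _ hone hone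
      exact pair_of_prod (jorMat_uReg K 2) hB (Or.inl hL) hU he
    push Not at hr
    obtain ⟨l, hl⟩ := hr
    obtain ⟨B, hB, he⟩ := transvection_form hdet (fun h => hns 1 (by rw [h, one_smul])) hl
    obtain ⟨t, -, ht⟩ := Finset.exists_mem_notMem_of_card_lt_card (s := ({0, 1} : Finset K)) (t := Finset.univ)
      (lt_of_le_of_lt Finset.card_le_two (by rw [Finset.card_univ]; omega))
    simp only [Finset.mem_insert, Finset.mem_singleton, not_or] at ht
    have hu : ∀ a : K, a ≠ 0 → UReg (!![1, a; 0, 1] : Matrix (Fin 2) (Fin 2) K) := fun a ha =>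
      ⟨fun i j h => by fin_cases i <;> fin_cases j <;> simp_all, fun i => by fin_cases i <;> simp,
        fun i j h => by fin_cases i <;> fin_cases j <;> simp_all⟩
    refine pair_of_prod (jorMat_uReg K 2) hB (Or.inr (hu t ht.1)) (hu (1 - t) (sub_ne_zero.2 (Ne.symm ht.2))) ?_
    rw [he]
    congr 1
    ext i j
    fin_cases i <;> fin_cases j <;> simp [Matrix.mul_apply, Fin.sum_univ_two]
  | m + 3, g, hdet, hg => exact exists_regular_pair Finset.univ hS (jorMat_uReg K _) (hg (by omega)) hdet

end Cfsg.Agent.GaussPre
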