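import Cfsg.Agent.Lib.GaussPre.SL
import Cfsg.Agent.Lib.GaussPre.Criterion

/-!
# `PSL₂` is the square of a class

* `exists_sq_ne_one` : a nonzero element with square different from one;
* `psl_square_two`.
-/

set_option autoImplicit false
set_option linter.unusedSectionVars false

namespace Cfsg.Agent.GaussPre

open Matrix Cfsg.Agent.SLRGD

variable {F : Type*} [Field F] [Fintype F]

theorem exists_sq_ne_one (hF : 9 ≤ Fintype.card F) : ∃ a : Fˣ, a ^ 2 ≠ 1 := by
  classical
  obtain ⟨a, ha⟩ := exists_notMem ({0, 1, -1} : Finset F) (lt_of_le_of_lt Finset.card_le_three (by omega))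
  simp only [Finset.mem_insert, Finset.mem_singleton, not_or] at ha
  refine ⟨Units.mk0 a ha.1, fun e => ?_⟩
  have e' : a ^ 2 = 1 := by simpa using congrArg Units.val e
  rcases sq_eq_one_iff.1 e' with h | h
  exacts [ha.2.1 h, ha.2.2 h]

local notation "Γ" => Matrix.SpecialLinearGroup (Fin (1 + 1)) F

theorem slV_two {v : Γ} (hv : v ∈ slV F 1) : v = (slSys F 1).xm 0 (v.1 1 0) := by
  apply Subtype.ext
  show v.1 = Matrix.transvection _ _ _
  ext i j
  rw [SLGen.tv_apply]
  fin_cases i <;> fin_cases j <;> simp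
  · exact hv.2 0
  · exact hv.1.1 (OrderDual.toDual_lt_toDual.2 (show (0 : Fin 2) < 1 by decide))
  · exact hv.2 1

theorem slU_two {v : Γ} (hv : v ∈ slU F 1) : v = (slSys F 1).xp 0 (v.1 0 1) := by
  apply Subtype.ext
  show v.1 = Matrix.transvection _ _ _
  ext i j
  rw [SLGen.tv_apply]
  fin_cases i <;> fin_cases j <;> simp
  · exact hv.2 0
  · exact hv.1.1 (show (0 : Fin 2) < 1 by decide)
  · exact hv.2 1

/-- `PSL₂` is the square of a class. -/
theorem psl_square_two (hF : 9 ≤ Fintype.card F) :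
    ∃ c : Matrix.ProjectiveSpecialLinearGroup (Fin (1 + 1)) F, ∀ h, ∃ a b, h = (a * c * a⁻¹) * (b * c * b⁻¹) := by
  classical
  haveI : Finite Γ := inferInstance
  set S := slSys F 1 with hS
  obtain ⟨a, ha⟩ := exists_sq_ne_one hF
  set τ : Fin 1 → Fˣ := Pi.mulSingle 0 a with hτ
  set x : Γ := S.tor τ with hx
  have hchi : ((S.chi 0 τ : Fˣ) : F) ≠ 1 := by
    show ((slDiag τ (0 : Fin 1).castSucc / slDiag τ (0 : Fin 1).succ : Fˣ) : F) ≠ 1
    rw [hτ, slDiag_single, slDiag_single, if_pos rfl, if_neg (by decide), if_pos rfl, div_inv_eq_mul, ← sq]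
    exact fun e => ha (Units.ext e)
  set W : Γ := swapW F 1 (show (0 : Fin 2) ≠ 1 by decide) with hW
  have hreal : IsConj x x⁻¹ := by
    refine isConj_iff.2 ⟨W, ?_⟩
    have e : W * x = x⁻¹ * W := by
      rw [hx, ← map_inv]
      apply Subtype.ext
      show W.1 * (slTor F 1 τ).1 = (slTor F 1 τ⁻¹).1 * W.1
      rw [slTor_coe, slTor_coe]
      ext i j
      rw [Matrix.mul_diagonal, Matrix.diagonal_mul, hW, swapW_apply,
        show τ⁻¹ = Pi.mulSingle 0 a⁻¹ by rw [hτ, Pi.mulSingle_inv], hτ, slDiag_single, slDiag_single]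
      fin_cases i <;> fin_cases j <;> simp
    rw [e, mul_inv_cancel_right]
  have hconjV : ∀ f v, v ∈ slV F 1 → S.tor f * v * (S.tor f)⁻¹ =
      S.xm 0 (v.1 1 0 / (S.chi 0 f : F)) := fun f v hv => by
    conv_lhs => rw [slV_two hv]
    rw [← hS, S.tor_xm', mul_inv_cancel_right]
  have hconjU : ∀ f v, v ∈ slU F 1 → S.tor f * v * (S.tor f)⁻¹ =
      S.xp 0 ((S.chi 0 f : F) * v.1 0 1) := fun f v hv => by
    conv_lhs => rw [slU_two hv]
    rw [← hS, S.tor_xp, mul_inv_cancel_right]
  refine square_of_surj (QuotientGroup.mk' (Subgroup.center Γ)) (QuotientGroup.mk'_surjective _)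
    (fun z hz => (QuotientGroup.eq_one_iff z).2 hz) (x := x) ?_ fun g hg => ?_
  · rw [← map_inv]; exact MonoidHom.map_isConj _ hreal
  obtain ⟨v, hv, u, hu, hgc⟩ := S.exists_gauss hF hg 1
  refine twoConj_of_parts (P := slV F 1) (Q := slU F 1) (IsConj.refl x) hreal ?_ ?_ ?_ ?_ (v := v) (u := u)
    (a := 1) (b := 1) hv hu (fun w hw => by simpa using hw) (fun w hw => by simpa using hw) ?_
  · intro w hw
    rw [hx, hconjV τ w hw]
    exact S.xm_mem _ _
  · intro w hw hc
    have h := hconjV τ w hw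
    rw [← hx, hc, mul_inv_cancel_right] at h
    have h' := congrArg (fun g : Γ => S.c 0 g) h
    simp only [S.c_xm_self] at h'
    have hw' : w.1 1 0 = 0 := by
      have hce : S.c 0 w = w.1 1 0 := rfl
      rw [hce, eq_div_iff (Units.ne_zero _)] at h'
      have : w.1 1 0 * ((S.chi 0 τ : F) - 1) = 0 := by linear_combination h'
      exact (mul_eq_zero.1 this).resolve_right (sub_ne_zero.2 hchi)
    rw [slV_two hw, hw', ← hS, S.xm_zero]
  · intro w hw
    rw [hx, ← map_inv, hconjU _ w hw]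
    exact S.xp_mem _ _
  · intro w hw hc
    have h := hconjU τ⁻¹ w hw
    rw [map_inv, ← hx, hc, mul_inv_cancel_right] at h
    have h' := congrArg (fun g : Γ => S.d 0 g) h
    simp only [S.d_xp_self] at h'
    have hw' : w.1 0 1 = 0 := by
      have hde : S.d 0 w = w.1 0 1 := rfl
      rw [hde, map_inv, Units.val_inv_eq_inv_val] at h'
      have hne : (S.chi 0 τ : F) ≠ 0 := Units.ne_zero _
      field_simp at h'
      have : w.1 0 1 * ((S.chi 0 τ : F) - 1) = 0 := by linear_combination h'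
      exact (mul_eq_zero.1 this).resolve_right (sub_ne_zero.2 hchi)
    rw [slU_two hw, hw', ← hS, S.xp_zero]
  · rw [map_one, mul_one] at hgc
    simpa using hgc

end Cfsg.Agent.GaussPre
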