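import Cfsg.Agent.Lib.GaussPre.SLBlock
import Cfsg.Agent.Lib.GaussPre.SLTwo
import Cfsg.Agent.Lib.GaussPre.GLPair

/-!
# `PSL_n` is the square of a class

* `tri_ne_scalar` : a product `L H U` with two different first diagonal entries of `H` is not scalar;
* `psl_square` : every `PSL_n` over a field with at least nine elements is the square of a class.
-/

set_option autoImplicit false
set_option linter.unusedSectionVars false

namespace Cfsg.Agent.GaussPre

open Matrix Cfsg.Agent.SLRGD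

variable {F : Type*} [Field F]

theorem tri_ne_scalar {k : ℕ} (hk : 2 ≤ k) {L U : Matrix (Fin k) (Fin k) F} (h : Fin k → F)
    (hL : (∀ i j, i < j → L i j = 0) ∧ ∀ i, L i i = 1) (hU : (∀ i j, j < i → U i j = 0) ∧ ∀ i, U i i = 1)
    (h0 : h ⟨0, by omega⟩ ≠ 0) (hne : h ⟨0, by omega⟩ ≠ h ⟨1, by omega⟩) (c : F) :
    L * diagonal h * U ≠ c • 1 := by
  intro e
  set z : Fin k := ⟨0, by omega⟩
  set o : Fin k := ⟨1, by omega⟩
  have hzo : z ≠ o := Fin.ne_of_val_ne (by norm_num [z, o])
  have ent : ∀ i j, (∑ l, L i l * h l * U l j) = if i = j then c else 0 := fun i j => by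
    have := congrFun (congrFun e i) j
    simp only [Matrix.mul_apply, Matrix.smul_apply, Matrix.one_apply, smul_eq_mul, mul_ite, mul_one, mul_zero] at this
    rw [← this]
    exact Finset.sum_congr rfl fun l _ => by
      rw [Finset.sum_eq_single l (fun x _ hx => by rw [Matrix.diagonal_apply_ne _ hx, mul_zero]) (by simp),
        Matrix.diagonal_apply_eq]
  have hLz : ∀ l, l ≠ z → L z l = 0 := fun l hl => hL.1 _ _ (by
    rw [Fin.lt_def]; have : l.val ≠ 0 := fun e => hl (Fin.ext e); show 0 < l.val; omega)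
  have hUz : ∀ l, l ≠ z → U l z = 0 := fun l hl => hU.1 _ _ (by
    rw [Fin.lt_def]; have : l.val ≠ 0 := fun e => hl (Fin.ext e); show 0 < l.val; omega)
  have e00 := ent z z
  rw [Finset.sum_eq_single z (fun l _ hl => by rw [hLz l hl, zero_mul, zero_mul]) (by simp), hL.2, hU.2, one_mul,
    mul_one, if_pos rfl] at e00
  have e01 := ent z o
  rw [Finset.sum_eq_single z (fun l _ hl => by rw [hLz l hl, zero_mul, zero_mul]) (by simp), hL.2, one_mul,
    if_neg hzo] at e01
  have hU0 : U z o = 0 := (mul_eq_zero.1 e01).resolve_left h0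
  have e11 := ent o o
  rw [Finset.sum_eq_single o (fun l _ hl => ?_) (by simp), hL.2, hU.2, one_mul, mul_one, if_pos rfl] at e11
  · exact hne (e00.trans e11.symm)
  by_cases hlz : l = z
  · rw [hlz, hU0, mul_zero]
  · have hlo : o < l := by
      rw [Fin.lt_def]
      have h1 : l.val ≠ 0 := fun e => hlz (Fin.ext e)
      have h2 : l.val ≠ 1 := fun e => hl (Fin.ext e)
      show 1 < l.val
      omega
    rw [hL.1 o l hlo, zero_mul, zero_mul]

variable [Fintype F]

local notation "SLn" k => Matrix.SpecialLinearGroup (Fin (k + 1 + 1)) F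

theorem psl_square_big (hF : 9 ≤ Fintype.card F) (k : ℕ) (hk1 : 1 ≤ k) :
    ∃ c : Matrix.ProjectiveSpecialLinearGroup (Fin (k + 1 + 1)) F,
      ∀ h, ∃ a b, h = (a * c * a⁻¹) * (b * c * b⁻¹) := by
  classical
  haveI : Finite (SLn k) := inferInstance
  obtain ⟨a, ha⟩ := exists_sq_ne_one hF
  have ha1 : a ≠ 1 := fun e => ha (by rw [e, one_pow])
  have haa : a ≠ a⁻¹ := fun e => ha (by rw [sq]; nth_rewrite 2 [e]; rw [mul_inv_cancel])
  set J := jor1 F k with hJ
  have hJdet : (J : Matrix (Fin k) (Fin k) F).det = 1 := SLComm.det_uReg (jorMat_uReg F k)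
  -- elements of `SL` from block matrices
  have mk : ∀ (d : Fin 2 → Fˣ) (A : GL (Fin k) F), (d 0 : F) * d 1 * A.1.det = 1 →
      ∃ g : (SLn k), toG g = embHom F k (d, A) ∧ g ∈ slM F k := by
    intro d A hd
    refine ⟨⟨(embHom F k (d, A)).1, by rw [embHom_coe, ofB_det_low, det_diagonal, Fin.prod_univ_two]; exact hd⟩,
      Units.ext rfl, ⟨(d, A), Units.ext rfl⟩⟩
  obtain ⟨x, hx, hxM⟩ := mk ![a, a⁻¹] J (by simp [hJdet])
  obtain ⟨x', hx', hx'M⟩ := mk ![a⁻¹, a] J (by simp [hJdet])
  -- conjugacy in `GL` suffices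
  have glconj : ∀ (g : (SLn k)) (Y : GL (Fin (k + 1 + 1)) F), toG g = Y * toG x * Y⁻¹ → IsConj x g := by
    intro g Y hY
    set D := (Matrix.GeneralLinearGroup.det Y)⁻¹ with hD
    set Z := embHom F k (![D, 1], 1) with hZ
    have hdet : (Y * Z).1.det = 1 := by
      rw [Units.val_mul, det_mul, hZ, embHom_coe, ofB_det_low, det_diagonal, Fin.prod_univ_two]
      simp [hD]
      exact mul_inv_cancel₀ (Matrix.GeneralLinearGroup.det Y).ne_zero
    let Yg : SLn k := ⟨(Y * Z).1, hdet⟩
    have he : toG Yg = Y * Z := Units.ext rfl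
    refine isConj_iff.2 ⟨Yg, Matrix.SpecialLinearGroup.toGL_injective ?_⟩
    have hcomm : Z * toG x * Z⁻¹ = toG x := by
      rw [hx, hZ, ← map_inv, ← map_mul, ← map_mul]
      congr 1
      simp [mul_comm]
    rw [map_mul, map_mul, map_inv]
    calc toG Yg * toG x * (toG Yg)⁻¹ = Y * (Z * toG x * Z⁻¹) * Y⁻¹ := by rw [he]; group
      _ = Y * toG x * Y⁻¹ := by rw [hcomm]
      _ = toG g := hY.symm
  set W : GL (Fin (k + 1 + 1)) F := Matrix.GeneralLinearGroup.mkOfDetNeZero (ofB !![0, 1; 1, 0] 0 0 1)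
    (by rw [ofB_det_low, det_one, Matrix.det_fin_two_of]; norm_num) with hW
  have hxW : toG x' = W * toG x * W⁻¹ := by
    rw [eq_mul_inv_iff_mul_eq, hx, hx']
    refine Units.ext ?_
    rw [Units.val_mul, Units.val_mul, embHom_coe, embHom_coe]
    show ofB _ _ _ _ * ofB _ _ _ _ = ofB _ _ _ _ * ofB _ _ _ _
    rw [ofB_mul, ofB_mul]
    congr 1
    · simp only [Matrix.mul_zero, Matrix.zero_mul, add_zero]
      ext i j; rw [Matrix.mul_diagonal, Matrix.diagonal_mul]; fin_cases i <;> fin_cases j <;> simp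
    · simp
    · simp
    · simp
  have hxx' : IsConj x x' := glconj x' W hxW
  obtain ⟨y₀, hy₀⟩ := exists_conj_inv (K := F) (k := k)
  have hreal : IsConj x x⁻¹ := by
    refine glconj x⁻¹ (embHom F k (1, y₀) * W) ?_
    have e : (embHom F k (1, y₀) * W) * toG x * (embHom F k (1, y₀) * W)⁻¹ =
        embHom F k (1, y₀) * (W * toG x * W⁻¹) * (embHom F k (1, y₀))⁻¹ := by group
    rw [e, ← hxW, hx', show toG x⁻¹ = (toG x)⁻¹ from map_inv _ x, hx, ← map_inv, ← map_inv, ← map_mul, ← map_mul]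
    congr 1
    refine Prod.ext ?_ ?_
    · funext i; fin_cases i <;> simp
    · simpa using hy₀
  have hfix : ∀ (g : (SLn k)) (d : Fin 2 → Fˣ), toG g = embHom F k (d, J) → d 0 ≠ d 1 → (∀ i, d i ≠ 1) →
      ∀ i, ((J : Matrix (Fin k) (Fin k) F) - (d i : F) • 1).det ≠ 0 := by
    intro g d _ _ hd i
    rw [Matrix.det_of_isUpperTriangular (fun p q h => by
      simp [(jorMat_uReg F k).1 p q h, hJ, jor1_coe, Matrix.one_apply_ne (fun e : p = q => ne_of_gt h e)])]
    refine Finset.prod_ne_zero_iff.2 fun p _ => ?_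
    simp [hJ, jor1_coe, (jorMat_uReg F k).2.1 p, sub_ne_zero]
    exact fun e => hd i (Units.ext e.symm)
  have hd1 : ∀ i, (![a, a⁻¹] : Fin 2 → Fˣ) i ≠ 1 := fun i => by fin_cases i <;> simp [ha1]
  have hd2 : ∀ i, (![a⁻¹, a] : Fin 2 → Fˣ) i ≠ 1 := fun i => by fin_cases i <;> simp [ha1]
  refine square_of_surj (QuotientGroup.mk' (Subgroup.center (SLn k))) (QuotientGroup.mk'_surjective _)
    (fun z hz => (QuotientGroup.eq_one_iff z).2 hz) (x := x) ?_ fun g hg => ?_
  · rw [← map_inv]; exact MonoidHom.map_isConj _ hreal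
  -- the torus element
  set τ : Fin (k + 1) → Fˣ := if h : 2 ≤ k then Pi.mulSingle ⟨2, by omega⟩ a else 1 with hτ
  set h3 : Fin k → F := fun j => (slDiag τ (blkEquiv k (Sum.inr j)) : F) with hh3
  have htop : ∀ i : Fin 2, slDiag τ (blkEquiv k (Sum.inl i)) = 1 := by
    intro i
    rw [hτ]
    split
    · rw [slDiag_single]
      have := blkEquiv_inl k i
      have hi := i.isLt
      simp only [Fin.ext_iff, Fin.val_castSucc, Fin.val_succ, this]
      rw [if_neg (by omega), if_neg (by omega)]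
    · simp [slDiag, extW]
  have hH0 : ∀ j, h3 j ≠ 0 := fun j => Units.ne_zero _
  set H : GL (Fin k) F := Matrix.GeneralLinearGroup.mkOfDetNeZero (diagonal h3)
    (by rw [det_diagonal]; exact Finset.prod_ne_zero_iff.2 fun j _ => hH0 j) with hH
  have htor : toG (slTor F (k + 1) τ) = embHom F k (1, H) := by
    refine Units.ext ?_
    show (slTor F (k + 1) τ).1 = _
    rw [slTor_coe, embHom_coe]
    ext p q
    obtain ⟨p, rfl⟩ := (blkEquiv k).surjective p
    obtain ⟨q, rfl⟩ := (blkEquiv k).surjective q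
    rcases p with p | p <;> rcases q with q | q
    · rw [ofB_apply₁₁]; simp [Matrix.diagonal_apply, htop]
    · rw [ofB_apply₁₂]; simp [Matrix.diagonal_apply]
    · rw [ofB_apply₂₁]; simp [Matrix.diagonal_apply]
    · rw [ofB_apply₂₂]
      show _ = diagonal h3 p q
      simp [Matrix.diagonal_apply, hh3]
  obtain ⟨v, hv, u, hu, hgc⟩ := (slSys F (k + 1)).exists_gauss hF hg τ
  obtain ⟨vP, hvP, vM, rfl, Dv, hvM, hDv, hDv0, hDv1⟩ := exists_split_low hv
  obtain ⟨uQ, huQ, uM, rfl, Du, huM, hDu, hDu0, hDu1⟩ := exists_split_up hu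
  have hHdet : (H : Matrix (Fin k) (Fin k) F).det = 1 := by
    have h := (slTor F (k + 1) τ).2
    have h' : (slTor F (k + 1) τ).1 = (embHom F k (1, H)).1 := congrArg Units.val htor
    rw [h', embHom_coe, ofB_det_low] at h
    simpa using h
  obtain ⟨y, z, hyz⟩ := exists_pair (g := Dv * H * Du) (by omega) (by simp [Units.val_mul, hDv, hDu, hHdet]) (by
    intro hk2 c
    refine tri_ne_scalar hk2 h3 ⟨hDv0, hDv1⟩ ⟨hDu0, hDu1⟩ (hH0 _) ?_ c
    rw [hh3, hτ]
    simp only [dif_pos hk2, slDiag_single, Fin.ext_iff, Fin.val_castSucc, Fin.val_succ, blkEquiv_inr]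
    norm_num
    exact fun e => haa (Units.ext (by rw [Units.val_inv_eq_inv_val]; exact e)))
  obtain ⟨A, hA, hAM⟩ := mk ![(Matrix.GeneralLinearGroup.det y)⁻¹, 1] y (by simpa using inv_mul_cancel₀ (Matrix.GeneralLinearGroup.det y).ne_zero)
  obtain ⟨B, hB, hBM⟩ := mk ![(Matrix.GeneralLinearGroup.det z)⁻¹, 1] z (by simpa using inv_mul_cancel₀ (Matrix.GeneralLinearGroup.det z).ne_zero)
  refine twoConj_of_parts (P := slP F k) (Q := slQ F k) (IsConj.refl x) hxx' ?_ ?_ ?_ ?_ (v := vP) (u := uQ)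
    (a := A) (b := B) hvP huQ
    (fun w hw => by simpa using slM_conj_P (inv_mem hAM) hw)
    (fun w hw => by simpa using slM_conj_Q (inv_mem hBM) hw) ?_
  · exact fun w hw => slM_conj_P hxM hw
  · exact fun w hw hc => fixP hx (by simpa using haa) (hfix x _ hx (by simpa using haa) hd1) hw hc
  · exact fun w hw => slM_conj_Q hx'M hw
  · exact fun w hw hc => fixQ hx' (by simpa using haa.symm) (hfix x' _ hx' (by simpa using haa.symm) hd2) hw hc
  have e : A * x * A⁻¹ * (B * x' * B⁻¹) = vM * slTor F (k + 1) τ * uM := by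
    refine Matrix.SpecialLinearGroup.toGL_injective ?_
    show toG _ = toG _
    simp only [map_mul, map_inv, hA, hB, hx, hx', hvM, huM, htor]
    simp only [← map_inv, ← map_mul]
    congr 1
    refine Prod.ext ?_ ?_
    · funext i; fin_cases i <;> simp <;> field_simp
    · simp only [Prod.snd_mul, Prod.snd_inv]
      exact hyz.symm
  rw [e]
  convert hgc using 1
  show _ = vP * vM * slTor F (k + 1) τ * (uM * uQ)
  group

/-- Every `PSL_n` over a field with at least nine elements is the square of a class. -/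
theorem psl_square (hF : 9 ≤ Fintype.card F) {n : ℕ} (hn : 2 ≤ n) :
    ∃ c : Matrix.ProjectiveSpecialLinearGroup (Fin n) F, ∀ h, ∃ a b, h = (a * c * a⁻¹) * (b * c * b⁻¹) := by
  match n, hn with
  | 2, _ => exact psl_square_two hF
  | k + 3, _ => exact psl_square_big hF (k + 1) (by omega)

end Cfsg.Agent.GaussPre
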