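import Cfsg.Agent.Lib.GaussPre.SL
import Cfsg.Agent.Lib.GaussPre.SLClass
import Cfsg.Agent.Lib.GaussPre.Criterion
import Mathlib.Algebra.CharP.Lemmas

/-!
# The criterion: the class of `s · J` in a Levi subgroup of type `A`

* `CoreData`, `CoreData.square` : a group with a Gauss system and such a subgroup squares a class to a
  central quotient.
-/

set_option autoImplicit false
set_option linter.unusedSectionVars false

namespace Cfsg.Agent.GaussPre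

open Matrix

variable {G : Type*} [Group G] {F : Type*} [Field F] {n : ℕ}

theorem eq_one_of_pow_char_pow (p : ℕ) [Fact p.Prime] [CharP F p] {l : F} {e : ℕ} (h : l ^ p ^ e = 1) : l = 1 := by
  rw [← sub_eq_zero]
  refine eq_zero_of_pow_eq_zero (n := p ^ e) ?_
  rw [sub_pow_char_pow, h, one_pow, sub_self]

variable (m : ℕ)

/-- What the criterion uses of a Levi subgroup: its centre part, its radicals and a chain `φ`. -/
structure CoreData (S : GaussSys G F n) where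
  φ : Matrix.SpecialLinearGroup (Fin (m + 2)) F →* G
  f : Fin n → Fˣ
  P : Subgroup G
  Q : Subgroup G
  M : Subgroup G
  tor_mid : S.tor f ∈ M
  φ_mid : ∀ A, φ A ∈ M
  comm_s : ∀ g ∈ M, Commute (S.tor f) g
  normP : ∀ g ∈ M, ∀ w ∈ P, g * w * g⁻¹ ∈ P ∧ g⁻¹ * w * g ∈ P
  normQ : ∀ g ∈ M, ∀ w ∈ Q, g * w * g⁻¹ ∈ Q ∧ g⁻¹ * w * g ∈ Q
  fixP : ∀ N : ℕ, (∀ c : F, c ^ N = 1 → c = 1) → ∀ w ∈ P, S.tor (f ^ N) * w = w * S.tor (f ^ N) → w = 1
  fixQ : ∀ N : ℕ, (∀ c : F, c ^ N = 1 → c = 1) → ∀ w ∈ Q, S.tor (f ^ N) * w = w * S.tor (f ^ N) → w = 1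
  splitV : ∀ v ∈ S.V, ∃ q ∈ P, ∃ T ∈ slV F (m + 1), v = q * φ T
  splitU : ∀ v ∈ S.U, ∃ q ∈ Q, ∃ T ∈ slU F (m + 1), v = q * φ T
  node : ∃ j, ∀ a, φ (slTor F (m + 1) (Pi.mulSingle 0 a)) = S.tor (Pi.mulSingle j a)
  diag : ∀ a : Fˣ, ∃ d ∈ M, ∃ Y : GL (Fin (m + 2)) F, Matrix.GeneralLinearGroup.det Y = a ∧
    ∀ A B : Matrix.SpecialLinearGroup (Fin (m + 2)) F,
      (Matrix.SpecialLinearGroup.toGL B : GL (Fin (m + 2)) F) = Y * Matrix.SpecialLinearGroup.toGL A * Y⁻¹ →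
        d * φ A * d⁻¹ = φ B
  flip : ∃ w : G, w * S.tor f * w⁻¹ = (S.tor f)⁻¹ ∧ ∃ A B : Matrix.SpecialLinearGroup (Fin (m + 2)) F,
    w * φ A * w⁻¹ = φ B ∧ IsConj (jor1 F (m + 2)) (Matrix.SpecialLinearGroup.toGL A) ∧
      IsConj (jor1 F (m + 2)) (Matrix.SpecialLinearGroup.toGL B)

namespace CoreData

variable {m} {S : GaussSys G F n} (L : CoreData m S)

local notation "SLm" => Matrix.SpecialLinearGroup (Fin (m + 2)) F
local notation "toG" => (Matrix.SpecialLinearGroup.toGL : SLm →* GL (Fin (m + 2)) F)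

/-- Conjugacy in the general linear group is realised in the centraliser of the central element. -/
theorem exists_conj {A B : SLm} {y : GL (Fin (m + 2)) F} (h : toG B = y * toG A * y⁻¹) :
    ∃ g ∈ L.M, g * L.φ A * g⁻¹ = L.φ B := by
  obtain ⟨d, hd, Y, hY, hconj⟩ := L.diag (Matrix.GeneralLinearGroup.det y)
  have hdet : (y * Y⁻¹).1.det = 1 := by
    rw [← Matrix.GeneralLinearGroup.val_det_apply, map_mul, map_inv, hY, mul_inv_cancel, Units.val_one]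
  let S : SLm := ⟨(y * Y⁻¹).1, hdet⟩
  have hS : toG S = y * Y⁻¹ := Units.ext rfl
  have hC : toG (S⁻¹ * B * S) = Y * toG A * Y⁻¹ := by
    rw [map_mul, map_mul, map_inv, h, hS]; group
  refine ⟨L.φ S * d, mul_mem (L.φ_mid S) hd, ?_⟩
  rw [show L.φ S * d * L.φ A * (L.φ S * d)⁻¹ = L.φ S * (d * L.φ A * d⁻¹) * (L.φ S)⁻¹ by group,
    hconj A _ hC, ← map_inv, ← map_mul, ← map_mul]
  congr 1
  group

variable [Finite G] [Fintype F]

include L in
/-- The class of `s · J` squares to a central quotient. -/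
theorem square {H : Type*} [Group H] (π : G →* H) (hπ : Function.Surjective π)
    (hker : ∀ z ∈ Subgroup.center G, π z = 1) (hF : 9 ≤ Fintype.card F) :
    ∃ c : H, ∀ h : H, ∃ a b : H, h = (a * c * a⁻¹) * (b * c * b⁻¹) := by
  classical
  obtain ⟨p, hp⟩ := CharP.exists F
  haveI : Fact p.Prime := ⟨CharP.char_is_prime F p⟩
  set s := S.tor L.f with hs
  let J : SLm := ⟨jorMat F (m + 2), SLComm.det_uReg (jorMat_uReg F (m + 2))⟩
  have hJ : toG J = jor1 F (m + 2) := Units.ext rfl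
  set x := s * L.φ J with hx
  have hsφ : ∀ A, Commute s (L.φ A) := fun A => L.comm_s _ (L.φ_mid A)
  have hsc : ∀ A g : G, g ∈ L.M → g * (s * A) * g⁻¹ = s * (g * A * g⁻¹) := fun A g hg => by
    rw [← mul_assoc, ← (L.comm_s _ hg).eq]; simp only [hs]; group
  have hmem : ∀ A, s * L.φ A ∈ L.M := fun A =>
    mul_mem L.tor_mid (L.φ_mid A)
  -- a power of `x` in the torus
  obtain ⟨e, hJN⟩ : ∃ e : ℕ, J ^ p ^ e = 1 := by
    refine ⟨m + 2, Subtype.ext ?_⟩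
    have hU := jorMat_uReg F (m + 2)
    have hnil : (jorMat F (m + 2) - 1) ^ p ^ (m + 2) = 0 := by
      have hchar : (jorMat F (m + 2) - 1).charpoly = Polynomial.X ^ (m + 2) := by
        have htri : (jorMat F (m + 2) - 1).IsUpperTriangular := fun i j h => by
          rw [Matrix.sub_apply, hU.1 i j h, Matrix.one_apply_ne (fun e : i = j => ne_of_gt h e), sub_zero]
        rw [Matrix.charpoly_of_isUpperTriangular _ htri]
        simp [hU.2.1]
      have h0 := Matrix.aeval_self_charpoly (jorMat F (m + 2) - 1)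
      rw [hchar, Polynomial.aeval_X_pow] at h0
      exact pow_eq_zero_of_le (Nat.lt_pow_self (Fact.out : p.Prime).one_lt).le h0
    show ((J : Matrix (Fin (m + 2)) (Fin (m + 2)) F)) ^ p ^ (m + 2) = 1
    rw [sub_pow_char_pow_of_commute _ _ (Commute.one_right _), one_pow, sub_eq_zero] at hnil
    exact hnil
  have hxN : x ^ p ^ e = S.tor (L.f ^ p ^ e) := by
    rw [hx, (hsφ J).mul_pow, ← map_pow L.φ, hJN, map_one, mul_one, hs, map_pow]
  have hpow : ∀ c : F, c ^ p ^ e = 1 → c = 1 := fun c h => eq_one_of_pow_char_pow p h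
  have hcN : ∀ w, x * w = w * x → S.tor (L.f ^ p ^ e) * w = w * S.tor (L.f ^ p ^ e) := fun w hc => by
    rw [← hxN]; exact ((show Commute x w from hc).pow_left _).eq
  -- reality
  have hreal : IsConj x x⁻¹ := by
    obtain ⟨w, hws, A, B, hAB, hA, hB⟩ := L.flip
    obtain ⟨yA, hyA⟩ := isConj_iff.1 hA
    obtain ⟨yB, hyB⟩ := isConj_iff.1 hB
    obtain ⟨y₀, hy₀⟩ := exists_conj_inv (K := F) (k := m + 2)
    obtain ⟨g₁, hg₁, e₁⟩ := L.exists_conj (A := J) (B := A) (y := yA) (by rw [hJ, hyA])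
    obtain ⟨g₂, hg₂, e₂⟩ := L.exists_conj (A := B) (B := J⁻¹) (y := y₀ * yB⁻¹)
      (by rw [map_inv, hJ, hy₀, ← hyB]; group)
    refine isConj_iff.2 ⟨g₂ * w * g₁, ?_⟩
    calc g₂ * w * g₁ * x * (g₂ * w * g₁)⁻¹ = g₂ * (w * (g₁ * x * g₁⁻¹) * w⁻¹) * g₂⁻¹ := by group
      _ = g₂ * (w * s * w⁻¹ * (w * L.φ A * w⁻¹)) * g₂⁻¹ := by rw [hx, hsc _ _ hg₁, e₁]; group
      _ = g₂ * (s⁻¹ * L.φ B) * g₂⁻¹ := by rw [hws, hAB]
      _ = s⁻¹ * (g₂ * L.φ B * g₂⁻¹) := by rw [← mul_assoc, ← (L.comm_s _ hg₂).inv_left.eq]; simp only [hs]; group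
      _ = x⁻¹ := by rw [e₂, hx, map_inv, _root_.mul_inv_rev, (hsφ J).inv_inv.eq]
  refine square_of_surj π hπ hker (x := x) ?_ fun g hg => ?_
  · rw [← map_inv]; exact MonoidHom.map_isConj π hreal
  obtain ⟨a, ha⟩ := exists_sq_ne_one hF
  obtain ⟨j, hj⟩ := L.node
  obtain ⟨v, hv, u, hu, hgc⟩ := S.exists_gauss hF hg (L.f * L.f * Pi.mulSingle j a)
  obtain ⟨vP, hvP, T, hT, rfl⟩ := L.splitV v hv
  obtain ⟨uQ, huQ, U, hU, hue⟩ := L.splitU u⁻¹ (inv_mem hu)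
  set H₀ := slTor F (m + 1) (Pi.mulSingle 0 a)
  set Z := T * H₀ * U⁻¹ with hZ
  have hUi := inv_mem hU
  obtain ⟨y, z, hyz⟩ := exists_pair (K := F) (g := toG Z) (by omega) Z.2 (by
    intro hk c
    show Z.1 ≠ _
    rw [hZ, Matrix.SpecialLinearGroup.coe_mul, Matrix.SpecialLinearGroup.coe_mul, slTor_coe]
    refine tri_ne_scalar hk _ ⟨fun i j h => hT.1.1 (OrderDual.toDual_lt_toDual.2 h), hT.2⟩
      ⟨fun i j h => hUi.1.1 h, hUi.2⟩ (Units.ne_zero _) ?_ c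
    rw [slDiag_single, slDiag_single]
    simp only [Fin.ext_iff, Fin.val_castSucc, Fin.val_succ, Fin.val_zero]
    norm_num
    intro e
    exact ha (by
      rw [sq]; nth_rewrite 2 [show a = a⁻¹ from Units.ext (by rw [Units.val_inv_eq_inv_val]; exact e)]
      rw [mul_inv_cancel]))
  have mkc : ∀ y : GL (Fin (m + 2)) F, ∃ A : SLm, toG A = y * toG J * y⁻¹ := fun y =>
    ⟨⟨(y * toG J * y⁻¹).1, by
      rw [← Matrix.GeneralLinearGroup.val_det_apply, map_mul, map_mul, map_inv, mul_right_comm,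
        mul_inv_cancel, one_mul, Matrix.GeneralLinearGroup.val_det_apply]
      exact J.2⟩, Units.ext rfl⟩
  obtain ⟨A₁, hA₁⟩ := mkc y
  obtain ⟨A₂, hA₂⟩ := mkc z
  obtain ⟨g₁, hg₁, e₁⟩ := L.exists_conj hA₁
  obtain ⟨g₂, hg₂, e₂⟩ := L.exists_conj hA₂
  have hA : A₁ * A₂ = Z := Matrix.SpecialLinearGroup.toGL_injective (by
    show toG (A₁ * A₂) = toG Z
    rw [map_mul, hA₁, hA₂, hJ, ← hyz])
  refine twoConj_of_parts (P := L.P) (Q := L.Q) (IsConj.refl x) (IsConj.refl x)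
    (fun w hw => (L.normP _ (hmem J) w hw).1) (fun w hw hc => L.fixP _ hpow w hw (hcN w hc))
    (fun w hw => (L.normQ _ (hmem J) w hw).1) (fun w hw hc => L.fixQ _ hpow w hw (hcN w hc))
    (v := vP) (u := uQ⁻¹) (a := g₁) (b := g₂) hvP (inv_mem huQ)
    (fun w hw => (L.normP _ hg₁ w hw).2) (fun w hw => (L.normQ _ hg₂ w hw).2) ?_
  convert hgc using 1
  rw [hx, hsc _ _ hg₁, hsc _ _ hg₂, e₁, e₂]
  have hu' : u = L.φ U⁻¹ * uQ⁻¹ := by rw [map_inv, ← inv_inv u, hue]; group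
  show _ = vP * L.φ T * S.tor (L.f * L.f * Pi.mulSingle j a) * u
  rw [hu', map_mul, map_mul, ← hj a]
  have hAA : L.φ A₁ * L.φ A₂ = L.φ T * L.φ H₀ * L.φ U⁻¹ := by rw [← map_mul, hA, hZ, map_mul, map_mul]
  calc vP * (s * L.φ A₁ * (s * L.φ A₂)) * uQ⁻¹ = vP * (s * (L.φ A₁ * s) * L.φ A₂) * uQ⁻¹ := by group
    _ = vP * (s * s * (L.φ A₁ * L.φ A₂)) * uQ⁻¹ := by rw [← (hsφ A₁).eq]; group
    _ = vP * (s * (s * L.φ T) * L.φ H₀ * L.φ U⁻¹) * uQ⁻¹ := by rw [hAA]; group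
    _ = vP * (s * (L.φ T * s) * L.φ H₀ * L.φ U⁻¹) * uQ⁻¹ := by rw [(hsφ T).eq]
    _ = vP * (s * L.φ T * (s * L.φ H₀) * L.φ U⁻¹) * uQ⁻¹ := by group
    _ = vP * (L.φ T * s * (s * L.φ H₀) * L.φ U⁻¹) * uQ⁻¹ := by rw [(hsφ T).eq]
    _ = _ := by simp only [hs, H₀]; group

end CoreData

end Cfsg.Agent.GaussPre
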