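import Cfsg.Agent.Lib.GaussPre.Gen
import Cfsg.Agent.Lib.GaussPre.Core

/-!
# The square of a class through a Levi subgroup of type `A`

* `wt`, `lev`, `mid` : the grading by a weight of the nodes, its unipotent subgroups and its centre part;
* `lev_fix` : a torus element acting by powers of a scalar has no fixed point on the graded part;
* `LeviData`, `square_of_levi` : the class of `s · J` squares to a central quotient.
-/

set_option autoImplicit false
set_option linter.unusedSectionVars false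

namespace Cfsg.Agent.GaussPre

open Matrix

variable {G : Type*} [Group G] {F : Type*} [Field F] {n : ℕ} {Φ : Type*}

namespace GSData

variable (D : GSData G F n Φ) (μ : Fin n → ℕ)

/-- The weight of a root. -/
def wt (r : Φ) : ℤ := ∑ i, (μ i : ℤ) * D.co r i

/-- The part of one sign of weight at least `l`. -/
def lev (b : Bool) (l : ℕ) : Subgroup G := D.span {q | (l : ℤ) ≤ sgn b * D.wt μ q}

/-- The torus with the root elements of weight zero. -/
def mid : Subgroup G := Subgroup.closure (Set.range D.tor ∪ {g | ∃ q t, g = D.X q t ∧ D.wt μ q = 0})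

theorem wt_comb {r s q : Φ} {x y : ℕ} (h : ∀ i, D.co q i = x * D.co r i + y * D.co s i) :
    D.wt μ q = x * D.wt μ r + y * D.wt μ s := by
  simp only [wt, h, Finset.mul_sum, ← Finset.sum_add_distrib]
  exact Finset.sum_congr rfl fun i _ => by ring

theorem wt_pair {r s : Φ} (h : D.wt μ r + D.wt μ s ≠ 0) : ∃ i, D.co r i + D.co s i ≠ 0 := by
  by_contra hc
  push Not at hc
  apply h
  rw [wt, wt, ← Finset.sum_add_distrib]
  exact Finset.sum_eq_zero fun i _ => by rw [← mul_add, hc i, mul_zero]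

theorem lev_mono (b : Bool) {l l' : ℕ} (h : l ≤ l') : D.lev μ b l' ≤ D.lev μ b l :=
  D.span_mono fun q hq => by
    show (l : ℤ) ≤ _
    have : (l : ℤ) ≤ l' := by exact_mod_cast h
    exact this.trans hq

theorem tor_conj_span {A : Set Φ} (f : Fin n → Fˣ) {g : G} (hg : g ∈ D.span A) :
    D.tor f * g * (D.tor f)⁻¹ ∈ D.span A := by
  induction hg using Subgroup.closure_induction with
  | mem x hx =>
    obtain ⟨q, t, rfl, hq⟩ := hx
    rw [D.tor_X, mul_inv_cancel_right]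
    exact D.mem_span hq _
  | one => simp
  | mul x y _ _ hx hy =>
    rw [show D.tor f * (x * y) * (D.tor f)⁻¹ = D.tor f * x * (D.tor f)⁻¹ * (D.tor f * y * (D.tor f)⁻¹) by group]
    exact mul_mem hx hy
  | inv x _ hx =>
    rw [show D.tor f * x⁻¹ * (D.tor f)⁻¹ = (D.tor f * x * (D.tor f)⁻¹)⁻¹ by group]
    exact inv_mem hx

theorem lev_roots {b : Bool} {l : ℕ} (hl : 0 < l) :
    ∀ r ∈ {q : Φ | 0 ≤ sgn b * D.wt μ q}, ∀ s ∈ {q : Φ | (l : ℤ) ≤ sgn b * D.wt μ q},
      (∃ i, D.co r i + D.co s i ≠ 0) ∧ D.comb r s ⊆ {q : Φ | (l : ℤ) ≤ sgn b * D.wt μ q} := by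
  intro r hr s hs
  simp only [Set.mem_setOf_eq] at hr hs
  have hl' : (0 : ℤ) < l := by exact_mod_cast hl
  refine ⟨D.wt_pair μ fun e => ?_, ?_⟩
  · have h' : sgn b * D.wt μ r + sgn b * D.wt μ s = 0 := by rw [← mul_add, e, mul_zero]
    omega
  rintro q ⟨x, y, hx, hy, hq⟩
  show (l : ℤ) ≤ _
  rw [D.wt_comb μ hq, mul_add, mul_left_comm, mul_left_comm (sgn b) (y : ℤ)]
  have hx0 : (0 : ℤ) ≤ x * (sgn b * D.wt μ r) := mul_nonneg (by positivity) hr
  have : 1 * (sgn b * D.wt μ s) ≤ (y : ℤ) * (sgn b * D.wt μ s) :=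
    mul_le_mul_of_nonneg_right (by exact_mod_cast hy) (by omega)
  omega

theorem mid_conj {b : Bool} {l : ℕ} (hl : 0 < l) {m g : G} (hm : m ∈ D.mid μ) (hg : g ∈ D.lev μ b l) :
    m * g * m⁻¹ ∈ D.lev μ b l ∧ m⁻¹ * g * m ∈ D.lev μ b l := by
  induction hm using Subgroup.closure_induction generalizing g with
  | mem x hx =>
    rcases hx with ⟨f, rfl⟩ | ⟨q, t, rfl, hq⟩
    · refine ⟨D.tor_conj_span f hg, ?_⟩
      have h := D.tor_conj_span f⁻¹ hg
      rwa [map_inv, inv_inv] at h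
    · have hr : q ∈ {q : Φ | 0 ≤ sgn b * D.wt μ q} := by simp [hq]
      refine ⟨D.conj_mem t (D.lev_roots μ hl q hr) hg, ?_⟩
      have h := D.conj_mem (-t) (D.lev_roots μ hl q hr) hg
      rwa [D.X_neg, inv_inv] at h
  | one => simpa using hg
  | mul x y _ _ hx hy =>
    constructor
    · rw [show x * y * g * (x * y)⁻¹ = x * (y * g * y⁻¹) * x⁻¹ by group]
      exact (hx (hy hg).1).1
    · rw [show (x * y)⁻¹ * g * (x * y) = y⁻¹ * (x⁻¹ * g * x) * y by group]
      exact (hy (hx hg).2).2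
  | inv x _ hx => exact ⟨by rw [inv_inv]; exact (hx hg).2, by rw [inv_inv]; exact (hx hg).1⟩

theorem lev_conj {b : Bool} {l l' : ℕ} (hl : 0 < l) {m g : G} (hm : m ∈ D.lev μ b l') (hg : g ∈ D.lev μ b l) :
    m * g * m⁻¹ ∈ D.lev μ b l ∧ m⁻¹ * g * m ∈ D.lev μ b l :=
  D.span_conj_mem (fun r hr => D.lev_roots μ hl r (le_trans (Int.natCast_nonneg l') hr)) hm hg

/-- Each graded piece is commutative modulo the next. -/
theorem lev_comm {b : Bool} {l : ℕ} (hl : 0 < l) {x y : G} (hx : x ∈ D.lev μ b l) (hy : y ∈ D.lev μ b l) :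
    x * y * x⁻¹ * y⁻¹ ∈ D.lev μ b (l + 1) := by
  have conj : ∀ {m g : G}, m ∈ D.lev μ b l → g ∈ D.lev μ b (l + 1) →
      m * g * m⁻¹ ∈ D.lev μ b (l + 1) ∧ m⁻¹ * g * m ∈ D.lev μ b (l + 1) :=
    fun hm hg => D.lev_conj μ (Nat.succ_pos l) hm hg
  induction hx using Subgroup.closure_induction generalizing y with
  | mem x hx =>
    obtain ⟨r, a, rfl, hr⟩ := hx
    induction hy using Subgroup.closure_induction with
    | mem y hy =>
      obtain ⟨s, c, rfl, hs⟩ := hy
      simp only [Set.mem_setOf_eq] at hr hs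
      have hl' : (0 : ℤ) < l := by exact_mod_cast hl
      refine D.span_mono ?_ (D.comm_mem (D.lev_roots μ hl r (le_trans hl'.le hr) s hs).1 a c)
      rintro q ⟨x, y, hx, hy, hq⟩
      show ((l + 1 : ℕ) : ℤ) ≤ _
      rw [D.wt_comb μ hq, mul_add, mul_left_comm, mul_left_comm (sgn b) (y : ℤ)]
      have h1 : 1 * (sgn b * D.wt μ r) ≤ (x : ℤ) * (sgn b * D.wt μ r) :=
        mul_le_mul_of_nonneg_right (by exact_mod_cast hx) (by omega)
      have h2 : 1 * (sgn b * D.wt μ s) ≤ (y : ℤ) * (sgn b * D.wt μ s) :=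
        mul_le_mul_of_nonneg_right (by exact_mod_cast hy) (by omega)
      push_cast
      omega
    | one => simp
    | mul y z hym _ hy hz =>
      set r := D.X r a
      rw [show r * (y * z) * r⁻¹ * (y * z)⁻¹ = r * y * r⁻¹ * y⁻¹ * (y * (r * z * r⁻¹ * z⁻¹) * y⁻¹) by group]
      exact mul_mem hy (conj hym hz).1
    | inv y hym hy =>
      set r := D.X r a
      rw [show r * y⁻¹ * r⁻¹ * (y⁻¹)⁻¹ = y⁻¹ * (r * y * r⁻¹ * y⁻¹)⁻¹ * y by group]
      exact (conj hym (inv_mem hy)).2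
  | one => simp
  | mul x₁ x₂ hx₁ _ h1 h2 =>
    rw [show x₁ * x₂ * y * (x₁ * x₂)⁻¹ * y⁻¹ =
      x₁ * (x₂ * y * x₂⁻¹ * y⁻¹) * x₁⁻¹ * (x₁ * y * x₁⁻¹ * y⁻¹) by group]
    exact mul_mem (conj hx₁ (h2 hy)).1 (h1 hy)
  | inv x hxm h =>
    rw [show x⁻¹ * y * (x⁻¹)⁻¹ * y⁻¹ = (x⁻¹ * (x * y * x⁻¹ * y⁻¹) * x)⁻¹ by group]
    exact inv_mem (conj hxm (h hy)).2

theorem lev_top {b : Bool} {h : ℕ} (hh : ∀ q, sgn b * D.wt μ q ≤ h) : D.lev μ b (h + 1) = ⊥ := by
  rw [lev, span, Subgroup.closure_eq_bot_iff]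
  rintro g ⟨q, t, -, hq⟩
  exfalso
  simp only [Set.mem_setOf_eq] at hq
  have := hh q
  push_cast at hq
  omega

variable [Finite G]

/-- A torus element acting on every positive level by a scalar different from one has no fixed point. -/
theorem lev_fix {b : Bool} {h : ℕ} (hh : ∀ q, sgn b * D.wt μ q ≤ h) (f : Fin n → Fˣ)
    (hf : ∀ q, 1 ≤ sgn b * D.wt μ q → (D.chi q f : F) ≠ 1) {v : G} (hv : v ∈ D.lev μ b 1)
    (hc : D.tor f * v = v * D.tor f) : v = 1 := by
  set S := D.tor f with hS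
  have hSc : ∀ {l : ℕ} {g : G}, g ∈ D.lev μ b l → S * g * S⁻¹ ∈ D.lev μ b l := fun hg => D.tor_conj_span f hg
  have hcm : ∀ {l : ℕ} {g : G}, g ∈ D.lev μ b l → g * S * g⁻¹ * S⁻¹ ∈ D.lev μ b l := fun {l g} hg => by
    rw [show g * S * g⁻¹ * S⁻¹ = g * (S * g⁻¹ * S⁻¹) by group]
    exact mul_mem hg (hSc (inv_mem hg))
  have step : ∀ l, 0 < l → ∀ v ∈ D.lev μ b l,
      ∃ c ∈ D.lev μ b l, v * (c * S * c⁻¹ * S⁻¹)⁻¹ ∈ D.lev μ b (l + 1) := by
    intro l hl v hv
    have mul : ∀ x y : G, x ∈ D.lev μ b l → y ∈ D.lev μ b l →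
        (∃ c ∈ D.lev μ b l, x * (c * S * c⁻¹ * S⁻¹)⁻¹ ∈ D.lev μ b (l + 1)) →
        (∃ c ∈ D.lev μ b l, y * (c * S * c⁻¹ * S⁻¹)⁻¹ ∈ D.lev μ b (l + 1)) →
        ∃ c ∈ D.lev μ b l, x * y * (c * S * c⁻¹ * S⁻¹)⁻¹ ∈ D.lev μ b (l + 1) := by
      intro x y hx hy ⟨c, hc, h1⟩ ⟨d, hd, h2⟩
      refine ⟨c * d, mul_mem hc hd, ?_⟩
      set p := c * S * c⁻¹ * S⁻¹
      set r := d * S * d⁻¹ * S⁻¹
      have e : x * y * (c * d * S * (c * d)⁻¹ * S⁻¹)⁻¹ =
          x * p⁻¹ * (p * (y * r⁻¹) * p⁻¹) * ((p * r * p⁻¹ * r⁻¹) * (r * c * r⁻¹ * c⁻¹)) := by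
        rw [show c * d * S * (c * d)⁻¹ * S⁻¹ = c * r * c⁻¹ * p by simp only [p, r]; group]
        group
      rw [e]
      exact mul_mem (mul_mem h1 (D.lev_conj μ (Nat.succ_pos l) (hcm hc) h2).1)
        (mul_mem (D.lev_comm μ hl (hcm hc) (hcm hd)) (D.lev_comm μ hl (hcm hd) hc))
    induction hv using Subgroup.closure_induction with
    | mem x hx =>
      obtain ⟨q, t, rfl, hq⟩ := hx
      have hl' : (1 : ℤ) ≤ l := by exact_mod_cast hl
      have hne := hf q (hl'.trans hq)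
      refine ⟨D.X q (t / (1 - (D.chi q f : F))), D.mem_span hq _, ?_⟩
      have e : D.X q (t / (1 - (D.chi q f : F))) * S * (D.X q (t / (1 - (D.chi q f : F))))⁻¹ * S⁻¹ = D.X q t := by
        rw [← D.X_neg, mul_assoc (D.X q _) S, hS, D.tor_X, ← mul_assoc, mul_inv_cancel_right, ← D.X_add]
        congr 1
        have : (1 : F) - (D.chi q f : F) ≠ 0 := sub_ne_zero.2 (Ne.symm hne)
        field_simp
        ring
      rw [e, mul_inv_cancel]
      exact one_mem _
    | one => exact ⟨1, one_mem _, by simp⟩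
    | mul x y hxm hym hx hy => exact mul x y hxm hym hx hy
    | inv x hxm hx =>
      have key : ∀ k : ℕ, ∃ c ∈ D.lev μ b l, x ^ k * (c * S * c⁻¹ * S⁻¹)⁻¹ ∈ D.lev μ b (l + 1) := by
        intro k
        induction k with
        | zero => exact ⟨1, one_mem _, by simp⟩
        | succ k ih => rw [pow_succ]; exact mul _ _ (pow_mem hxm k) hxm ih hx
      have he : x⁻¹ = x ^ (orderOf x - 1) := by
        rw [inv_eq_iff_mul_eq_one, ← pow_succ', Nat.sub_add_cancel (orderOf_pos x), pow_orderOf_eq_one]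
      rw [he]
      exact key _
  have surj : ∀ d l, 0 < l → l + d = h + 1 → ∀ v ∈ D.lev μ b l, ∃ c ∈ D.lev μ b l, v = c * S * c⁻¹ * S⁻¹ := by
    intro d
    induction d with
    | zero =>
      intro l _ he v hv
      rw [add_zero] at he
      rw [he, D.lev_top μ hh, Subgroup.mem_bot] at hv
      exact ⟨1, one_mem _, by simp [hv]⟩
    | succ d ih =>
      intro l hl he v hv
      obtain ⟨c, hc, hw⟩ := step l hl v hv
      set w := v * (c * S * c⁻¹ * S⁻¹)⁻¹ with hw'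
      obtain ⟨e, he', hwe⟩ := ih (l + 1) (Nat.succ_pos l) (by omega) (c⁻¹ * w * c)
        (D.lev_conj μ (Nat.succ_pos l) hc hw).2
      refine ⟨c * e, mul_mem hc (D.lev_mono μ b (Nat.le_succ l) he'), ?_⟩
      calc v = c * (c⁻¹ * w * c) * S * c⁻¹ * S⁻¹ := by rw [hw']; group
        _ = _ := by rw [hwe]; group
  let θ : D.lev μ b 1 → D.lev μ b 1 := fun c => ⟨(c : G) * S * (c : G)⁻¹ * S⁻¹, hcm c.2⟩
  have hsurj : Function.Surjective θ := fun x => by
    obtain ⟨c, hc, he⟩ := surj h 1 Nat.one_pos (by omega) x x.2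
    exact ⟨⟨c, hc⟩, Subtype.ext he.symm⟩
  have h1 : θ ⟨v, hv⟩ = θ 1 := Subtype.ext (by
    show v * S * v⁻¹ * S⁻¹ = (1 : G) * S * (1 : G)⁻¹ * S⁻¹
    rw [← hc]; group)
  exact congrArg Subtype.val ((Finite.injective_iff_surjective.2 hsurj) h1)

end GSData

variable (m : ℕ)

/-- What is needed of a Levi subgroup of type `A` of a split group. -/
structure LeviData (D : GSData G F n Φ) where
  μ : Fin n → ℕ
  φ : Matrix.SpecialLinearGroup (Fin (m + 2)) F →* G
  c : Fˣ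
  f : Fin n → Fˣ
  h : ℕ
  φ_mid : ∀ A, φ A ∈ D.mid μ
  neg_mem : ∀ q t, D.wt μ q = 0 → (∀ i, D.co q i ≤ 0) → ∃ L ∈ slV F (m + 1), φ L = D.X q t
  pos_mem : ∀ q t, D.wt μ q = 0 → (∀ i, 0 ≤ D.co q i) → ∃ U ∈ slU F (m + 1), φ U = D.X q t
  node : ∃ j, ∀ a, φ (slTor F (m + 1) (Pi.mulSingle 0 a)) = D.tor (Pi.mulSingle j a)
  diag : ∀ a : Fˣ, ∃ d ∈ D.mid μ, ∃ Y : GL (Fin (m + 2)) F, Matrix.GeneralLinearGroup.det Y = a ∧
    ∀ A B : Matrix.SpecialLinearGroup (Fin (m + 2)) F,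
      (Matrix.SpecialLinearGroup.toGL B : GL (Fin (m + 2)) F) = Y * Matrix.SpecialLinearGroup.toGL A * Y⁻¹ →
        d * φ A * d⁻¹ = φ B
  chi_f : ∀ q, D.chi q f = c ^ D.wt μ q
  bound : ∀ q, D.wt μ q ≤ h ∧ -(h : ℤ) ≤ D.wt μ q
  c_ne : ∀ l : ℕ, 0 < l → l ≤ h → c ^ l ≠ 1
  flip : ∃ w : G, w * D.tor f * w⁻¹ = (D.tor f)⁻¹ ∧ ∃ A B : Matrix.SpecialLinearGroup (Fin (m + 2)) F,
    w * φ A * w⁻¹ = φ B ∧ IsConj (jor1 F (m + 2)) (Matrix.SpecialLinearGroup.toGL A) ∧
      IsConj (jor1 F (m + 2)) (Matrix.SpecialLinearGroup.toGL B)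

namespace LeviData

variable {m} {D : GSData G F n Φ} (L : LeviData m D)

local notation "SLm" => Matrix.SpecialLinearGroup (Fin (m + 2)) F
local notation "toG" => (Matrix.SpecialLinearGroup.toGL : SLm →* GL (Fin (m + 2)) F)

theorem comm_s {g : G} (hg : g ∈ D.mid L.μ) : Commute (D.tor L.f) g := by
  induction hg using Subgroup.closure_induction with
  | mem x hx =>
    rcases hx with ⟨f, rfl⟩ | ⟨q, t, rfl, hq⟩
    · exact (Commute.all L.f f).map D.tor
    · show D.tor L.f * D.X q t = D.X q t * D.tor L.f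
      rw [D.tor_X, L.chi_f, hq, zpow_zero, Units.val_one, one_mul]
  | one => exact Commute.one_right _
  | mul x y _ _ hx hy => exact hx.mul_right hy
  | inv x _ hx => exact hx.inv_right

variable [Finite G] [Fintype F]

include L in
/-- The criterion applies. -/
theorem square {H : Type*} [Group H] (π : G →* H) (hπ : Function.Surjective π)
    (hker : ∀ z ∈ Subgroup.center G, π z = 1) (hF : 9 ≤ Fintype.card F) :
    ∃ c : H, ∀ h : H, ∃ a b : H, h = (a * c * a⁻¹) * (b * c * b⁻¹) := by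
  have fix : ∀ b, ∀ N : ℕ, (∀ c : F, c ^ N = 1 → c = 1) → ∀ w ∈ D.lev L.μ b 1,
      D.tor (L.f ^ N) * w = w * D.tor (L.f ^ N) → w = 1 := by
    intro b N hN w hw hc
    refine D.lev_fix L.μ (h := L.h) (fun q => ?_) (L.f ^ N) (fun q hq => ?_) hw hc
    · have := L.bound q
      cases b <;> simp only [GSData.sgn, Bool.false_eq_true, ite_false, ite_true] <;> omega
    · intro he
      rw [map_pow, L.chi_f, Units.val_pow_eq_pow_val] at he
      have h1 : L.c ^ D.wt L.μ q = 1 := Units.ext (hN _ he)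
      have hb := L.bound q
      cases b <;> simp only [GSData.sgn, Bool.false_eq_true, ite_false, ite_true] at hq
      · refine L.c_ne (-D.wt L.μ q).toNat (by omega) (by omega) ?_
        rw [← zpow_natCast, Int.toNat_of_nonneg (by omega), _root_.zpow_neg, h1, inv_one]
      · refine L.c_ne (D.wt L.μ q).toNat (by omega) (by omega) ?_
        rw [← zpow_natCast, Int.toNat_of_nonneg (by omega), h1]
  have split : ∀ b, ∀ v ∈ D.side b, ∃ q ∈ D.lev L.μ b 1,
      ∃ T ∈ (if b = true then slU F (m + 1) else slV F (m + 1)), v = q * L.φ T := by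
    intro b v hv
    induction hv using Subgroup.closure_induction with
    | mem y hy =>
      obtain ⟨q, t, rfl, hq⟩ := hy
      have hnn : 0 ≤ GSData.sgn b * D.wt L.μ q := by
        rw [GSData.wt, Finset.mul_sum]
        exact Finset.sum_nonneg fun i _ => by rw [mul_left_comm]; exact mul_nonneg (by positivity) (hq i)
      rcases hnn.lt_or_eq with hlt | heq
      · exact ⟨_, D.mem_span (show q ∈ {q | ((1 : ℕ) : ℤ) ≤ GSData.sgn b * D.wt L.μ q} by
          show ((1 : ℕ) : ℤ) ≤ _; omega) t, 1, one_mem _, by rw [map_one, mul_one]⟩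
      · have h0 : D.wt L.μ q = 0 := by cases b <;> simp [GSData.sgn] at heq <;> omega
        cases b
        · obtain ⟨T, hT, e⟩ := L.neg_mem q t h0 (fun i => by
            have := hq i; simp only [GSData.sgn, Bool.false_eq_true, ite_false] at this; omega)
          exact ⟨1, one_mem _, T, hT, by rw [e, one_mul]⟩
        · obtain ⟨T, hT, e⟩ := L.pos_mem q t h0 (fun i => by
            have := hq i; simp only [GSData.sgn, ite_true, one_mul] at this; exact this)
          exact ⟨1, one_mem _, T, hT, by rw [e, one_mul]⟩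
    | one => exact ⟨1, one_mem _, 1, one_mem _, by rw [map_one, mul_one]⟩
    | mul y z _ _ hy hz =>
      obtain ⟨q, hq, T, hT, rfl⟩ := hy
      obtain ⟨r, hr, U, hU, rfl⟩ := hz
      refine ⟨q * (L.φ T * r * (L.φ T)⁻¹), mul_mem hq (D.mid_conj L.μ Nat.one_pos (L.φ_mid T) hr).1,
        T * U, mul_mem hT hU, ?_⟩
      rw [map_mul]; group
    | inv y _ hy =>
      obtain ⟨q, hq, T, hT, rfl⟩ := hy
      refine ⟨(L.φ T)⁻¹ * q⁻¹ * L.φ T, (D.mid_conj L.μ Nat.one_pos (L.φ_mid T) (inv_mem hq)).2,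
        T⁻¹, inv_mem hT, ?_⟩
      rw [map_inv]; group
  refine CoreData.square (S := D.toSys (by omega)) (m := m)
    { φ := L.φ
      f := L.f
      P := D.lev L.μ false 1
      Q := D.lev L.μ true 1
      M := D.mid L.μ
      tor_mid := Subgroup.subset_closure (Or.inl ⟨L.f, rfl⟩)
      φ_mid := L.φ_mid
      comm_s := fun g hg => L.comm_s hg
      normP := fun g hg w hw => D.mid_conj L.μ Nat.one_pos hg hw
      normQ := fun g hg w hw => D.mid_conj L.μ Nat.one_pos hg hw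
      fixP := fix false
      fixQ := fix true
      splitV := split false
      splitU := split true
      node := L.node
      diag := L.diag
      flip := L.flip } π hπ hker hF

end LeviData

end Cfsg.Agent.GaussPre
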