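import Cfsg.Agent.Lib.GaussPre.ChevGS
import Cfsg.Agent.Lib.GaussPre.Levi
import Cfsg.Agent.S2401
import Cfsg.Agent.Lib.ChevSt.Centre

/-!
# Levi subgroups of type `A` in Chevalley groups

* `LTab` : the table conditions on a chain of roots, a weight and a word of fundamental reflections;
* `exists_chainHom` : the homomorphism of `SL` given by the chain;
* `chevLevi` : the resulting `LeviData`.
-/

set_option autoImplicit false
set_option linter.unusedSectionVars false

namespace Cfsg.Agent.GaussPre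

open Cfsg.Lie Cfsg.Lie.ChevalleyDatum Cfsg.Agent.Chev Cfsg.Agent.ChevBN Cfsg.Agent.ChevSt
open scoped commutatorElement

variable (D : ChevalleyDatum) (M : List (List ℤ)) (d : ℤ)

/-- An entry of a table of natural numbers. -/
def nd2 (l : List (List ℕ)) (i j : ℕ) : ℕ := nd (l.getD i []) j

/-- An entry of a table of integers. -/
def zd2 (l : List (List ℤ)) (i j : ℕ) : ℤ := (l.getD i []).getD j 0

/-- The weight of a root along an ordering. -/
def wtN (pi mu : List ℕ) (r : ℕ) : ℤ := ((List.range D.rank).map fun i => (nd mu i : ℤ) * cf D M d pi i r).sum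

/-- The action of a word of fundamental reflections. -/
def wd (pi word : List ℕ) (r : ℕ) : ℕ := word.foldr (fun i q => wN D (nd pi i) q) r

/-- The Steinberg relations of a chain of roots. -/
structure STab (k : ℕ) (rt : List (List ℕ)) (sg : List (List ℤ)) : Prop where
  comm : ∀ a < k, ∀ b < k, ∀ i < k, ∀ j < k, a ≠ b → i ≠ j → a ≠ j → b ≠ i →
    nd2 rt a b ≠ D.neg (nd2 rt i j) ∧
      (nd2 rt a b = nd2 rt i j ∨ D.commTerms (nd2 rt i j) (nd2 rt a b) = [])
  mid : ∀ i < k, ∀ j < k, ∀ l < k, i ≠ j → j ≠ l → i ≠ l →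
    nd2 rt i j ≠ nd2 rt j l ∧ nd2 rt i j ≠ D.neg (nd2 rt j l) ∧
      D.commTerms (nd2 rt j l) (nd2 rt i j) = [(nd2 rt i l, -(zd2 sg i j * zd2 sg j l * zd2 sg i l), 1, 1)]

/-- The table conditions on a Levi subgroup of type `A`. -/
structure LTab (m : ℕ) (pi mu e : List ℕ) (h i0 j P : ℕ) (eps : ℤ) (rt : List (List ℕ)) (sg : List (List ℤ))
    (word perm : List ℕ) : Prop where
  chi : ∀ r < D.nroots,
    ((List.range D.rank).map fun i => (nd e i : ℤ) * D.cartan (nd pi i) r).sum = wtN D M d pi mu r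
  bound : ∀ r < D.nroots, wtN D M d pi mu r ≤ h ∧ -(h : ℤ) ≤ wtN D M d pi mu r
  rt_ok : ∀ p < m + 2, ∀ q < m + 2, p ≠ q → nd2 rt p q < D.nroots ∧ wtN D M d pi mu (nd2 rt p q) = 0 ∧
    (zd2 sg p q = 1 ∨ zd2 sg p q = -1) ∧ (D.IsPosRoot (nd2 rt p q) ↔ p < q)
  cover : ∀ r < D.nroots, wtN D M d pi mu r = 0 → ∃ p < m + 2, ∃ q < m + 2, p ≠ q ∧ nd2 rt p q = r
  first : j < D.rank ∧ nd2 rt 0 1 = D.simple (nd pi j) ∧ nd2 rt 1 0 = D.neg (D.simple (nd pi j)) ∧
    zd2 sg 1 0 = zd2 sg 0 1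
  i0_lt : i0 < D.rank
  eps_sgn : eps = 1 ∨ eps = -1
  det : ∀ p < m + 2, ∀ q < m + 2, p ≠ q →
    D.cartan (nd pi i0) (nd2 rt p q) = (if p = P then eps else 0) - (if q = P then eps else 0)
  P_lt : P < m + 2
  word_lt : ∀ i ∈ word, i < D.rank
  word_wt : ∀ i < D.rank, wtN D M d pi mu (wd D pi word (D.simple (nd pi i))) =
      -wtN D M d pi mu (D.simple (nd pi i)) ∧
    wtN D M d pi mu (wd D pi word (D.neg (D.simple (nd pi i)))) =
      -wtN D M d pi mu (D.neg (D.simple (nd pi i)))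
  perm_ok : ∀ p < m + 1, nd perm p < m + 1 ∧ wd D pi word (nd2 rt p (p + 1)) = nd2 rt (nd perm p) (nd perm p + 1)
  perm_inj : ∀ p < m + 1, ∀ q < m + 1, nd perm p = nd perm q → p = q

variable {D M d} {F : Type*} [Field F] (hD : Good D) (hR : Roots D M d)

include hD in
theorem cgX_comm {r : ℕ} (hr : r < D.nroots) (a b : F) :
    cgX F hD r a * cgX F hD r b = cgX F hD r b * cgX F hD r a := by
  rw [← cgX_add F hD hr, ← cgX_add F hD hr, add_comm]

include hD in
/-- The homomorphism of a chain of roots. -/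
theorem exists_chainHom [Finite F] {m : ℕ} (hm : 1 ≤ m) {rt : List (List ℕ)} {sg : List (List ℤ)}
    (hlt : ∀ p < m + 2, ∀ q < m + 2, p ≠ q → nd2 rt p q < D.nroots ∧ (zd2 sg p q = 1 ∨ zd2 sg p q = -1))
    (S : STab D (m + 2) rt sg) :
    ∃ φ : Matrix.SpecialLinearGroup (Fin (m + 2)) F →* ↥(D.group F), ∀ (p q : Fin (m + 2)) (h : p ≠ q) (t : F),
      φ (SLRGD.x F (m + 1) h t) = cgX F hD (nd2 rt p.val q.val) ((zd2 sg p.val q.val : F) * t) := by
  classical
  obtain ⟨e, he⟩ := S2401.result (K := F) (m + 2) (by omega)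
  let f : {ij : Fin (m + 2) × Fin (m + 2) // ij.1 ≠ ij.2} × F → ↥(D.group F) := fun a =>
    cgX F hD (nd2 rt a.1.1.1.val a.1.1.2.val) ((zd2 sg a.1.1.1.val a.1.1.2.val : F) * a.2)
  have nv : ∀ {p q : Fin (m + 2)}, p ≠ q → p.val ≠ q.val := fun h e => h (Fin.ext e)
  refine ⟨(PresentedGroup.toGroup (f := f) ?_).comp e.symm.toMonoidHom, fun p q h t => ?_⟩
  · rintro g ((⟨⟨⟨a, b⟩, hab⟩, t, u, rfl⟩ | ⟨⟨⟨a, b⟩, hab⟩, ⟨⟨i, j⟩, hij⟩, t, u, h1, h2, rfl⟩) |
      ⟨⟨⟨i, j⟩, hij⟩, ⟨⟨j', l⟩, hjl⟩, h, t, u, h1, rfl⟩) <;>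
      simp only [map_mul, map_inv, FreeGroup.lift_apply_of, f]
    · rw [← cgX_add F hD (hlt _ a.isLt _ b.isLt (nv hab)).1, ← mul_add, mul_inv_cancel]
    · obtain ⟨hn, hc⟩ := S.comm _ a.isLt _ b.isLt _ i.isLt _ j.isLt (nv hab) (nv hij)
        (nv h1) (nv h2)
      have r1 := (hlt _ a.isLt _ b.isLt (nv hab)).1
      have r2 := (hlt _ i.isLt _ j.isLt (nv hij)).1
      rcases hc with hc | hc
      · simp only [hc]
        rw [cgX_comm hD r2, mul_inv_cancel_right, mul_inv_cancel]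
      · by_cases hs : nd2 rt a.val b.val = nd2 rt i.val j.val
        · simp only [hs]
          rw [cgX_comm hD r2, mul_inv_cancel_right, mul_inv_cancel]
        refine Subtype.ext ?_
        have e := commutator_xg_eq hD (F := F) r2 r1 hs hn ((zd2 sg i.val j.val : F) * u)
          (-((zd2 sg a.val b.val : F) * t))
        rw [neg_neg, commutatorElement_def, ChevalleyDatum.commWord, hc] at e
        simpa [cgX] using e
    · change j = j' at h1
      subst h1
      obtain ⟨hs, hn, hc⟩ := S.mid _ i.isLt _ j.isLt _ l.isLt (nv hij) (nv hjl) (nv h)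
      have r1 := (hlt _ i.isLt _ j.isLt (nv hij)).1
      have r2 := (hlt _ j.isLt _ l.isLt (nv hjl)).1
      rw [mul_inv_eq_one]
      refine Subtype.ext ?_
      have e := commutator_xg_eq hD (F := F) r2 r1 hs hn ((zd2 sg j.val l.val : F) * u)
        (-((zd2 sg i.val j.val : F) * t))
      rw [neg_neg, commutatorElement_def, ChevalleyDatum.commWord, hc] at e
      simp only [List.map_cons, List.map_nil, List.prod_cons, List.prod_nil, mul_one, pow_one] at e
      show xg hD F _ _ * xg hD F _ _ * (xg hD F _ _)⁻¹ * (xg hD F _ _)⁻¹ = xg hD F _ _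
      rw [e]
      congr 1
      have sq : ∀ {p q : Fin (m + 2)}, p.val ≠ q.val → (zd2 sg p.val q.val : F) * zd2 sg p.val q.val = 1 := by
        intro p q hpq
        rcases (hlt _ p.isLt _ q.isLt hpq).2 with e | e <;> simp [e]
      push_cast
      linear_combination
        ((zd2 sg i.val l.val : F) * t * u * ((zd2 sg j.val l.val : F) * zd2 sg j.val l.val)) * sq (nv hij) +
          ((zd2 sg i.val l.val : F) * t * u) * sq (nv hjl)
  · have hx : e.symm (SLRGD.x F (m + 1) h t) = PresentedGroup.of (⟨(p, q), h⟩, t) := by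
      rw [MulEquiv.symm_apply_eq]
      exact Subtype.ext (he ⟨(p, q), h⟩ t).symm
    simp only [MonoidHom.comp_apply, MulEquiv.coe_toMonoidHom, hx, PresentedGroup.toGroup.of]
    rfl

variable {pi par mu e : List ℕ} {m h i0 j P : ℕ} {eps : ℤ} {rt : List (List ℕ)} {sg : List (List ℤ)}
  {word perm : List ℕ} (T : GTab D M d pi par)
  (L : LTab D M d m pi mu e h i0 j P eps rt sg word perm)
  {φ : Matrix.SpecialLinearGroup (Fin (m + 2)) F →* ↥(D.group F)}
  (hφ : ∀ (p q : Fin (m + 2)) (h : p ≠ q) (t : F),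
    φ (SLRGD.x F (m + 1) h t) = cgX F hD (nd2 rt p.val q.val) ((zd2 sg p.val q.val : F) * t))
include hD hR T L hφ

omit L hφ in
theorem wt_eq (r : Fin D.nroots) : (chevGS F hD hR T).wt (fun i => nd mu i.val) r = wtN D M d pi mu r.val :=
  Fin.sum_univ_eq_sum_range (fun i => (nd mu i : ℤ) * cf D M d pi i r.val) D.rank

theorem zd_sq {p q : Fin (m + 2)} (h : p ≠ q) : (zd2 sg p.val q.val : F) * zd2 sg p.val q.val = 1 := by
  rcases (L.rt_ok _ p.isLt _ q.isLt fun e => h (Fin.ext e)).2.2.1 with e | e <;> simp [e]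

theorem sl_induction {R' : Matrix.SpecialLinearGroup (Fin (m + 2)) F → Prop} (h1 : R' 1)
    (hx : ∀ (p q : Fin (m + 2)) (h : p ≠ q) (t : F), R' (SLRGD.x F (m + 1) h t))
    (hm : ∀ a b, R' a → R' b → R' (a * b)) (hi : ∀ a, R' a → R' a⁻¹) (A) : R' A := by
  have : A ∈ Subgroup.closure (Linear.slTvSet (ι := Fin (m + 2)) (F := F)) := by
    rw [Linear.closure_slTvSet]; exact Subgroup.mem_top A
  induction this using Subgroup.closure_induction with
  | mem x hx' => obtain ⟨p, q, h, t, rfl⟩ := hx'; exact hx p q h t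
  | one => exact h1
  | mul a b _ _ ha hb => exact hm a b ha hb
  | inv a _ ha => exact hi a ha

theorem phi_mid (A : Matrix.SpecialLinearGroup (Fin (m + 2)) F) :
    φ A ∈ (chevGS F hD hR T).mid (fun i => nd mu i.val) := by
  refine sl_induction hD hR T L hφ (R' := fun A => φ A ∈ _) (by rw [map_one]; exact one_mem _) (fun p q hpq t => ?_)
    (fun a b ha hb => by rw [map_mul]; exact mul_mem ha hb) (fun a ha => by rw [map_inv]; exact inv_mem ha) A
  obtain ⟨hlt, h0, -⟩ := L.rt_ok _ p.isLt _ q.isLt fun e => hpq (Fin.ext e)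
  rw [hφ]
  exact Subgroup.subset_closure (Or.inr ⟨⟨_, hlt⟩, _, rfl, (wt_eq hD hR T ⟨_, hlt⟩).trans h0⟩)

theorem phi_neg (q : Fin D.nroots) (t : F) (h0 : wtN D M d pi mu q.val = 0) :
    (D.IsPosRoot q.val → ∃ U ∈ slU F (m + 1), φ U = cgX F hD q.val t) ∧
      (¬ D.IsPosRoot q.val → ∃ U ∈ slV F (m + 1), φ U = cgX F hD q.val t) := by
  obtain ⟨a, ha, b, hb, hab, hq⟩ := L.cover _ q.isLt h0
  have hne : (⟨a, ha⟩ : Fin (m + 2)) ≠ ⟨b, hb⟩ := fun e => hab (congrArg Fin.val e)
  have key : φ (SLRGD.x F (m + 1) hne ((zd2 sg a b : F) * t)) = cgX F hD q.val t := by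
    rw [hφ]
    simp only [hq, ← mul_assoc, zd_sq hD hR T L hφ hne, one_mul]
  have hpos := (L.rt_ok a ha b hb hab).2.2.2
  rw [hq] at hpos
  constructor
  · exact fun hp => ⟨_, SLRGD.x_mem_unitri F (m + 1) (b := id) Function.injective_id hne (hpos.1 hp) _, key⟩
  · intro hp
    refine ⟨_, SLRGD.x_mem_unitri F (m + 1) _ _ (OrderDual.toDual_lt_toDual.2 ?_) _, key⟩
    exact lt_of_le_of_ne (not_lt.1 fun h => hp (hpos.2 h)) (Ne.symm hne)

theorem phi_node (a : Fˣ) :
    φ (slTor F (m + 1) (Pi.mulSingle 0 a)) = cgTor F hD hR T (Pi.mulSingle ⟨j, L.first.1⟩ a) := by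
  set S := slSys F (m + 1)
  set D' := chevGS F hD hR T
  have h01 := (Fin.castSucc_lt_succ (i := (0 : Fin (m + 1)))).ne
  set σ : F := (zd2 sg 0 1 : F)
  have hσ : σ * σ = 1 := zd_sq hD hR T L hφ (p := (0 : Fin (m + 2))) (q := (1 : Fin (m + 2))) (by simp)
  have hp : ∀ t, φ (S.xp 0 t) = D'.X (D'.el true ⟨j, L.first.1⟩) (σ * t) := fun t => by
    show φ (SLRGD.x F (m + 1) h01 t) = cgX F hD _ _
    rw [hφ]
    simp only [Fin.val_castSucc, Fin.val_succ, Fin.val_zero, zero_add, L.first.2.1, σ]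
    rfl
  have hm' : ∀ t, φ (S.xm 0 t) = D'.X (D'.el false ⟨j, L.first.1⟩) (σ * t) := fun t => by
    show φ (SLRGD.x F (m + 1) h01.symm t) = cgX F hD _ _
    rw [hφ]
    simp only [Fin.val_castSucc, Fin.val_succ, Fin.val_zero, zero_add, L.first.2.2.1, L.first.2.2.2, σ]
    rfl
  have e1 := congrArg φ (S.sl2 0 ((a : F) - 1) 1 a (by ring))
  have e2 := D'.sl2 ⟨j, L.first.1⟩ (σ * ((a : F) - 1)) (σ * 1) a (by linear_combination -((a : F) - 1) * hσ)
  simp only [map_mul, hp, hm', mul_div_assoc] at e1 e2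
  rw [e2] at e1
  exact (mul_left_cancel (mul_right_cancel e1)).symm

theorem phi_diag (a : Fˣ) :
    ∃ g ∈ (chevGS F hD hR T).mid (fun i => nd mu i.val), ∃ Y : GL (Fin (m + 2)) F,
      Matrix.GeneralLinearGroup.det Y = a ∧ ∀ A B : Matrix.SpecialLinearGroup (Fin (m + 2)) F,
        (Matrix.SpecialLinearGroup.toGL B : GL (Fin (m + 2)) F) = Y * Matrix.SpecialLinearGroup.toGL A * Y⁻¹ →
          g * φ A * g⁻¹ = φ B := by
  classical
  set u : Fˣ := a ^ eps
  set y : Fin (m + 2) → Fˣ := fun p => if p.val = P then a else 1 with hy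
  let Y : GL (Fin (m + 2)) F :=
    Matrix.GeneralLinearGroup.mkOfDetNeZero (Matrix.diagonal fun p => (y p : F))
      (by rw [Matrix.det_diagonal]; exact Finset.prod_ne_zero_iff.2 fun p _ => Units.ne_zero _)
  set g := cgTor F hD hR T (Pi.mulSingle ⟨i0, L.i0_lt⟩ u)
  refine ⟨g, Subgroup.subset_closure (Or.inl ⟨_, rfl⟩), Y, Units.ext ?_, fun A B hB => ?_⟩
  · rw [Matrix.GeneralLinearGroup.val_det_apply]
    show (Matrix.diagonal fun p => (y p : F)).det = _
    rw [Matrix.det_diagonal, Finset.prod_eq_single (⟨P, L.P_lt⟩ : Fin (m + 2))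
      (fun p _ hp => by simp [hy, show p.val ≠ P from fun e => hp (Fin.ext e)]) (by simp)]
    simp [hy]
  let cY : Matrix.SpecialLinearGroup (Fin (m + 2)) F →* Matrix.SpecialLinearGroup (Fin (m + 2)) F :=
    { toFun := fun A => ⟨(Y * Matrix.SpecialLinearGroup.toGL A * Y⁻¹).1, by
        rw [← Matrix.GeneralLinearGroup.val_det_apply, map_mul, map_mul, map_inv, mul_right_comm,
          mul_inv_cancel, one_mul, Matrix.GeneralLinearGroup.val_det_apply]
        exact A.2⟩
      map_one' := Subtype.ext (by simp)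
      map_mul' := fun A B => Matrix.SpecialLinearGroup.toGL_injective (Units.ext (by
        show (Y * Matrix.SpecialLinearGroup.toGL (A * B) * Y⁻¹).1 =
          (Y * Matrix.SpecialLinearGroup.toGL A * Y⁻¹).1 * (Y * Matrix.SpecialLinearGroup.toGL B * Y⁻¹).1
        rw [← Units.val_mul, map_mul]
        congr 1
        group)) }
  have hcY : cY A = B := Subtype.ext (congrArg Units.val hB).symm
  rw [← hcY]
  refine sl_induction hD hR T L hφ (R' := fun A => g * φ A * g⁻¹ = φ (cY A)) (by simp) (fun p q hpq t => ?_)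
    (fun a b ha hb => by
      rw [map_mul, map_mul, map_mul, ← ha, ← hb]; group) (fun a ha => by
      rw [map_inv, map_inv, map_inv, ← ha]; group) A
  have hc : cY (SLRGD.x F (m + 1) hpq t) = SLRGD.x F (m + 1) hpq (((y p / y q : Fˣ) : F) * t) := by
    suffices e : Y * Matrix.SpecialLinearGroup.toGL (SLRGD.x F (m + 1) hpq t) * Y⁻¹ =
        Matrix.SpecialLinearGroup.toGL (SLRGD.x F (m + 1) hpq (((y p / y q : Fˣ) : F) * t)) from
      Subtype.ext (congrArg Units.val e)
    rw [mul_inv_eq_iff_eq_mul]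
    refine Units.ext ?_
    rw [Units.val_mul, Units.val_mul]
    show Matrix.diagonal (fun p => (y p : F)) * (SLRGD.x F (m + 1) hpq t).1 =
      (SLRGD.x F (m + 1) hpq _).1 * Matrix.diagonal (fun p => (y p : F))
    rw [SLRGD.x_coe, SLRGD.x_coe]
    ext k l
    rw [Matrix.diagonal_mul, Matrix.mul_diagonal, SLGen.tv_apply, SLGen.tv_apply, mul_add, add_mul]
    congr 1
    · split
      next h => subst h; ring
      next => ring
    · split
      next h => obtain ⟨rfl, rfl⟩ := h; rw [Units.val_div_eq_div_val]; field_simp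
      next => ring
  have hpq' : p.val ≠ q.val := fun e => hpq (Fin.ext e)
  rw [hc, hφ, hφ, mul_inv_eq_iff_eq_mul]
  refine ((chevGS F hD hR T).tor_X _ ⟨_, (L.rt_ok _ p.isLt _ q.isLt hpq').1⟩ _).trans ?_
  show cgX F hD _ _ * g = cgX F hD _ _ * g
  congr 2
  show ((cgChi D F pi (nd2 rt p.val q.val) (Pi.mulSingle ⟨i0, L.i0_lt⟩ u) : Fˣ) : F) * _ = _
  rw [cgChi_single, pairing_simple hD (T.lt i0 L.i0_lt), L.det _ p.isLt _ q.isLt hpq']
  have hu : u ^ ((if p.val = P then eps else 0) - (if q.val = P then eps else 0)) = y p / y q := by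
    have h1 : u ^ eps = a := by
      rcases L.eps_sgn with e | e <;> simp [u, e]
    rw [zpow_sub, ← div_eq_mul_inv]
    congr 1 <;> simp only [hy] <;> split <;> simp [h1]
  rw [hu]
  ring

theorem xp_prod_jor (σ : Fin (m + 1) → Fin (m + 1)) (hσ : Function.Bijective σ) (c : Fin (m + 1) → F)
    (hc : ∀ p, c p ≠ 0) :
    IsConj (jor1 F (m + 2)) (Matrix.SpecialLinearGroup.toGL
      ((List.finRange (m + 1)).map fun p => (slSys F (m + 1)).xp (σ p) (c p)).prod : GL (Fin (m + 2)) F) := by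
  classical
  set S := slSys F (m + 1)
  have key : ∀ l : List (Fin (m + 1)), (l.map fun p => S.xp (σ p) (c p)).prod ∈ S.U ∧
      ∀ i, S.d i (l.map fun p => S.xp (σ p) (c p)).prod = (l.map fun p => if σ p = i then c p else 0).sum := by
    intro l
    induction l with
    | nil => exact ⟨one_mem _, fun i => by simpa using S.d_one i⟩
    | cons p l ih =>
      refine ⟨mul_mem (S.xp_mem _ _) ih.1, fun i => ?_⟩
      rw [List.map_cons, List.prod_cons, S.d_mul i _ (S.xp_mem _ _) _ ih.1, S.d_xp, ih.2]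
      rfl
  set U := ((List.finRange (m + 1)).map fun p => S.xp (σ p) (c p)).prod
  have hd : ∀ i, S.d i U ≠ 0 := by
    intro i
    obtain ⟨p, rfl⟩ := hσ.2 i
    rw [(key _).2, ← Fin.sum_univ_def, Finset.sum_eq_single p (fun q _ hq => if_neg fun e => hq (hσ.1 e)) (by simp),
      if_pos rfl]
    exact hc p
  have hU : SLComm.UReg U.1 := by
    refine ⟨fun i j h => (key _).1.1.1 h, (key _).1.2, fun i j h => ?_⟩
    obtain ⟨i, rfl⟩ : ∃ i' : Fin (m + 1), i = i'.castSucc := ⟨⟨i.val, by omega⟩, rfl⟩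
    obtain rfl : j = i.succ := Fin.ext (by simpa using h)
    exact hd i
  obtain ⟨x, hx⟩ := SLComm.exists_conj_of_sim (g := jor1 F (m + 2))
    (h := (Matrix.SpecialLinearGroup.toGL U : GL (Fin (m + 2)) F))
    ((SLComm.sim_uReg (jorMat_uReg F (m + 2))).trans (SLComm.sim_uReg hU).symm)
  exact isConj_iff.2 ⟨x, hx.symm⟩

theorem phi_flip (c : Fˣ) (f : Fin D.rank → Fˣ)
    (hf : ∀ q : Fin D.nroots, (chevGS F hD hR T).chi q f = c ^ wtN D M d pi mu q.val) :
    ∃ w : ↥(D.group F), w * cgTor F hD hR T f * w⁻¹ = (cgTor F hD hR T f)⁻¹ ∧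
      ∃ A B : Matrix.SpecialLinearGroup (Fin (m + 2)) F, w * φ A * w⁻¹ = φ B ∧
        IsConj (jor1 F (m + 2)) (Matrix.SpecialLinearGroup.toGL A) ∧
          IsConj (jor1 F (m + 2)) (Matrix.SpecialLinearGroup.toGL B) := by
  have hgrp : ∀ r, ng hD F r (1 : F) ∈ D.group F := fun r =>
    mul_mem (mul_mem (xg_mem_group hD _ _) (xg_mem_group hD _ _)) (xg_mem_group hD _ _)
  let nv : ℕ → ↥(D.group F) := fun i => ⟨ng hD F (D.simple (nd pi i)) 1, hgrp _⟩
  set w := (word.map nv).prod with hw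
  have act : ∀ l : List ℕ, (∀ i ∈ l, i < D.rank) → ∀ q < D.nroots, wd D pi l q < D.nroots ∧
      ∃ η : F, η ≠ 0 ∧ ∀ t, (l.map nv).prod * cgX F hD q t * ((l.map nv).prod)⁻¹ = cgX F hD (wd D pi l q) (η * t) := by
    intro l hl q hq
    induction l with
    | nil => exact ⟨hq, 1, one_ne_zero, fun t => by simp [wd]⟩
    | cons i l ih =>
      obtain ⟨hlt, η, hη, he⟩ := ih fun i hi => hl i (List.mem_cons_of_mem _ hi)
      have hi : nd pi i < D.rank := T.lt i (hl i List.mem_cons_self)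
      refine ⟨refl_lt hD (hD.simple_lt _ hi) hlt, (nSign D (D.simple (nd pi i)) (wd D pi l q) : F) * η, ?_,
        fun t => ?_⟩
      · rcases (nSign_cases hD (hD.simple_lt _ hi) hlt).1 with e | e <;> simp [e, hη]
      rw [List.map_cons, List.prod_cons, show nv i * (l.map nv).prod * cgX F hD q t * (nv i * (l.map nv).prod)⁻¹ =
        nv i * ((l.map nv).prod * cgX F hD q t * ((l.map nv).prod)⁻¹) * (nv i)⁻¹ by group, he]
      refine Subtype.ext ((ng_conj_xg hD hi hlt _).trans ?_)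
      show xg hD F _ _ = xg hD F _ _
      rw [mul_assoc]
      rfl
  set s := cgTor F hD hR T f
  set v := w⁻¹ * s * w
  have hcomm : ∀ q < D.nroots, wtN D M d pi mu (wd D pi word q) = -wtN D M d pi mu q →
      ∀ t, s * v * cgX F hD q t = cgX F hD q t * (s * v) := by
    intro q hq hwt t
    obtain ⟨hlt, η, hη, he⟩ := act word L.word_lt q hq
    have hs : ∀ q (hq : q < D.nroots) t, s * cgX F hD q t =
        cgX F hD q (((c ^ wtN D M d pi mu q : Fˣ) : F) * t) * s := fun q hq t => by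
      have := (chevGS F hD hR T).tor_X f ⟨q, hq⟩ t
      rwa [hf] at this
    have hv : v * cgX F hD q t = cgX F hD q (((c ^ wtN D M d pi mu (wd D pi word q) : Fˣ) : F) * t) * v := by
      calc v * cgX F hD q t = w⁻¹ * (s * (w * cgX F hD q t * w⁻¹)) * w := by simp only [v]; group
        _ = w⁻¹ * (cgX F hD (wd D pi word q)
              (η * (((c ^ wtN D M d pi mu (wd D pi word q) : Fˣ) : F) * t)) * s) * w := by
            rw [he, hs _ hlt, mul_left_comm]
        _ = _ := by rw [← he]; simp only [v, hw]; group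
    rw [mul_assoc, hv, ← mul_assoc, hs q hq, ← mul_assoc, hwt, zpow_neg, Units.val_inv_eq_inv_val,
      mul_inv_cancel_left₀ (Units.ne_zero _), mul_assoc]
    rw [mul_assoc]
  have hz : s * v ∈ Subgroup.center ↥(D.group F) := by
    rw [Subgroup.mem_center_iff]
    intro g
    have hg : g ∈ Subgroup.closure {g : ↥(D.group F) | ∃ (b : Bool) (i : Fin D.rank) (t : F), g =
        cgX F hD (if b = true then D.simple (nd pi i.val) else D.neg (D.simple (nd pi i.val))) t} := by
      rw [cg_gen hD hR T]; exact Subgroup.mem_top g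
    induction hg using Subgroup.closure_induction with
    | mem x hx =>
      obtain ⟨b, i, t, rfl⟩ := hx
      cases b
      · exact (hcomm _ (hD.neg_lt _ (simple_pi_lt hD hR T i)) (L.word_wt _ i.isLt).2 t).symm
      · exact (hcomm _ (simple_pi_lt hD hR T i) (L.word_wt _ i.isLt).1 t).symm
    | one => simp
    | mul a b _ _ ha hb => rw [mul_assoc, hb, ← mul_assoc, ha, mul_assoc]
    | inv a _ ha => exact (Commute.inv_left ha).eq
  rw [center_group_eq_bot hD hR, Subgroup.mem_bot] at hz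
  refine ⟨w, ?_, ?_⟩
  · calc w * s * w⁻¹ = w * (s * v) * w⁻¹ * (w * v⁻¹ * w⁻¹) := by group
      _ = s⁻¹ := by rw [hz]; simp only [v]; group
  have hpl : ∀ p : Fin (m + 1), p.val < m + 2 ∧ p.val + 1 < m + 2 := fun p => ⟨by omega, by omega⟩
  let σ : Fin (m + 1) → Fin (m + 1) := fun p => ⟨nd perm p.val, (L.perm_ok _ p.isLt).1⟩
  have hσ : Function.Bijective σ := Finite.injective_iff_bijective.1 fun p q e =>
    Fin.ext (L.perm_inj _ p.isLt _ q.isLt (congrArg Fin.val e))
  set S := slSys F (m + 1)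
  have hxp : ∀ (p : Fin (m + 1)) t, φ (S.xp p t) =
      cgX F hD (nd2 rt p.val (p.val + 1)) ((zd2 sg p.val (p.val + 1) : F) * t) := fun p t =>
    hφ p.castSucc p.succ (Fin.castSucc_lt_succ (i := p)).ne t
  have hsg : ∀ p : Fin (m + 1), (zd2 sg p.val (p.val + 1) : F) ≠ 0 := fun p => by
    rcases (L.rt_ok _ (hpl p).1 _ (hpl p).2 (by omega)).2.2.1 with e | e <;> simp [e]
  choose η hη he using fun p : Fin (m + 1) =>
    (act word L.word_lt _ (L.rt_ok _ (hpl p).1 _ (hpl p).2 (by omega)).1).2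
  set c' : Fin (m + 1) → F := fun p =>
    η p * (zd2 sg p.val (p.val + 1) : F) / (zd2 sg (σ p).val ((σ p).val + 1) : F)
  refine ⟨((List.finRange (m + 1)).map fun p => S.xp (id p) 1).prod,
    ((List.finRange (m + 1)).map fun p => S.xp (σ p) (c' p)).prod, ?_,
    xp_prod_jor hD hR T L hφ id Function.bijective_id _ fun _ => one_ne_zero,
    xp_prod_jor hD hR T L hφ σ hσ _ fun p => div_ne_zero (mul_ne_zero (hη p) (hsg p)) (hsg (σ p))⟩
  have hstep : ∀ p, w * φ (S.xp (id p) 1) * w⁻¹ = φ (S.xp (σ p) (c' p)) := fun p => by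
    rw [id, hxp, hxp, he, (L.perm_ok _ p.isLt).2, mul_one]
    congr 1
    simp only [c', σ]
    have hne : (zd2 sg (nd perm p.val) (nd perm p.val + 1) : F) ≠ 0 := hsg (σ p)
    field_simp
  suffices key : ∀ l : List (Fin (m + 1)),
      w * φ (l.map fun p => S.xp (id p) 1).prod * w⁻¹ = φ (l.map fun p => S.xp (σ p) (c' p)).prod from key _
  intro l
  induction l with
  | nil => simp
  | cons p l ih =>
    rw [List.map_cons, List.prod_cons, List.map_cons, List.prod_cons, map_mul, map_mul, ← hstep p, ← ih]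
    group

/-- The Levi datum. -/
def chevLevi (c : Fˣ) (hc : ∀ l : ℕ, 0 < l → l ≤ h → c ^ l ≠ 1) : LeviData m (chevGS F hD hR T) where
  μ i := nd mu i.val
  φ := φ
  c := c
  f i := c ^ nd e i.val
  h := h
  φ_mid := phi_mid hD hR T L hφ
  neg_mem q t h0 hneg := (phi_neg hD hR T L hφ q t ((wt_eq hD hR T q).symm.trans h0)).2
    ((nonpos_iff hD hR T q.isLt).1 hneg)
  pos_mem q t h0 hpos := (phi_neg hD hR T L hφ q t ((wt_eq hD hR T q).symm.trans h0)).1
    ((nonneg_iff hD hR T q.isLt).1 hpos)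
  node := ⟨⟨j, L.first.1⟩, phi_node hD hR T L hφ⟩
  diag := phi_diag hD hR T L hφ
  chi_f q := chi_eq q
  bound q := by rw [wt_eq hD hR T q]; exact L.bound _ q.isLt
  c_ne := hc
  flip := phi_flip hD hR T L hφ c _ fun q => by rw [chi_eq q, wt_eq hD hR T q]
where
  chi_eq (q : Fin D.nroots) :
      (chevGS F hD hR T).chi q (fun i => c ^ nd e i.val) = c ^ (chevGS F hD hR T).wt (fun i => nd mu i.val) q := by
    rw [wt_eq hD hR T q, ← L.chi _ q.isLt]
    show ∏ i : Fin D.rank, (c ^ nd e i.val) ^ D.pairing (D.simple (nd pi i.val)) q.val = _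
    rw [show ((List.range D.rank).map fun i => (nd e i : ℤ) * D.cartan (nd pi i) q.val).sum =
      ∑ i : Fin D.rank, (nd e i.val : ℤ) * D.cartan (nd pi i.val) q.val from
        (Fin.sum_univ_eq_sum_range (fun i => (nd e i : ℤ) * D.cartan (nd pi i) q.val) D.rank).symm,
      ← prod_zpow_eq]
    refine Finset.prod_congr rfl fun i _ => ?_
    rw [pairing_simple hD (T.lt i.val i.isLt), ← zpow_natCast, ← zpow_mul]

end Cfsg.Agent.GaussPre
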