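import Cfsg.Agent.Lib.GaussPre.ChevLevi
import Cfsg.Agent.Lib.GaussPre.ChevTabs
import Cfsg.Agent.Lib.GaussPre.ChevLTabs
import Cfsg.Agent.Lib.GaussPre.ChevLTabsE7
import Cfsg.Agent.Lib.GaussPre.ChevLTabsE8
import Cfsg.Agent.Lib.Chev.All
import Mathlib.RingTheory.IntegralDomain

/-!
# The exceptional Chevalley groups as squares of classes

* `IsSquare'` : the group is the square of one of its classes;
* `chevG2_square`, `chevF4_square`, `chevE6_square`, `chevE7_square`, `chevE8_square`.
-/

set_option autoImplicit false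
set_option linter.unusedSectionVars false

namespace Cfsg.Agent.GaussPre

open Cfsg.Lie Cfsg.Lie.ChevalleyDatum Cfsg.Agent.Chev Cfsg.Agent.ChevBN Cfsg.Agent.ChevSt

/-- The group is the square of one of its classes. -/
def ClassSquare (H : Type*) [Group H] : Prop :=
  ∃ c : H, ∀ h : H, ∃ a b : H, h = (a * c * a⁻¹) * (b * c * b⁻¹)

variable {F : Type*} [Field F] [Fintype F]

theorem exists_order_ge (hF : 9 ≤ Fintype.card F) :
    ∃ c : Fˣ, ∀ l : ℕ, 0 < l → l ≤ 7 → c ^ l ≠ 1 := by
  obtain ⟨c, hc⟩ := IsCyclic.exists_generator (α := Fˣ)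
  refine ⟨c, fun l hl hl7 h => ?_⟩
  have hcard : 8 ≤ orderOf c := by
    rw [orderOf_eq_card_of_forall_mem_zpowers hc, Nat.card_units, Nat.card_eq_fintype_card]
    omega
  have := Nat.le_of_dvd hl (orderOf_dvd_of_pow_eq_one h)
  omega

variable {D : ChevalleyDatum} {M : List (List ℤ)} {d : ℤ} (hD : Good D) (hR : Roots D M d)
  {pi par mu e : List ℕ} {m h i0 j P : ℕ} {eps : ℤ} {rt : List (List ℕ)} {sg : List (List ℤ)}
  {word perm : List ℕ} (T : GTab D M d pi par)
  (L : LTab D M d m pi mu e h i0 j P eps rt sg word perm)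

include hR T L in
theorem chev_square (hh : h ≤ 7) (hF : 9 ≤ Fintype.card F)
    (hφ : ∃ φ : Matrix.SpecialLinearGroup (Fin (m + 2)) F →* ↥(D.group F),
      ∀ (p q : Fin (m + 2)) (h : p ≠ q) (t : F),
        φ (SLRGD.x F (m + 1) h t) = cgX F hD (nd2 rt p.val q.val) ((zd2 sg p.val q.val : F) * t)) :
    ClassSquare ↥(D.group F) := by
  obtain ⟨c, hc⟩ := exists_order_ge hF
  obtain ⟨φ, hφ⟩ := hφ
  exact (chevLevi hD hR T L hφ c (fun l h1 h2 => hc l h1 (h2.trans hh))).square (MonoidHom.id _)
    Function.surjective_id (fun z hz => by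
      rw [center_group_eq_bot hD hR, Subgroup.mem_bot] at hz
      exact hz) hF

theorem chevF4_square (hF : 9 ≤ Fintype.card F) : ClassSquare ↥(chevF4.group F) :=
  chev_square DataF4.good rootsF4 gTabF4 lTabF4 (by norm_num) hF
    (exists_chainHom DataF4.good le_rfl (fun p hp q hq h =>
      ⟨(lTabF4.rt_ok p hp q hq h).1, (lTabF4.rt_ok p hp q hq h).2.2.1⟩) sTabF4)

theorem chevE6_square (hF : 9 ≤ Fintype.card F) : ClassSquare ↥(chevE6.group F) :=
  chev_square DataE6.good rootsE6 gTabE6 lTabE6 (by norm_num) hF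
    (exists_chainHom DataE6.good (by norm_num) (fun p hp q hq h =>
      ⟨(lTabE6.rt_ok p hp q hq h).1, (lTabE6.rt_ok p hp q hq h).2.2.1⟩) sTabE6)

theorem chevE7_square (hF : 9 ≤ Fintype.card F) : ClassSquare ↥(chevE7.group F) :=
  chev_square DataE7.good rootsE7 gTabE7 lTabE7 (by norm_num) hF
    (exists_chainHom DataE7.good (by norm_num) (fun p hp q hq h =>
      ⟨(lTabE7.rt_ok p hp q hq h).1, (lTabE7.rt_ok p hp q hq h).2.2.1⟩) sTabE7)

theorem chevE8_square (hF : 9 ≤ Fintype.card F) : ClassSquare ↥(chevE8.group F) :=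
  chev_square DataE8.good rootsE8 gTabE8 lTabE8 le_rfl hF
    (exists_chainHom DataE8.good (by norm_num) (fun p hp q hq h =>
      ⟨(lTabE8.rt_ok p hp q hq h).1, (lTabE8.rt_ok p hp q hq h).2.2.1⟩) sTabE8)

theorem sl2_range (r : ℕ) (hD : Good D) (hr : r < D.nroots) :
    ∀ A : Matrix.SpecialLinearGroup (Fin 2) F, RankOne.sl2Hom hD hr A ∈ D.group F := by
  intro A
  have hA : A ∈ Subgroup.closure (Linear.slTvSet (ι := Fin 2) (F := F)) := by
    rw [Linear.closure_slTvSet]; exact Subgroup.mem_top A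
  induction hA using Subgroup.closure_induction with
  | mem x hx =>
    obtain ⟨i, k, h, t, rfl⟩ := hx
    fin_cases i <;> fin_cases k
    · exact absurd rfl h
    · rw [show Matrix.SpecialLinearGroup.transvection h t = RankOne.slX t from Subtype.ext (by
        ext a b; fin_cases a <;> fin_cases b <;>
          simp [RankOne.slX, Matrix.SpecialLinearGroup.transvection, Matrix.transvection])]
      rw [RankOne.sl2Hom_slX]; exact xg_mem_group hD _ _
    · rw [show Matrix.SpecialLinearGroup.transvection h t = RankOne.slY t from Subtype.ext (by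
        ext a b; fin_cases a <;> fin_cases b <;>
          simp [RankOne.slY, Matrix.SpecialLinearGroup.transvection, Matrix.transvection])]
      rw [RankOne.sl2Hom_slY]; exact xg_mem_group hD _ _
    · exact absurd rfl h
  | one => rw [map_one]; exact one_mem _
  | mul x y _ _ hx hy => rw [map_mul]; exact mul_mem hx hy
  | inv x _ hx => rw [map_inv]; exact inv_mem hx

theorem chevG2_square (hF : 9 ≤ Fintype.card F) : ClassSquare ↥(chevG2.group F) := by
  have hr : (7 : ℕ) < chevG2.nroots := by decide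
  refine chev_square DataG2.good rootsG2 gTabG2 lTabG2 (by norm_num) hF
    ⟨(RankOne.sl2Hom DataG2.good hr).codRestrict _ (sl2_range 7 DataG2.good hr), fun p q h t => Subtype.ext ?_⟩
  show RankOne.sl2Hom DataG2.good hr (SLRGD.x F 1 h t) = xg DataG2.good F _ _
  fin_cases p <;> fin_cases q
  · exact absurd rfl h
  · rw [show SLRGD.x F 1 h t = RankOne.slX t from Subtype.ext (by
      rw [SLRGD.x_coe]; ext a b; fin_cases a <;> fin_cases b <;>
        simp [RankOne.slX, Matrix.transvection])]
    rw [RankOne.sl2Hom_slX]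
    simp [nd2, nd, zd2]
  · rw [show SLRGD.x F 1 h t = RankOne.slY t from Subtype.ext (by
      rw [SLRGD.x_coe]; ext a b; fin_cases a <;> fin_cases b <;>
        simp [RankOne.slY, Matrix.transvection])]
    rw [RankOne.sl2Hom_slY, show chevG2.neg 7 = nd2 [[0, 7], [4, 0]] 1 0 by decide +kernel]
    simp [zd2]
  · exact absurd rfl h

end Cfsg.Agent.GaussPre
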