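import Cfsg.Agent.Lib.GaussPre.Main
import Cfsg.Agent.Lib.SLRGD.Basic
import Mathlib.Data.Fin.SuccPred

/-!
# The Gauss system of the special linear group

* `slV`, `slU` : the lower and upper unitriangular subgroups; `slTor` : the coroot parametrisation;
* `slSys` : the Gauss system of `SL (m + 1, F)`.
-/

set_option autoImplicit false
set_option linter.unusedSectionVars false

namespace Cfsg.Agent.GaussPre

open Matrix Cfsg.Agent.SLRGD

variable (F : Type*) [Field F] (m : ℕ)

local notation "Γ" => Matrix.SpecialLinearGroup (Fin (m + 1)) F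

/-- Upper unitriangular matrices. -/
def slU : Subgroup Γ := unitri F m (id : Fin (m + 1) → Fin (m + 1)) Function.injective_id

/-- Lower unitriangular matrices. -/
def slV : Subgroup Γ :=
  unitri F m (OrderDual.toDual : Fin (m + 1) → (Fin (m + 1))ᵒᵈ) OrderDual.toDual.injective

variable {F m}

/-- An entry next to the diagonal is additive on a unitriangular group. -/
theorem entry_mul {α : Type*} [LinearOrder α] {rk : Fin (m + 1) → α} (hrk : Function.Injective rk)
    {a c : Fin (m + 1)} (hac : rk a < rk c) (hgap : ∀ l, rk a < rk l → rk c ≤ rk l)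
    {x y : Γ} (hx : x ∈ unitri F m rk hrk) (hy : y ∈ unitri F m rk hrk) :
    (x * y).1 a c = x.1 a c + y.1 a c := by
  rw [Matrix.SpecialLinearGroup.coe_mul, Matrix.mul_apply,
    ← Finset.sum_subset (s₁ := {a, c}) (Finset.subset_univ _) (fun l _ hl => ?_),
    Finset.sum_pair (fun e : a = c => hac.ne (congrArg rk e)), hx.2, hy.2, one_mul, mul_one, add_comm]
  simp only [Finset.mem_insert, Finset.mem_singleton, not_or] at hl
  rcases lt_or_gt_of_ne (hrk.ne hl.1) with h | h
  · rw [hx.1.1 h, zero_mul]
  · rw [hy.1.1 (lt_of_le_of_ne (hgap l h) (hrk.ne (Ne.symm hl.2))), mul_zero]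

theorem conj_tv_apply {p q : Fin (m + 1)} (hpq : p ≠ q) (s : F) (g : Γ) (k l : Fin (m + 1)) :
    (x F m hpq s * g * x F m hpq (-s)).1 k l =
      g.1 k l + (if k = p then s * g.1 q l else 0) +
        (if l = q then -s * (g.1 k p + if k = p then s * g.1 q p else 0) else 0) := by
  rw [Matrix.SpecialLinearGroup.coe_mul, Matrix.SpecialLinearGroup.coe_mul, x_coe, x_coe,
    SLGen.mul_tv_apply, SLGen.tv_mul_apply, SLGen.tv_mul_apply]

/-- Conjugation by the opposite root element stabilises the kernel of an entry next to the diagonal. -/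
theorem conj_kernel {α : Type*} [LinearOrder α] {rk : Fin (m + 1) → α} (hrk : Function.Injective rk)
    {a c : Fin (m + 1)} (hac : rk a < rk c) (hgap : ∀ l, rk a < rk l → rk c ≤ rk l) (hca : c ≠ a) (s : F)
    {g : Γ} (hg : g ∈ unitri F m rk hrk) (h0 : g.1 a c = 0) :
    x F m hca s * g * x F m hca (-s) ∈ unitri F m rk hrk ∧ (x F m hca s * g * x F m hca (-s)).1 a c = 0 := by
  have key : ∀ g : Γ, g ∈ unitri F m rk hrk → g.1 a c = 0 →
      (x F m hca s * g * x F m hca (-s)).1.BlockTriangular rk ∧
        ∀ k, (x F m hca s * g * x F m hca (-s)).1 k k = 1 := by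
    intro g hg h0
    refine ⟨fun k l hkl => ?_, fun k => ?_⟩
    · rw [conj_tv_apply, hg.1.1 hkl, zero_add]
      by_cases hk : k = c
      · subst hk
        rw [if_pos rfl, if_pos rfl]
        by_cases hl : l = a
        · subst hl
          rw [if_pos rfl, hg.2, hg.2, h0]
          ring
        · rw [if_neg hl, add_zero]
          have h1 : rk l < rk a := by
            rcases lt_or_gt_of_ne (hrk.ne hl) with h | h
            · exact h
            · exact absurd (hgap l h) hkl.not_ge
          rw [hg.1.1 h1, mul_zero]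
      · rw [if_neg hk, if_neg hk, zero_add, add_zero]
        by_cases hl : l = a
        · subst hl
          rw [if_pos rfl]
          have h1 : rk c < rk k := lt_of_le_of_ne (hgap k hkl) (hrk.ne (Ne.symm hk))
          rw [hg.1.1 h1, mul_zero]
        · rw [if_neg hl]
    · rw [conj_tv_apply, hg.2]
      by_cases hk : k = c
      · subst hk
        rw [if_pos rfl, if_neg hca, h0, mul_zero, add_zero, add_zero]
      · rw [if_neg hk, add_zero]
        by_cases hka : k = a
        · subst hka
          rw [if_pos rfl, if_neg hk, h0, add_zero, mul_zero, add_zero]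
        · rw [if_neg hka, add_zero]
  have hinv : g⁻¹.1 a c = 0 := by
    have h := entry_mul hrk hac hgap hg (inv_mem hg)
    rw [mul_inv_cancel, Matrix.SpecialLinearGroup.coe_one, h0, zero_add,
      Matrix.one_apply_ne (fun e => hca e.symm)] at h
    exact h.symm
  refine ⟨⟨⟨(key g hg h0).1, ?_⟩, (key g hg h0).2⟩, ?_⟩
  · have e : (x F m hca s * g * x F m hca (-s))⁻¹ = x F m hca s * g⁻¹ * x F m hca (-s) := by
      simp only [x, _root_.mul_inv_rev, Matrix.SpecialLinearGroup.transvection_inv, neg_neg, mul_assoc]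
    rw [e]
    exact (key g⁻¹ (inv_mem hg) hinv).1
  · rw [conj_tv_apply, h0, if_neg (fun e => hca e.symm), if_neg hca]
    simp

theorem gap_up (i : Fin m) : ∀ l : Fin (m + 1), id i.castSucc < id l → id i.succ ≤ id l := fun l h => by
  simp only [id, Fin.lt_def, Fin.le_def, Fin.val_castSucc, Fin.val_succ] at h ⊢
  omega

theorem gap_down (i : Fin m) : ∀ l : Fin (m + 1),
    OrderDual.toDual i.succ < OrderDual.toDual l → OrderDual.toDual i.castSucc ≤ OrderDual.toDual l := fun l h => by
  simp only [OrderDual.toDual_lt_toDual, OrderDual.toDual_le_toDual, Fin.lt_def, Fin.le_def, Fin.val_castSucc,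
    Fin.val_succ] at h ⊢
  omega

/-- The coordinate before and at a position. -/
def extW (f : Fin m → Fˣ) (p : ℕ) : Fˣ := if h : p < m then f ⟨p, h⟩ else 1

/-- The diagonal of the torus element with coroot coordinates `f`. -/
def slDiag (f : Fin m → Fˣ) (p : Fin (m + 1)) : Fˣ :=
  extW f p.val / if p.val = 0 then 1 else extW f (p.val - 1)

theorem extW_mul (f g : Fin m → Fˣ) (p : ℕ) : extW (f * g) p = extW f p * extW g p := by
  unfold extW; split <;> simp

theorem slDiag_mul (f g : Fin m → Fˣ) (p : Fin (m + 1)) : slDiag (f * g) p = slDiag f p * slDiag g p := by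
  unfold slDiag
  split
  · simp [extW_mul]
  · simp only [extW_mul, mul_div_mul_comm]

theorem prod_slDiag (f : Fin m → Fˣ) : ∏ p, slDiag f p = 1 := by
  have h : ∀ j, ∏ p ∈ Finset.range (j + 1), extW f p / (if p = 0 then 1 else extW f (p - 1)) = extW f j := by
    intro j
    induction j with
    | zero => simp
    | succ j ih =>
      rw [Finset.prod_range_succ, ih, if_neg (Nat.succ_ne_zero j), Nat.add_sub_cancel, mul_div_cancel]
  show ∏ p : Fin (m + 1), extW f p.val / (if p.val = 0 then 1 else extW f (p.val - 1)) = 1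
  rw [Fin.prod_univ_eq_prod_range (fun p => extW f p / if p = 0 then 1 else extW f (p - 1)), h,
    extW, dif_neg (lt_irrefl m)]

variable (F m) in
/-- The coroot parametrisation of the diagonal subgroup. -/
def slTor : (Fin m → Fˣ) →* Γ where
  toFun f := ⟨diagonal fun p => (slDiag f p : F), by
    rw [det_diagonal, ← Units.coe_prod, prod_slDiag, Units.val_one]⟩
  map_one' := by
    apply Subtype.ext
    show diagonal _ = (1 : Matrix (Fin (m + 1)) (Fin (m + 1)) F)
    rw [← diagonal_one]
    congr 1
    funext p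
    simp [slDiag, extW]
  map_mul' f g := by
    refine Subtype.ext ((congrArg diagonal (funext fun p => ?_)).trans (diagonal_mul_diagonal _ _).symm)
    rw [slDiag_mul, Units.val_mul]

theorem slTor_coe (f : Fin m → Fˣ) : (slTor F m f).1 = diagonal fun p => (slDiag f p : F) := rfl

theorem slDiag_single (i : Fin m) (w : Fˣ) (p : Fin (m + 1)) :
    slDiag (Pi.mulSingle i w) p = if p = i.castSucc then w else if p = i.succ then w⁻¹ else 1 := by
  have e : ∀ q : ℕ, extW (Pi.mulSingle i w) q = if q = i.val then w else 1 := by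
    intro q
    unfold extW
    by_cases h : q = i.val
    · subst h
      simp
    · rw [if_neg h]
      split
      · exact Pi.mulSingle_eq_of_ne (M := fun _ => Fˣ) (fun e => h (congrArg Fin.val e)) w
      · rfl
  simp only [slDiag, e, Fin.ext_iff, Fin.val_castSucc, Fin.val_succ]
  have hi := i.isLt
  split_ifs <;> first | (exfalso; omega) | simp

variable (F m) in
/-- The character of a simple root. -/
def slChi (i : Fin m) : (Fin m → Fˣ) →* Fˣ where
  toFun f := slDiag f i.castSucc / slDiag f i.succ
  map_one' := by simp [slDiag, extW]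
  map_mul' f g := by rw [slDiag_mul, slDiag_mul, mul_div_mul_comm]

theorem slTor_x (f : Fin m → Fˣ) {p q : Fin (m + 1)} (hpq : p ≠ q) (a : F) :
    slTor F m f * x F m hpq a = x F m hpq ((slDiag f p : F) / slDiag f q * a) * slTor F m f := by
  apply Subtype.ext
  rw [Matrix.SpecialLinearGroup.coe_mul, Matrix.SpecialLinearGroup.coe_mul, x_coe, x_coe, slTor_coe]
  ext k l
  rw [Matrix.diagonal_mul, SLGen.tv_apply, Matrix.mul_diagonal, SLGen.tv_apply, mul_add, add_mul]
  congr 1
  · by_cases h : k = l
    · subst h; rw [if_pos rfl]; ring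
    · rw [if_neg h]; ring
  · by_cases h : k = p ∧ l = q
    · obtain ⟨rfl, rfl⟩ := h
      rw [if_pos ⟨rfl, rfl⟩, if_pos ⟨rfl, rfl⟩, div_mul_eq_mul_div, div_mul_cancel₀ _ (Units.ne_zero _)]
    · rw [if_neg h, if_neg h]; ring

/-- The rank one identity. -/
theorem sl2_word {p q : Fin (m + 1)} (hpq : p ≠ q) (a b : F) (w : Fˣ) (hw : (w : F) = 1 + a * b) (D : Γ)
    (hD : D.1 = diagonal fun k => if k = p then (w : F) else if k = q then (w : F)⁻¹ else 1) :
    x F m hpq b * x F m hpq.symm a = x F m hpq.symm (a / w) * D * x F m hpq (b / w) := by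
  apply Subtype.ext
  simp only [Matrix.SpecialLinearGroup.coe_mul, x_coe, hD, mul_assoc]
  have hw0 : (w : F) ≠ 0 := Units.ne_zero _
  ext k l
  simp only [SLGen.tv_mul_apply, Matrix.diagonal_mul, SLGen.tv_apply]
  rcases eq_or_ne k p with rfl | hkp
  · rcases eq_or_ne l k with rfl | hlk
    · simp [hpq, hpq.symm]; rw [hw]; ring
    · rcases eq_or_ne l q with rfl | hlq
      · simp [hpq, hpq.symm] <;> field_simp
      · simp [hpq, hpq.symm, hlk, hlk.symm, hlq, hlq.symm]
  · rcases eq_or_ne k q with rfl | hkq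
    · rcases eq_or_ne l p with rfl | hlp
      · simp [hpq, hpq.symm] <;> field_simp
      · rcases eq_or_ne l k with rfl | hlk
        · simp [hpq, hpq.symm] <;> (try field_simp) <;> rw [hw] <;> ring
        · simp [hpq, hpq.symm, hlk, hlk.symm, hlp, hlp.symm]
    · simp [hkp, hkq]

theorem x_add {p q : Fin (m + 1)} (hpq : p ≠ q) (a b : F) :
    x F m hpq (a + b) = x F m hpq a * x F m hpq b := by
  apply Subtype.ext
  rw [Matrix.SpecialLinearGroup.coe_mul, x_coe, x_coe, x_coe, Matrix.transvection_mul_transvection_same _ _ hpq]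

theorem x_commute {p q p' q' : Fin (m + 1)} (h : p ≠ q) (h' : p' ≠ q') (h1 : q ≠ p') (h2 : q' ≠ p) (a b : F) :
    x F m h a * x F m h' b = x F m h' b * x F m h a := by
  apply Subtype.ext
  simp only [Matrix.SpecialLinearGroup.coe_mul, x_coe]
  simp [Matrix.transvection, mul_add, add_mul, Matrix.single_mul_single_of_ne, h1, h2]
  abel

variable (F m) in
/-- The signed exchange of two coordinates. -/
def swapW {p q : Fin (m + 1)} (h : p ≠ q) : Γ := x F m h 1 * x F m h.symm (-1) * x F m h 1

theorem swapW_apply {p q : Fin (m + 1)} (h : p ≠ q) (k l : Fin (m + 1)) :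
    (swapW F m h).1 k l = if k = Equiv.swap p q l then (if l = p then -1 else 1) else 0 := by
  rw [swapW, Matrix.SpecialLinearGroup.coe_mul, Matrix.SpecialLinearGroup.coe_mul, x_coe, x_coe, mul_assoc]
  exact word_apply F m h k l

theorem core_entry (v : Γ) {p q : Fin (m + 1)} (h : p ≠ q) (hq : (swapW F m h * v * (swapW F m h)⁻¹).1 q p = 0) :
    v.1 p q = 0 := by
  set v' := swapW F m h * v * (swapW F m h)⁻¹ with hv'
  have e : swapW F m h * v = v' * swapW F m h := by rw [hv']; group
  have e' := congrArg (fun g : Γ => g.1 q q) e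
  simp only [Matrix.SpecialLinearGroup.coe_mul, Matrix.mul_apply] at e'
  rw [Finset.sum_eq_single p, Finset.sum_eq_single p, swapW_apply, swapW_apply, hq, zero_mul,
    if_pos (by rw [Equiv.swap_apply_left]), if_pos rfl] at e'
  · simpa using e'
  all_goals first
    | exact fun hn => absurd (Finset.mem_univ _) hn
    | skip
  · intro l _ hl
    rw [swapW_apply, if_neg (by rw [Equiv.swap_apply_right]; exact hl), mul_zero]
  · intro l _ hl
    rw [swapW_apply, if_neg (fun e => hl ?_), zero_mul]
    have h2 := congrArg (Equiv.swap p q) e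
    rw [Equiv.swap_apply_self, Equiv.swap_apply_right] at h2
    exact h2.symm

theorem gen_all : Subgroup.closure ({g : Γ | ∃ (i : Fin m) (a : F), g = x F m (Fin.castSucc_lt_succ (i := i)).ne a} ∪
    {g | ∃ (i : Fin m) (a : F), g = x F m (Fin.castSucc_lt_succ (i := i)).ne' a}) = ⊤ := by
  set H : Subgroup Γ := Subgroup.closure
    ({g : Γ | ∃ (i : Fin m) (a : F), g = x F m (Fin.castSucc_lt_succ (i := i)).ne a} ∪
      {g | ∃ (i : Fin m) (a : F), g = x F m (Fin.castSucc_lt_succ (i := i)).ne' a}) with hH
  have comb : ∀ {i j l : Fin (m + 1)} (hij : i ≠ j) (hjl : j ≠ l) (hil : i ≠ l),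
      (∀ c, x F m hij c ∈ H) → (∀ c, x F m hjl c ∈ H) → ∀ c : F, x F m hil c ∈ H := by
    intro i j l hij hjl hil h1 h2 c
    have h3 : x F m hij c * x F m hjl 1 * (x F m hij c)⁻¹ * (x F m hjl 1)⁻¹ = x F m hil (c * 1) :=
      SLGen.tv_comm hij hjl hil c 1
    rw [mul_one] at h3
    rw [← h3]
    exact mul_mem (mul_mem (mul_mem (h1 c) (h2 1)) (inv_mem (h1 c))) (inv_mem (h2 1))
  have key : ∀ (d : ℕ) (p q : Fin (m + 1)), q.val = p.val + d + 1 → ∀ (h : p ≠ q) (c : F),
      x F m h c ∈ H ∧ x F m h.symm c ∈ H := by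
    intro d
    induction d with
    | zero =>
      intro p q hq h c
      obtain ⟨i, rfl⟩ : ∃ i : Fin m, p = i.castSucc := ⟨⟨p.val, by omega⟩, rfl⟩
      obtain rfl : q = i.succ := Fin.ext (by simpa using hq)
      exact ⟨Subgroup.subset_closure (Or.inl ⟨i, c, rfl⟩), Subgroup.subset_closure (Or.inr ⟨i, c, rfl⟩)⟩
    | succ d ih =>
      intro p q hq h c
      let r : Fin (m + 1) := ⟨p.val + d + 1, by omega⟩
      have hpr : p ≠ r := Fin.ne_of_val_ne (show p.val ≠ p.val + d + 1 by omega)
      obtain ⟨i, hi⟩ : ∃ i : Fin m, r = i.castSucc := ⟨⟨r.val, by show p.val + d + 1 < m; omega⟩, rfl⟩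
      have hrq : r ≠ q := Fin.ne_of_val_ne (show p.val + d + 1 ≠ q.val by omega)
      have hv : p.val + d + 1 = i.val := congrArg Fin.val hi
      have e : q = i.succ := Fin.ext (by rw [Fin.val_succ]; omega)
      refine ⟨comb hpr hrq h (fun c => (ih p r rfl hpr c).1) (fun c => ?_) c,
        comb hrq.symm hpr.symm h.symm (fun c => ?_) (fun c => (ih p r rfl hpr c).2) c⟩
      · subst e; simp only [hi]; exact Subgroup.subset_closure (Or.inl ⟨i, c, rfl⟩)
      · subst e; simp only [hi]; exact Subgroup.subset_closure (Or.inr ⟨i, c, rfl⟩)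
  rw [eq_top_iff]
  rcases subsingleton_or_nontrivial (Fin (m + 1)) with hs | hs
  · intro g _
    have : g = 1 := by
      apply Subtype.ext
      ext i j
      have h := g.2
      rw [Matrix.det_eq_elem_of_subsingleton _ i] at h
      rw [Subsingleton.elim j i, h]
      simp
    rw [this]
    exact one_mem _
  intro g _
  refine SLGen.mem_of_all_transvections _ (fun i j hij c => ?_) g
  have hv : i.val ≠ j.val := fun e => hij (Fin.ext e)
  rcases Nat.lt_or_ge i.val j.val with h | h
  · exact (key (j.val - i.val - 1) i j (by omega) hij c).1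
  · exact (key (i.val - j.val - 1) j i (by omega) hij.symm c).2

variable (F m)

/-- The Gauss system of `SL (m + 1, F)`. -/
def slSys : GaussSys Γ F m where
  V := slV F m
  U := slU F m
  xp i a := x F m (Fin.castSucc_lt_succ (i := i)).ne a
  xm i a := x F m (Fin.castSucc_lt_succ (i := i)).ne' a
  tor := slTor F m
  chi := slChi F m
  c j v := v.1 j.succ j.castSucc
  d j u := u.1 j.castSucc j.succ
  k i j := if i.val + 1 = j.val ∨ j.val + 1 = i.val then 1 else 0
  par i := ⟨i.val - 1, by omega⟩
  xp_add i a b := x_add _ a b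
  xm_add i a b := x_add _ a b
  xp_mem i a := x_mem_unitri F m (b := id) _ _ Fin.castSucc_lt_succ a
  xm_mem i a := x_mem_unitri F m _ _ (OrderDual.toDual_lt_toDual.2 Fin.castSucc_lt_succ) a
  tor_xp f i a := by
    rw [slTor_x]
    congr 2
    simp [slChi]
  tor_xm f i a := by
    rw [slTor_x]
    congr 2
    simp [slChi]
  sl2 i a b w hw := sl2_word _ a b w hw _ (by
    rw [slTor_coe]
    congr 1
    funext k
    rw [slDiag_single]
    split_ifs <;> simp)
  chi_other i j hij w := by
    have hne : i.val ≠ j.val := fun e => hij (Fin.ext e)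
    show slDiag _ _ / slDiag _ _ = _
    rw [slDiag_single, slDiag_single]
    simp only [Fin.ext_iff, Fin.val_castSucc, Fin.val_succ]
    split_ifs <;> first | (exfalso; omega) | simp
  comm i j hij a b := x_commute _ _ (fun e => hij (Fin.succ_injective _ e))
    (fun e => hij (Fin.castSucc_injective _ e).symm) a b
  c_mul j v hv w hw := entry_mul OrderDual.toDual.injective (OrderDual.toDual_lt_toDual.2 Fin.castSucc_lt_succ)
    (gap_down j) hv hw
  d_mul j v hv w hw := entry_mul Function.injective_id Fin.castSucc_lt_succ (gap_up j) hv hw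
  c_xm i j a := by
    rw [x_coe, SLGen.tv_apply, if_neg (Fin.castSucc_lt_succ (i := j)).ne', zero_add]
    exact if_congr ⟨fun h => (Fin.succ_injective _ h.1).symm, fun h => by rw [h]; exact ⟨rfl, rfl⟩⟩ rfl rfl
  d_xp i j a := by
    rw [x_coe, SLGen.tv_apply, if_neg (Fin.castSucc_lt_succ (i := j)).ne, zero_add]
    exact if_congr ⟨fun h => (Fin.castSucc_injective _ h.1).symm, fun h => by rw [h]; exact ⟨rfl, rfl⟩⟩ rfl rfl
  conjp i s v hv hc := conj_kernel OrderDual.toDual.injective (OrderDual.toDual_lt_toDual.2 Fin.castSucc_lt_succ)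
    (gap_down i) _ s hv hc
  conjm i s u hu hd := conj_kernel Function.injective_id Fin.castSucc_lt_succ (gap_up i) _ s hu hd
  loc i j s hij hk v _ _ := by
    have hne : i.val ≠ j.val := fun e => hij (Fin.ext e)
    simp only [ite_eq_right_iff, one_ne_zero, imp_false, not_or] at hk
    show (x F m _ s * v * x F m _ (-s)).1 _ _ = _
    rw [conj_tv_apply, if_neg (fun e => ?_), if_neg (fun e => ?_), add_zero, add_zero]
    · have := congrArg Fin.val e; simp only [Fin.val_succ, Fin.val_castSucc] at this; omega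
    · have := congrArg Fin.val e; simp only [Fin.val_succ, Fin.val_castSucc] at this; omega
  par_lt i hi := by show i.val - 1 < i.val; omega
  k_adj i j hij h := by
    simp only [ne_eq, ite_eq_right_iff, one_ne_zero, imp_false, not_not] at h
    rcases h with h | h
    · exact Or.inr ⟨by omega, Fin.ext (by show j.val - 1 = i.val; omega)⟩
    · exact Or.inl ⟨by omega, Fin.ext (by show i.val - 1 = j.val; omega)⟩
  k_pos i hi := by
    refine ⟨?_, ?_⟩ <;> simp only [ne_eq, ite_eq_right_iff, one_ne_zero, imp_false, not_not] <;> omega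
  k_up i hi := by split_ifs <;> omega
  k_down i := by
    refine (Finset.sum_le_card_nsmul _ _ 1 fun j _ => by split_ifs <;> simp).trans ?_
    rw [smul_eq_mul, mul_one]
    refine le_trans (Finset.card_le_one.2 fun a ha b hb => ?_) (by norm_num)
    simp only [Finset.mem_filter, Finset.mem_univ, true_and, Fin.ext_iff] at ha hb
    exact Fin.ext (by omega)
  gen := gen_all
  coreV v h := by
    have hv : v ∈ slV F m := by simpa using h 1
    apply Subtype.ext
    ext p q
    rw [Matrix.SpecialLinearGroup.coe_one]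
    rcases lt_trichotomy p q with hpq | hpq | hpq
    · rw [hv.1.1 (OrderDual.toDual_lt_toDual.2 hpq), Matrix.one_apply_ne hpq.ne]
    · subst hpq; rw [hv.2, Matrix.one_apply_eq]
    · rw [core_entry v hpq.ne' ((h _).1.1 (OrderDual.toDual_lt_toDual.2 hpq)), Matrix.one_apply_ne hpq.ne']
  coreU v h := by
    have hv : v ∈ slU F m := by simpa using h 1
    apply Subtype.ext
    ext p q
    rw [Matrix.SpecialLinearGroup.coe_one]
    rcases lt_trichotomy p q with hpq | hpq | hpq
    · rw [core_entry v hpq.ne ((h _).1.1 hpq), Matrix.one_apply_ne hpq.ne]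
    · subst hpq; rw [hv.2, Matrix.one_apply_eq]
    · rw [hv.1.1 hpq, Matrix.one_apply_ne hpq.ne']

end Cfsg.Agent.GaussPre
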