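import Cfsg.Agent.EqLemmas
import Mathlib.LinearAlgebra.Matrix.SpecialLinearGroup
import Mathlib.LinearAlgebra.Matrix.SchurComplement
import Mathlib.Tactic.NoncommRing

/-!
# A special linear group at some coordinates of another

* `emb`, `emb_in`, `emb_out` : the homomorphism and its entries.
-/

set_option autoImplicit false

namespace Cfsg.Agent.GaussPre

open Matrix

variable {F : Type*} [Field F] {ι : Type*} [Fintype ι] [DecidableEq ι] {κ : Type*} [Fintype κ] [DecidableEq κ]
  (k : κ → ι)

/-- The inclusion of the two coordinates. -/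
def incl (k : κ → ι) : Matrix ι κ F := Matrix.of fun x a => if x = k a then 1 else 0

theorem incl_tr_mul (hk : Function.Injective k) : (incl (F := F) k)ᵀ * incl (F := F) k = 1 := by
  ext a b
  simp [incl, Matrix.mul_apply, Matrix.one_apply, hk.eq_iff, eq_comm]

/-- The matrix. -/
def embMat (A : Matrix κ κ F) : Matrix ι ι F := 1 + incl (F := F) k * (A - 1) * (incl (F := F) k)ᵀ

theorem embMat_apply (A : Matrix κ κ F) (x y : ι) :
    embMat k A x y = (1 : Matrix ι ι F) x y +
      ∑ a, ∑ b, (if x = k a ∧ y = k b then (A - 1) a b else 0) := by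
  rw [embMat, Matrix.add_apply]
  congr 1
  simp only [incl, Matrix.mul_apply, Matrix.transpose_apply, Matrix.of_apply, Finset.sum_mul]
  rw [Finset.sum_comm]
  refine Finset.sum_congr rfl fun a _ => Finset.sum_congr rfl fun b _ => ?_
  by_cases h1 : x = k a <;> by_cases h2 : y = k b <;> simp [h1, h2]

theorem embMat_mul (hk : Function.Injective k) (A B : Matrix κ κ F) :
    embMat k (A * B) = embMat k A * embMat k B := by
  have h : (incl (F := F) k * (A - 1) * (incl (F := F) k)ᵀ) * (incl (F := F) k * (B - 1) * (incl (F := F) k)ᵀ) =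
      incl (F := F) k * ((A - 1) * (B - 1)) * (incl (F := F) k)ᵀ := by
    simp only [Matrix.mul_assoc]
    rw [← Matrix.mul_assoc ((incl (F := F) k)ᵀ) (incl (F := F) k), incl_tr_mul k hk, Matrix.one_mul]
  rw [embMat, embMat, embMat, mul_add, mul_one, add_mul, one_mul, h,
    show A * B - 1 = (A - 1) + (B - 1) + (A - 1) * (B - 1) by noncomm_ring]
  simp only [Matrix.mul_add, Matrix.add_mul]
  abel

theorem det_embMat (hk : Function.Injective k) (A : Matrix κ κ F) : (embMat k A).det = A.det := by
  rw [embMat, Matrix.mul_assoc, Matrix.det_one_add_mul_comm, Matrix.mul_assoc, incl_tr_mul k hk, Matrix.mul_one,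
    add_sub_cancel]

/-- The homomorphism. -/
def emb (hk : Function.Injective k) : Matrix.SpecialLinearGroup κ F →* Matrix.SpecialLinearGroup ι F where
  toFun A := ⟨embMat k A.1, by rw [det_embMat k hk, A.2]⟩
  map_one' := Subtype.ext (by simp [embMat])
  map_mul' A B := Subtype.ext (embMat_mul k hk A.1 B.1)

theorem emb_in (hk : Function.Injective k) (A : Matrix.SpecialLinearGroup κ F) (a b : κ) :
    (emb k hk A).1 (k a) (k b) = A.1 a b := by
  show embMat k A.1 (k a) (k b) = _
  rw [embMat_apply]
  simp [hk.eq_iff, Matrix.one_apply, ite_and]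

theorem emb_out (hk : Function.Injective k) (A : Matrix.SpecialLinearGroup κ F) {x y : ι}
    (h : (∀ a, x ≠ k a) ∨ ∀ b, y ≠ k b) : (emb k hk A).1 x y = if x = y then 1 else 0 := by
  show embMat k A.1 x y = _
  rw [embMat_apply]
  rcases h with h | h <;> simp [h, Matrix.one_apply]

end Cfsg.Agent.GaussPre
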