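import Cfsg.Agent.Lib.GaussPre.MatSys
import Cfsg.Agent.Lib.GaussPre.SLEmb
import Cfsg.Agent.Lib.GaussPre.SL

/-!
# Frames of hyperbolic pairs in classical matrix groups

* `Frame` : a group of matrices preserving a form, with `SL` acting on the first vectors of the pairs;
* `Frame.adj` : the relation between opposite entries of unitriangular elements;
* `collapse`, `rootDia` : blocks and torus weights of a node between neighbouring pairs;
* `LastNode`, `LastNode.toMat` : with a copy of `SL(2)` at the last node it gives a `MatData`.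
-/

set_option autoImplicit false
set_option linter.unusedSectionVars false

namespace Cfsg.Agent.GaussPre

open Matrix Cfsg.Agent.SLRGD

variable (F : Type*) [Field F] (G : Type*) [Group G] (r : ℕ) (I : Type*) [Fintype I] [DecidableEq I]

/-- A frame of pairs `e i`, `σ (e i)`. -/
structure Frame where
  E : G →* GL I F
  inj : Function.Injective E
  pos : I → ℤ
  pos_inj : Function.Injective pos
  σ : I → I
  pos_σ : ∀ x, pos (σ x) = -pos x
  sg : I → F
  sg_ne : ∀ x, sg x ≠ 0
  form : ∀ g x y, ∑ z, sg z * ((E g).1 z x * (E g).1 (σ z) y) = if y = σ x then sg x else 0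
  e : Fin (r + 1) → I
  pos_e : ∀ i, pos (e i) = (i.val : ℤ) - (r + 1)
  covers : ∀ x, (∃ i, x = e i) ∨ (∃ i, x = σ (e i)) ∨ pos x = 0
  ψ : Matrix.SpecialLinearGroup (Fin (r + 1)) F →* G
  ψ_ee : ∀ A i j, (E (ψ A)).1 (e i) (e j) = A.1 i j
  ψ_ff : ∀ A i j, (E (ψ A)).1 (σ (e i)) (σ (e j)) = (A⁻¹).1 j i
  ψ_off : ∀ A x y, (∀ i j, x = e i → y = e j → False) → (∀ i j, x = σ (e i) → y = σ (e j) → False) →
    (E (ψ A)).1 x y = if x = y then 1 else 0

variable {F G r I} (Φ : Frame F G r I)

namespace Frame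

theorem σσ (x : I) : Φ.σ (Φ.σ x) = x := Φ.pos_inj (by rw [Φ.pos_σ, Φ.pos_σ, neg_neg])

theorem σ_inj : Function.Injective Φ.σ := fun x y h => by rw [← Φ.σσ x, h, Φ.σσ]

theorem e_inj : Function.Injective Φ.e := fun i j h => by
  have := congrArg Φ.pos h
  rw [Φ.pos_e, Φ.pos_e] at this
  exact Fin.ext (by omega)

theorem pos_σe (i : Fin (r + 1)) : Φ.pos (Φ.σ (Φ.e i)) = (r + 1 : ℤ) - i.val := by
  rw [Φ.pos_σ, Φ.pos_e]; ring

theorem e_ne_σe (i j : Fin (r + 1)) : Φ.e i ≠ Φ.σ (Φ.e j) := fun h => by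
  have := congrArg Φ.pos h
  rw [Φ.pos_e, Φ.pos_σe] at this
  omega

/-- Entries of the image of `SL` are trivial where the entries of the matrix are. -/
theorem ψ_δ (A : Matrix.SpecialLinearGroup (Fin (r + 1)) F) (x y : I)
    (h1 : ∀ i j, x = Φ.e i → y = Φ.e j → A.1 i j = if i = j then 1 else 0)
    (h2 : ∀ i j, x = Φ.σ (Φ.e i) → y = Φ.σ (Φ.e j) → (A⁻¹).1 j i = if j = i then 1 else 0) :
    (Φ.E (Φ.ψ A)).1 x y = if x = y then 1 else 0 := by
  by_cases a : ∃ i j, x = Φ.e i ∧ y = Φ.e j
  · obtain ⟨i, j, rfl, rfl⟩ := a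
    rw [Φ.ψ_ee, h1 i j rfl rfl]
    simp [Φ.e_inj.eq_iff]
  by_cases b : ∃ i j, x = Φ.σ (Φ.e i) ∧ y = Φ.σ (Φ.e j)
  · obtain ⟨i, j, rfl, rfl⟩ := b
    rw [Φ.ψ_ff, h2 i j rfl rfl]
    simp [Φ.σ_inj.eq_iff, Φ.e_inj.eq_iff, eq_comm]
  exact Φ.ψ_off A x y (fun i j e1 e2 => a ⟨i, j, e1, e2⟩) fun i j e1 e2 => b ⟨i, j, e1, e2⟩

/-- Conjugation by diagonal matrices. -/
theorem ψ_scale (d : I → Fˣ) (hd : ∀ x, d (Φ.σ x) = (d x)⁻¹)
    (A B : Matrix.SpecialLinearGroup (Fin (r + 1)) F)
    (h1 : ∀ i j, (d (Φ.e i) : F) * A.1 i j = B.1 i j * (d (Φ.e j) : F))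
    (h2 : ∀ i j, (d (Φ.e i) : F) * (A⁻¹).1 i j = (B⁻¹).1 i j * (d (Φ.e j) : F)) (x y : I) :
    (d x : F) * (Φ.E (Φ.ψ A)).1 x y = (Φ.E (Φ.ψ B)).1 x y * (d y : F) := by
  by_cases a : ∃ i j, x = Φ.e i ∧ y = Φ.e j
  · obtain ⟨i, j, rfl, rfl⟩ := a
    rw [Φ.ψ_ee, Φ.ψ_ee, h1]
  by_cases b : ∃ i j, x = Φ.σ (Φ.e i) ∧ y = Φ.σ (Φ.e j)
  · obtain ⟨i, j, rfl, rfl⟩ := b
    rw [Φ.ψ_ff, Φ.ψ_ff, hd, hd, Units.val_inv_eq_inv_val, Units.val_inv_eq_inv_val]
    have := h2 j i
    field_simp
    linear_combination this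
  rw [Φ.ψ_off A x y (fun i j e1 e2 => a ⟨i, j, e1, e2⟩) fun i j e1 e2 => b ⟨i, j, e1, e2⟩,
    Φ.ψ_off B x y (fun i j e1 e2 => a ⟨i, j, e1, e2⟩) fun i j e1 e2 => b ⟨i, j, e1, e2⟩]
  by_cases h : x = y
  · subst h; simp
  · simp [h]

variable [Finite G]

/-- The relation between opposite entries. -/
theorem adj {l : I → ℤ} (hl : ∀ x, l (Φ.σ x) = -l x) {g : G} (hg : g ∈ low Φ.E l) {x y : I} (hxy : l x < l y)
    (hgap : ∀ z, z ≠ x → z ≠ y → l x ≤ l z → l z ≤ l y →
      (Φ.E g).1 z x = 0 ∨ (Φ.E g).1 (Φ.σ z) (Φ.σ y) = 0) :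
    Φ.sg x * (Φ.E g).1 (Φ.σ x) (Φ.σ y) + Φ.sg y * (Φ.E g).1 y x = 0 := by
  have hne : x ≠ y := fun e => hxy.ne (congrArg l e)
  have h := Φ.form g x (Φ.σ y)
  rw [if_neg (fun e => hne (Φ.σ_inj e).symm),
    ← Finset.sum_subset (s₁ := {x, y}) (Finset.subset_univ _) (fun z _ hz => ?_), Finset.sum_pair hne,
    low_diag Φ.E hg x, low_diag Φ.E hg (Φ.σ y), one_mul, mul_one] at h
  · exact h
  simp only [Finset.mem_insert, Finset.mem_singleton, not_or] at hz
  rcases lt_or_ge (l z) (l x) with h1 | h1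
  · rw [low_zero Φ.E hg h1.le hz.1, zero_mul, mul_zero]
  rcases lt_or_ge (l y) (l z) with h2 | h2
  · rw [low_zero Φ.E hg (by rw [hl, hl]; omega) (fun e => hz.2 (Φ.σ_inj e)), mul_zero, mul_zero]
  rcases hgap z hz.1 hz.2 h1 h2 with e | e <;> simp [e]

/-- Refining the labels of a unitriangular element. -/
theorem low_refine {l c : I → ℤ} (hmono : ∀ x y, l x ≤ l y → c x ≤ c y) {g : G} (hg : g ∈ low Φ.E l)
    (h : ∀ x y, l y < l x → c x = c y → (Φ.E g).1 x y = 0) : g ∈ low Φ.E c := fun x y hxy => by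
  rcases le_or_gt (l x) (l y) with hl | hl
  · exact hg x y hl
  · rw [if_neg fun e => hl.ne' (congrArg l e)]
    exact h x y hl (le_antisymm hxy (hmono y x hl.le))

/-- Coarser labels. -/
theorem low_coarse {l c : I → ℤ} (hmono : ∀ x y, l x ≤ l y → c x ≤ c y) {g : G} (hg : g ∈ low Φ.E c) :
    g ∈ low Φ.E l := fun x y hxy => hg x y (hmono x y hxy)

theorem loc_of {X Y v : G} {a b : I} (hX : ∀ z, (Φ.E X).1 b z = if b = z then 1 else 0)
    (hY : ∀ z, (Φ.E Y).1 z a = if z = a then 1 else 0) :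
    (Φ.E (X * v * Y)).1 b a = (Φ.E v).1 b a := by
  rw [map_mul, map_mul, Units.val_mul, Units.val_mul, Matrix.mul_apply,
    Finset.sum_eq_single a (fun z _ hz => by rw [hY, if_neg hz, mul_zero]) (by simp), hY, if_pos rfl, mul_one,
    Matrix.mul_apply, Finset.sum_eq_single b (fun z _ hz => by rw [hX, if_neg (Ne.symm hz), zero_mul]) (by simp),
    hX, if_pos rfl, one_mul]

end Frame

/-- The labels of a node: two neighbours and their opposites are merged. -/
def collapse (a p : ℤ) : ℤ := if p = a + 1 then a else if p = -a then -a - 1 else p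

/-- The weights of the coroot of a node. -/
def rootDia (a p : ℤ) : ℤ :=
  (if p = a then 1 else 0) - (if p = a + 1 then 1 else 0) - (if p = -a then 1 else 0) +
    if p = -a - 1 then 1 else 0

theorem collapse_mono {a p q : ℤ} (h : p ≤ q) : collapse a p ≤ collapse a q := by
  unfold collapse; split_ifs <;> omega

theorem collapse_eq {a p q : ℤ} (h : collapse a p = collapse a q) (hpq : q < p) :
    (p = a + 1 ∧ q = a) ∨ (p = -a ∧ q = -a - 1) := by
  unfold collapse at h; split_ifs at h <;> omega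

/-- The negated position of node `i`. -/
def av (r : ℕ) (i : Fin r) : ℤ := (i.val : ℤ) - (r + 1)

/-- The two coordinates of node `i`. -/
def kk {r : ℕ} (i : Fin r) : Fin 2 → Fin (r + 1) := ![i.castSucc, i.succ]

theorem kk_inj {r : ℕ} (i : Fin r) : Function.Injective (kk i) := by
  intro a b h
  fin_cases a <;> fin_cases b <;> simp_all [kk, Fin.ext_iff]

theorem emb_uX {r : ℕ} (i : Fin r) (t : F) (p q : Fin (r + 1)) :
    (emb (kk i) (kk_inj i) (uX t)).1 p q =
      (if p = q then 1 else 0) + if p = i.castSucc ∧ q = i.succ then t else 0 := by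
  show embMat (kk i) (uX t).1 p q = _
  rw [embMat_apply, Matrix.one_apply]
  simp [kk, uX, Fin.sum_univ_two]

theorem emb_uY {r : ℕ} (i : Fin r) (t : F) (p q : Fin (r + 1)) :
    (emb (kk i) (kk_inj i) (uY t)).1 p q =
      (if p = q then 1 else 0) + if p = i.succ ∧ q = i.castSucc then t else 0 := by
  show embMat (kk i) (uY t).1 p q = _
  rw [embMat_apply, Matrix.one_apply]
  simp [kk, uY, Fin.sum_univ_two]

theorem uX_inv (t : F) : (uX t)⁻¹ = uX (-t) := by
  rw [inv_eq_iff_mul_eq_one, ← uX_add, add_neg_cancel]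
  exact Subtype.ext (by simp [uX, Matrix.one_fin_two])

theorem uY_inv (t : F) : (uY t)⁻¹ = uY (-t) := by
  rw [inv_eq_iff_mul_eq_one, ← uY_add, add_neg_cancel]
  exact Subtype.ext (by simp [uY, Matrix.one_fin_two])

theorem uD_inv (w : Fˣ) : (uD w)⁻¹ = uD w⁻¹ := by
  rw [inv_eq_iff_mul_eq_one]
  apply Subtype.ext
  show (uD w).1 * (uD w⁻¹).1 = (1 : Matrix (Fin 2) (Fin 2) F)
  ext p q
  fin_cases p <;> fin_cases q <;> simp [uD, Matrix.mul_apply, Fin.sum_univ_two]

namespace Frame

/-- The copies of `SL(2)` between neighbouring pairs are block diagonal. -/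
theorem emb_blk (i : Fin r) (A : Matrix.SpecialLinearGroup (Fin 2) F) (x y : I)
    (h : collapse (av r i) (Φ.pos x) ≠ collapse (av r i) (Φ.pos y)) :
    (Φ.E (Φ.ψ (emb (kk i) (kk_inj i) A))).1 x y = 0 := by
  have hxy : x ≠ y := fun e => h (by rw [e])
  rw [Φ.ψ_δ _ x y (fun p q e1 e2 => ?_) (fun p q e1 e2 => ?_), if_neg hxy]
  all_goals
    try rw [← map_inv]
    refine emb_out _ _ _ ?_
    by_contra hc
    simp only [not_or, not_forall, not_not] at hc
    obtain ⟨⟨a, rfl⟩, b, rfl⟩ := hc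
    refine h ?_
    rw [e1, e2]
    simp only [Φ.pos_e, Φ.pos_σe, collapse, av]
    fin_cases a <;> fin_cases b <;> simp [kk] <;> split_ifs <;> omega

/-- The copies of `SL(2)` under diagonal conjugation. -/
theorem emb_scaleX (d : I → Fˣ) (hd : ∀ x, d (Φ.σ x) = (d x)⁻¹) (i : Fin r) (t : F) (x y : I) :
    (d x : F) * (Φ.E (Φ.ψ (emb (kk i) (kk_inj i) (uX t)))).1 x y =
      (Φ.E (Φ.ψ (emb (kk i) (kk_inj i) (uX (((d (Φ.e i.castSucc) / d (Φ.e i.succ) : Fˣ) : F) * t))))).1 x y *
        (d y : F) := by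
  revert x y
  refine Φ.ψ_scale d hd _ _ (fun p q => ?_) (fun p q => ?_)
  all_goals
    try simp only [← map_inv, uX_inv]
    simp only [emb_uX]
    rcases eq_or_ne p q with rfl | hpq
    · rw [if_pos rfl, if_neg (fun h => Fin.castSucc_lt_succ.ne (h.1 ▸ h.2)),
        if_neg (fun h => Fin.castSucc_lt_succ.ne (h.1 ▸ h.2))]
      ring
    · rw [if_neg hpq]
      by_cases h : p = i.castSucc ∧ q = i.succ
      · obtain ⟨rfl, rfl⟩ := h
        simp only [and_self, if_true, zero_add, Units.val_div_eq_div_val]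
        field_simp
      · simp [h]

/-- The copies of `SL(2)` under diagonal conjugation, lower part. -/
theorem emb_scaleY (d : I → Fˣ) (hd : ∀ x, d (Φ.σ x) = (d x)⁻¹) (i : Fin r) (t : F) (x y : I) :
    (d x : F) * (Φ.E (Φ.ψ (emb (kk i) (kk_inj i) (uY t)))).1 x y =
      (Φ.E (Φ.ψ (emb (kk i) (kk_inj i) (uY ((((d (Φ.e i.castSucc) / d (Φ.e i.succ))⁻¹ : Fˣ) : F) * t))))).1 x y *
        (d y : F) := by
  revert x y
  refine Φ.ψ_scale d hd _ _ (fun p q => ?_) (fun p q => ?_)
  all_goals
    try simp only [← map_inv, uY_inv]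
    simp only [emb_uY]
    rcases eq_or_ne p q with rfl | hpq
    · rw [if_pos rfl, if_neg (fun h => Fin.castSucc_lt_succ.ne (h.2 ▸ h.1)),
        if_neg (fun h => Fin.castSucc_lt_succ.ne (h.2 ▸ h.1))]
      ring
    · rw [if_neg hpq]
      by_cases h : p = i.succ ∧ q = i.castSucc
      · obtain ⟨rfl, rfl⟩ := h
        simp only [and_self, if_true, zero_add, Units.val_div_eq_div_val, Units.val_inv_eq_inv_val]
        field_simp
      · simp [h]

end Frame

variable [Finite G]

/-- A copy of `SL(2)` at the last node. -/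
structure LastNode where
  ρl : Matrix.SpecialLinearGroup (Fin 2) F →* G
  bl : I
  pl : Fin r
  sul : F
  svl : F
  blkl : I → ℤ
  dial : I → ℤ
  bl_e : ∀ i, bl ≠ Φ.e i
  bl_pos : Φ.pos (Φ.e (Fin.last r)) < Φ.pos bl
  dial_σ : ∀ x, dial (Φ.σ x) = -dial x
  ρl_D : ∀ w, (Φ.E (ρl (uD w))).1 = diagonal fun x => ((w ^ dial x : Fˣ) : F)
  scaleX : ∀ d : I → Fˣ, (∀ x, d (Φ.σ x) = (d x)⁻¹) → ∀ t x y,
    (d x : F) * (Φ.E (ρl (uX t))).1 x y =
      (Φ.E (ρl (uX (((d (Φ.e (Fin.last r)) / d bl : Fˣ) : F) * t)))).1 x y * (d y : F)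
  scaleY : ∀ d : I → Fˣ, (∀ x, d (Φ.σ x) = (d x)⁻¹) → ∀ t x y,
    (d x : F) * (Φ.E (ρl (uY t))).1 x y =
      (Φ.E (ρl (uY ((((d (Φ.e (Fin.last r)) / d bl)⁻¹ : Fˣ) : F) * t)))).1 x y * (d y : F)
  ρl_blk : ∀ A, ρl A ∈ BDiag Φ.E blkl
  ρl_up : ∀ t, ρl (uX t) ∈ low Φ.E (fun x => -Φ.pos x)
  ρl_low : ∀ t, ρl (uY t) ∈ low Φ.E Φ.pos
  ρl_aab : ∀ t, sul * (Φ.E (ρl (uX t))).1 (Φ.e (Fin.last r)) bl = t
  ρl_bba : ∀ t, svl * (Φ.E (ρl (uY t))).1 bl (Φ.e (Fin.last r)) = t
  blkl_e : ∀ i : Fin r, blkl (Φ.e i.castSucc) ≠ blkl (Φ.e i.succ)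
  gapV : ∀ g ∈ low Φ.E Φ.pos, ∀ h ∈ low Φ.E Φ.pos, ∀ l, Φ.pos (Φ.e (Fin.last r)) < Φ.pos l →
    Φ.pos l < Φ.pos bl → (Φ.E g).1 bl l = 0 ∨ (Φ.E h).1 l (Φ.e (Fin.last r)) = 0
  gapU : ∀ g ∈ low Φ.E (fun x => -Φ.pos x), ∀ h ∈ low Φ.E (fun x => -Φ.pos x), ∀ l,
    Φ.pos (Φ.e (Fin.last r)) < Φ.pos l → Φ.pos l < Φ.pos bl →
    (Φ.E g).1 (Φ.e (Fin.last r)) l = 0 ∨ (Φ.E h).1 l bl = 0
  kerV : ∀ v ∈ low Φ.E Φ.pos, (Φ.E v).1 bl (Φ.e (Fin.last r)) = 0 → v ∈ low Φ.E blkl
  kerU : ∀ v ∈ low Φ.E (fun x => -Φ.pos x), (Φ.E v).1 (Φ.e (Fin.last r)) bl = 0 →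
    v ∈ low Φ.E (fun x => -blkl x)
  blkV : ∀ v ∈ low Φ.E blkl, v ∈ low Φ.E Φ.pos ∧ (Φ.E v).1 bl (Φ.e (Fin.last r)) = 0
  blkU : ∀ v ∈ low Φ.E (fun x => -blkl x),
    v ∈ low Φ.E (fun x => -Φ.pos x) ∧ (Φ.E v).1 (Φ.e (Fin.last r)) bl = 0
  klr : ∀ i : Fin r,
    (i ≠ pl → rootDia (av r i) (Φ.pos bl) = rootDia (av r i) (-1) ∧
      dial (Φ.e i.succ) = dial (Φ.e i.castSucc)) ∧
    (i = pl → (rootDia (av r i) (-1) < rootDia (av r i) (Φ.pos bl) ∧
        rootDia (av r i) (Φ.pos bl) ≤ rootDia (av r i) (-1) + 2) ∧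
      dial (Φ.e i.castSucc) < dial (Φ.e i.succ) ∧ dial (Φ.e i.succ) ≤ dial (Φ.e i.castSucc) + 2)
  loc₁ : ∀ j : Fin r, j ≠ pl → ∀ s, ∀ v ∈ low Φ.E Φ.pos, (Φ.E v).1 bl (Φ.e (Fin.last r)) = 0 →
    (Φ.E (ρl (uX s) * v * ρl (uX (-s)))).1 (Φ.e j.succ) (Φ.e j.castSucc) =
      (Φ.E v).1 (Φ.e j.succ) (Φ.e j.castSucc)
  loc₂ : ∀ i : Fin r, i ≠ pl → ∀ s, ∀ v ∈ low Φ.E Φ.pos, (Φ.E v).1 (Φ.e i.succ) (Φ.e i.castSucc) = 0 →
    (Φ.E (Φ.ψ (emb (kk i) (kk_inj i) (uX s)) * v * Φ.ψ (emb (kk i) (kk_inj i) (uX (-s))))).1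
        bl (Φ.e (Fin.last r)) = (Φ.E v).1 bl (Φ.e (Fin.last r))
  gen : ∀ H : Subgroup G, (∀ A, Φ.ψ A ∈ H) → (∀ A, ρl A ∈ H) → H = ⊤
  core : ∀ N : Subgroup G, N.Normal →
    (N ≤ low Φ.E Φ.pos ∨ N ≤ low Φ.E (fun x => -Φ.pos x)) → N = ⊥

variable {Φ} (L : LastNode Φ)

namespace LastNode

/-- The copies of `SL(2)`. -/
def ρ : Fin (r + 1) → Matrix.SpecialLinearGroup (Fin 2) F →* G :=
  Fin.lastCases L.ρl fun i => Φ.ψ.comp (emb (kk i) (kk_inj i))

/-- The second index of a node. -/
def bb : Fin (r + 1) → I := Fin.lastCases L.bl fun i => Φ.e i.succ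

/-- The labels of a node. -/
def blk : Fin (r + 1) → I → ℤ := Fin.lastCases L.blkl fun i x => collapse (av r i) (Φ.pos x)

/-- The weights of a node. -/
def dia : Fin (r + 1) → I → ℤ := Fin.lastCases L.dial fun i x => rootDia (av r i) (Φ.pos x)

/-- The tree. -/
def par : Fin (r + 1) → Fin (r + 1) :=
  Fin.lastCases L.pl.castSucc fun i : Fin r => ⟨i.val - 1, by omega⟩

theorem par_last : L.par (Fin.last r) = L.pl.castSucc := Fin.lastCases_last

theorem par_cast (i : Fin r) : (L.par i.castSucc).val = i.val - 1 := by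
  rw [par, Fin.lastCases_castSucc]

theorem dia_σ (i : Fin (r + 1)) (x : I) : L.dia i (Φ.σ x) = -L.dia i x := by
  cases i using Fin.lastCases with
  | last => simpa [dia] using L.dial_σ x
  | cast i =>
    simp only [dia, Fin.lastCases_castSucc, Φ.pos_σ, rootDia]
    split_ifs <;> omega

/-- The diagonal of a torus element. -/
def dval : (Fin (r + 1) → Fˣ) →* (I → Fˣ) where
  toFun f x := ∏ i, f i ^ L.dia i x
  map_one' := by funext x; simp
  map_mul' f g := by funext x; simp [mul_zpow, Finset.prod_mul_distrib]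

theorem dval_single (i : Fin (r + 1)) (w : Fˣ) (x : I) : L.dval (Pi.mulSingle i w) x = w ^ L.dia i x := by
  show ∏ j, (Pi.mulSingle i w : Fin (r + 1) → Fˣ) j ^ L.dia j x = _
  rw [Finset.prod_eq_single i (fun j _ hj => by simp [Pi.mulSingle_eq_of_ne hj]) (by simp), Pi.mulSingle_eq_same]

theorem dval_σ (f : Fin (r + 1) → Fˣ) (x : I) : L.dval f (Φ.σ x) = (L.dval f x)⁻¹ := by
  show ∏ i, f i ^ L.dia i (Φ.σ x) = (∏ i, f i ^ L.dia i x)⁻¹
  simp only [L.dia_σ, _root_.zpow_neg, Finset.prod_inv_distrib]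

/-- Diagonal matrices as units. -/
def diagGL : (I → Fˣ) →* GL I F :=
  MonoidHom.toHomUnits
    { toFun := fun d => diagonal fun x => (d x : F)
      map_one' := by simp
      map_mul' := fun a b => by simp [diagonal_mul_diagonal] }

theorem ρ_D (i : Fin (r + 1)) (w : Fˣ) :
    (Φ.E (L.ρ i (uD w))).1 = diagonal fun x => ((w ^ L.dia i x : Fˣ) : F) := by
  cases i using Fin.lastCases with
  | last => simpa [ρ, dia] using L.ρl_D w
  | cast i =>
    simp only [ρ, dia, Fin.lastCases_castSucc, MonoidHom.comp_apply]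
    have key : ∀ (w : Fˣ) (p q : Fin (r + 1)), (emb (kk i) (kk_inj i) (uD w)).1 p q =
        if p = q then ((if p = i.castSucc then w else if p = i.succ then w⁻¹ else 1 : Fˣ) : F) else 0 := by
      intro w p q
      show embMat (kk i) (uD w).1 p q = _
      rw [embMat_apply, Matrix.one_apply]
      have := kk_inj i
      rcases eq_or_ne p q with rfl | h
      · rcases eq_or_ne p i.castSucc with rfl | h1
        · simp [kk, uD, Fin.sum_univ_two, (Fin.castSucc_lt_succ (i := i)).ne, (Fin.castSucc_lt_succ (i := i)).ne']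
        · rcases eq_or_ne p i.succ with rfl | h2
          · simp [kk, uD, Fin.sum_univ_two, (Fin.castSucc_lt_succ (i := i)).ne, (Fin.castSucc_lt_succ (i := i)).ne']
          · simp [kk, uD, Fin.sum_univ_two, h1, h2]
      · simp only [if_neg h]
        simp [kk, uD, Fin.sum_univ_two]
        rw [if_neg (fun e => h (e.1.trans e.2.symm)), if_neg (fun e => h (e.1.trans e.2.symm)), add_zero]
    ext x y
    rw [diagonal_apply]
    have hi := i.isLt
    by_cases hxy : x = y
    · subst hxy
      rw [if_pos rfl]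
      rcases Φ.covers x with ⟨p, rfl⟩ | ⟨p, rfl⟩ | h0
      · rw [Φ.ψ_ee, key, if_pos rfl, Φ.pos_e]
        congr 1
        rw [show rootDia (av r i) ((p.val : ℤ) - (r + 1)) =
          if p = i.castSucc then 1 else if p = i.succ then -1 else 0 by
            have hp := p.isLt
            simp only [rootDia, av, Fin.ext_iff, Fin.val_castSucc, Fin.val_succ]
            split_ifs <;> omega]
        split_ifs <;> simp
      · rw [Φ.ψ_ff, ← map_inv, uD_inv, key, if_pos rfl, Φ.pos_σe]
        congr 1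
        rw [show rootDia (av r i) ((r + 1 : ℤ) - p.val) =
          if p = i.castSucc then -1 else if p = i.succ then 1 else 0 by
            have hp := p.isLt
            simp only [rootDia, av, Fin.ext_iff, Fin.val_castSucc, Fin.val_succ]
            split_ifs <;> omega]
        split_ifs <;> simp
      · rw [Φ.ψ_δ _ x x (fun p q e _ => ?_) (fun p q e _ => ?_), if_pos rfl, h0]
        · rw [show rootDia (av r i) 0 = 0 by simp only [rootDia, av]; split_ifs <;> omega]
          simp
        · rw [e, Φ.pos_e] at h0; exfalso; omega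
        · rw [e, Φ.pos_σe] at h0; exfalso; omega
    · rw [if_neg hxy, Φ.ψ_δ _ x y (fun p q e1 e2 => ?_) (fun p q e1 e2 => ?_), if_neg hxy]
      · have h : p ≠ q := fun h => hxy (by rw [e1, e2, h])
        rw [key, if_neg h, if_neg h]
      · have h : q ≠ p := fun h => hxy (by rw [e1, e2, h])
        rw [← map_inv, uD_inv, key, if_neg h, if_neg h]

theorem diag_mem (f : Fin (r + 1) → Fˣ) : ∃ g, Φ.E g = diagGL (L.dval f) := by
  have h : f ∈ (Φ.E.range).comap (diagGL.comp L.dval) := by
    rw [← Finset.univ_prod_mulSingle f]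
    refine Subgroup.prod_mem _ fun i _ => ⟨L.ρ i (uD (f i)), Units.ext ?_⟩
    rw [L.ρ_D]
    show _ = diagonal fun x => ((L.dval (Pi.mulSingle i (f i)) x : Fˣ) : F)
    simp only [L.dval_single]
  exact h

/-- The torus. -/
noncomputable def tor : (Fin (r + 1) → Fˣ) →* G where
  toFun f := Classical.choose (L.diag_mem f)
  map_one' := Φ.inj (by rw [Classical.choose_spec (L.diag_mem 1), map_one, map_one, map_one])
  map_mul' f g := Φ.inj (by
    rw [map_mul Φ.E, Classical.choose_spec (L.diag_mem _), Classical.choose_spec (L.diag_mem f),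
      Classical.choose_spec (L.diag_mem g), map_mul, map_mul])

theorem tor_E (f : Fin (r + 1) → Fˣ) : (Φ.E (L.tor f)).1 = diagonal fun x => (L.dval f x : F) :=
  congrArg Units.val (Classical.choose_spec (L.diag_mem f))

theorem tor_conj {f : Fin (r + 1) → Fˣ} {A B : G}
    (h : ∀ x y, (L.dval f x : F) * (Φ.E A).1 x y = (Φ.E B).1 x y * (L.dval f y : F)) :
    L.tor f * A = B * L.tor f := Φ.inj (by
  refine Units.ext (Matrix.ext fun x y => ?_)
  rw [map_mul, map_mul, Units.val_mul, Units.val_mul, L.tor_E, diagonal_mul, mul_diagonal, h])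

/-- The characters. -/
def chi (j : Fin (r + 1)) : (Fin (r + 1) → Fˣ) →* Fˣ where
  toFun f := L.dval f (Φ.e j) / L.dval f (L.bb j)
  map_one' := by simp
  map_mul' f g := by simp only [map_mul, Pi.mul_apply, mul_div_mul_comm]

theorem collapse_pair {i : Fin r} {x y : I} (hc : collapse (av r i) (Φ.pos x) = collapse (av r i) (Φ.pos y))
    (h : Φ.pos y < Φ.pos x) :
    (x = Φ.e i.succ ∧ y = Φ.e i.castSucc) ∨ (x = Φ.σ (Φ.e i.castSucc) ∧ y = Φ.σ (Φ.e i.succ)) := by
  rcases collapse_eq hc h with ⟨h1, h2⟩ | ⟨h1, h2⟩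
  · exact Or.inl ⟨Φ.pos_inj (by rw [h1, Φ.pos_e, av, Fin.val_succ]; push_cast; ring),
      Φ.pos_inj (by rw [h2, Φ.pos_e, av, Fin.val_castSucc])⟩
  · exact Or.inr ⟨Φ.pos_inj (by rw [h1, Φ.pos_σe, av, Fin.val_castSucc]; ring),
      Φ.pos_inj (by rw [h2, Φ.pos_σe, av, Fin.val_succ]; push_cast; ring)⟩

theorem k_low {i j : Fin (r + 1)} (h : i ≠ j) :
    L.dia i (Φ.e j) ≤ L.dia i (L.bb j) ∧
    (L.dia i (L.bb j) - L.dia i (Φ.e j) ≠ 0 →
      (i.val ≠ 0 ∧ L.par i = j) ∨
      (j.val ≠ 0 ∧ L.par j = i)) ∧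
    L.dia i (L.bb j) - L.dia i (Φ.e j) ≤ 2 ∧
    (i ≠ Fin.last r → j ≠ Fin.last r → L.dia i (L.bb j) - L.dia i (Φ.e j) ≤ 1) := by
  have hr : 0 < r := by have := L.pl.isLt; omega
  cases i using Fin.lastCases with
  | last =>
    cases j using Fin.lastCases with
    | last => exact absurd rfl h
    | cast j =>
      simp only [dia, bb, Fin.lastCases_last, Fin.lastCases_castSucc]
      obtain ⟨h1, h2⟩ := L.klr j
      rcases eq_or_ne j L.pl with e | e
      · refine ⟨(h2 e).2.1.le, fun _ => Or.inl ⟨?_, ?_⟩, by have := (h2 e).2.2; omega, fun h => absurd rfl h⟩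
        · simp only [Fin.val_last]; omega
        · rw [e, L.par_last]
      · rw [(h1 e).2, sub_self]
        exact ⟨le_rfl, fun h => absurd rfl h, by norm_num, fun h => absurd rfl h⟩
  | cast i =>
    cases j using Fin.lastCases with
    | last =>
      simp only [dia, bb, Fin.lastCases_last, Fin.lastCases_castSucc, Φ.pos_e, Fin.val_last]
      rw [show ((r : ℤ) - ((r : ℤ) + 1)) = -1 by ring]
      obtain ⟨h1, h2⟩ := L.klr i
      rcases eq_or_ne i L.pl with e | e
      · refine ⟨(h2 e).1.1.le, fun _ => Or.inr ⟨?_, ?_⟩, by have := (h2 e).1.2; omega, fun _ h => absurd rfl h⟩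
        · omega
        · rw [e, L.par_last]
      · rw [(h1 e).1, sub_self]
        exact ⟨le_rfl, fun h => absurd rfl h, by norm_num, fun _ h => absurd rfl h⟩
    | cast j =>
      have hne : i.val ≠ j.val := fun e => h (by rw [Fin.ext e])
      have hi := i.isLt
      have hj := j.isLt
      simp only [dia, bb, Fin.lastCases_castSucc, Φ.pos_e, rootDia, av, Fin.val_castSucc, Fin.val_succ, Fin.ext_iff,
        L.par_cast]
      push_cast
      split_ifs <;> omega

theorem k_eq_par {i : Fin (r + 1)} (hi : i.val ≠ 0) :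
    L.dia i (Φ.e (L.par i)) < L.dia i (L.bb (L.par i)) ∧ L.dia (L.par i) (Φ.e i) < L.dia (L.par i) (L.bb i) := by
  cases i using Fin.lastCases with
  | last =>
    obtain ⟨-, h2⟩ := L.klr L.pl
    rw [L.par_last]
    simp only [Fin.lastCases_last, dia, bb, Fin.lastCases_castSucc, Φ.pos_e, Fin.val_last]
    rw [show ((r : ℤ) - ((r : ℤ) + 1)) = -1 by ring]
    exact ⟨(h2 rfl).2.1, (h2 rfl).1.1⟩
  | cast i =>
    have hlt : i.val - 1 < r := by omega
    have e : L.par i.castSucc = (⟨i.val - 1, hlt⟩ : Fin r).castSucc := Fin.ext (L.par_cast i)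
    rw [e]
    have hi' : i.val ≠ 0 := by simpa using hi
    simp only [dia, bb, Fin.lastCases_castSucc, Φ.pos_e, rootDia, av, Fin.val_castSucc, Fin.val_succ]
    push_cast [Nat.one_le_iff_ne_zero.2 hi']
    constructor <;> split_ifs <;> omega

/-- The Gauss data of the matrix group. -/
noncomputable def toMat : MatData F G (r + 1) I where
  E := Φ.E
  inj := Φ.inj
  pos := Φ.pos
  pos_inj := Φ.pos_inj
  ρ := L.ρ
  tor := L.tor
  chi := L.chi
  k i j := (L.dia i (L.bb j) - L.dia i (Φ.e j)).toNat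
  par := L.par
  aa := Φ.e
  bb := L.bb
  blk := L.blk
  su := Fin.lastCases L.sul fun _ => 1
  sv := Fin.lastCases L.svl fun _ => 1
  tor_single i w := Φ.inj (Units.ext (by rw [L.tor_E, L.ρ_D]; simp only [L.dval_single]))
  tor_X f i t := L.tor_conj (by
    cases i using Fin.lastCases with
    | last => simpa [ρ, chi, bb] using L.scaleX _ (L.dval_σ f) t
    | cast i =>
      simp only [ρ, Fin.lastCases_castSucc, MonoidHom.comp_apply, chi, bb, MonoidHom.coe_mk, OneHom.coe_mk]
      exact Φ.emb_scaleX _ (L.dval_σ f) i t)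
  tor_Y f i t := L.tor_conj (by
    cases i using Fin.lastCases with
    | last => simpa [ρ, chi, bb] using L.scaleY _ (L.dval_σ f) t
    | cast i =>
      simp only [ρ, Fin.lastCases_castSucc, MonoidHom.comp_apply, chi, bb, MonoidHom.coe_mk, OneHom.coe_mk]
      exact Φ.emb_scaleY _ (L.dval_σ f) i t)
  chi_other i j hij w := by
    show L.dval _ _ / L.dval _ _ = _
    have h := (L.k_low hij).1
    rw [L.dval_single, L.dval_single, div_eq_mul_inv, ← _root_.zpow_neg, ← _root_.zpow_add, inv_pow,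
      ← zpow_natCast, ← _root_.zpow_neg, Int.toNat_of_nonneg (by omega)]
    congr 1
    ring
  ab j := by
    cases j using Fin.lastCases with
    | last => simpa [bb] using L.bl_pos
    | cast j => simp [bb, Φ.pos_e]
  ρ_blk i A x y h := by
    cases i using Fin.lastCases with
    | last =>
      simp only [blk, ρ, Fin.lastCases_last] at h ⊢
      exact L.ρl_blk A x y h
    | cast i =>
      simp only [blk, ρ, Fin.lastCases_castSucc, MonoidHom.comp_apply] at h ⊢
      exact Φ.emb_blk i A x y h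
  ρ_up i t := by
    cases i using Fin.lastCases with
    | last => simpa [ρ] using L.ρl_up t
    | cast i =>
      simp only [ρ, Fin.lastCases_castSucc, MonoidHom.comp_apply]
      intro x y hxy
      refine Φ.ψ_δ _ x y (fun p q e1 e2 => ?_) (fun p q e1 e2 => ?_)
      · rw [emb_uX, add_eq_left, ite_eq_right_iff]
        intro h; exfalso
        try simp only at hxy
        rw [e1, e2, Φ.pos_e, Φ.pos_e, h.1, h.2, Fin.val_succ, Fin.val_castSucc] at hxy
        push_cast at hxy; omega
      · rw [← map_inv, uX_inv, emb_uX, add_eq_left, ite_eq_right_iff]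
        intro h; exfalso
        try simp only at hxy
        rw [e1, e2, Φ.pos_σe, Φ.pos_σe, h.1, h.2, Fin.val_succ, Fin.val_castSucc] at hxy
        push_cast at hxy; omega
  ρ_low i t := by
    cases i using Fin.lastCases with
    | last => simpa [ρ] using L.ρl_low t
    | cast i =>
      simp only [ρ, Fin.lastCases_castSucc, MonoidHom.comp_apply]
      intro x y hxy
      refine Φ.ψ_δ _ x y (fun p q e1 e2 => ?_) (fun p q e1 e2 => ?_)
      · rw [emb_uY, add_eq_left, ite_eq_right_iff]
        intro h; exfalso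
        try simp only at hxy
        rw [e1, e2, Φ.pos_e, Φ.pos_e, h.1, h.2, Fin.val_succ, Fin.val_castSucc] at hxy
        push_cast at hxy; omega
      · rw [← map_inv, uY_inv, emb_uY, add_eq_left, ite_eq_right_iff]
        intro h; exfalso
        try simp only at hxy
        rw [e1, e2, Φ.pos_σe, Φ.pos_σe, h.1, h.2, Fin.val_succ, Fin.val_castSucc] at hxy
        push_cast at hxy; omega
  ρ_aab i j t := by
    cases i using Fin.lastCases with
    | last =>
      cases j using Fin.lastCases with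
      | last => simpa [ρ, bb] using L.ρl_aab t
      | cast j =>
        simp only [ρ, bb, Fin.lastCases_last, Fin.lastCases_castSucc, one_mul, if_neg (Fin.castSucc_ne_last j).symm]
        exact L.ρl_blk _ _ _ (L.blkl_e j)
    | cast i =>
      cases j using Fin.lastCases with
      | last =>
        simp only [ρ, bb, Fin.lastCases_last, Fin.lastCases_castSucc, MonoidHom.comp_apply,
          if_neg (Fin.castSucc_ne_last i)]
        rw [Φ.ψ_δ _ _ _ (fun p q _ e2 => absurd e2 (L.bl_e q)) (fun p q e1 _ => absurd e1 (Φ.e_ne_σe _ p)),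
          if_neg (fun e => L.bl_e _ e.symm), mul_zero]
      | cast j =>
        simp only [ρ, bb, Fin.lastCases_castSucc, MonoidHom.comp_apply, one_mul, Φ.ψ_ee, emb_uX,
          if_neg Fin.castSucc_lt_succ.ne, zero_add]
        exact if_congr ⟨fun h => h.1.symm, fun h => by obtain rfl := Fin.castSucc_injective _ h; exact ⟨rfl, rfl⟩⟩ rfl rfl
  ρ_bba i j t := by
    cases i using Fin.lastCases with
    | last =>
      cases j using Fin.lastCases with
      | last => simpa [ρ, bb] using L.ρl_bba t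
      | cast j =>
        simp only [ρ, bb, Fin.lastCases_last, Fin.lastCases_castSucc, one_mul, if_neg (Fin.castSucc_ne_last j).symm]
        exact L.ρl_blk _ _ _ (L.blkl_e j).symm
    | cast i =>
      cases j using Fin.lastCases with
      | last =>
        simp only [ρ, bb, Fin.lastCases_last, Fin.lastCases_castSucc, MonoidHom.comp_apply,
          if_neg (Fin.castSucc_ne_last i)]
        rw [Φ.ψ_δ _ _ _ (fun p q e1 _ => absurd e1 (L.bl_e p)) (fun p q _ e2 => absurd e2 (Φ.e_ne_σe _ q)),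
          if_neg (L.bl_e _), mul_zero]
      | cast j =>
        simp only [ρ, bb, Fin.lastCases_castSucc, MonoidHom.comp_apply, one_mul, Φ.ψ_ee, emb_uY,
          if_neg Fin.castSucc_lt_succ.ne', zero_add]
        exact if_congr ⟨fun h => h.2.symm, fun h => by obtain rfl := Fin.castSucc_injective _ h; exact ⟨rfl, rfl⟩⟩ rfl rfl
  gapV j g hg h hh l h1 h2 := by
    cases j using Fin.lastCases with
    | last =>
      simp only [bb, Fin.lastCases_last] at h2 ⊢
      exact L.gapV g hg h hh l h1 h2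
    | cast j => simp [bb, Φ.pos_e] at h1 h2; omega
  gapU j g hg h hh l h1 h2 := by
    cases j using Fin.lastCases with
    | last =>
      simp only [bb, Fin.lastCases_last] at h2 ⊢
      exact L.gapU g hg h hh l h1 h2
    | cast j => simp [bb, Φ.pos_e] at h1 h2; omega
  kerV i v hv h := by
    cases i using Fin.lastCases with
    | last =>
      simp only [blk, bb, Fin.lastCases_last] at h ⊢
      exact L.kerV v hv h
    | cast i =>
      simp only [blk, bb, Fin.lastCases_castSucc] at h ⊢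
      refine Φ.low_refine (fun x y => collapse_mono) hv fun x y hlt hc => ?_
      rcases collapse_pair hc hlt with ⟨rfl, rfl⟩ | ⟨rfl, rfl⟩
      · exact h
      have := Φ.adj Φ.pos_σ hv (x := Φ.e i.castSucc) (y := Φ.e i.succ) (by simp [Φ.pos_e])
        fun z hz1 hz2 l1 l2 => by
          rcases eq_or_ne (Φ.pos z) (Φ.pos (Φ.e i.castSucc)) with e | e
          · exact absurd (Φ.pos_inj e) hz1
          · exact absurd (Φ.pos_inj (a₂ := Φ.e i.succ) (by simp [Φ.pos_e] at l1 l2 e ⊢; omega)) hz2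
      rw [h, mul_zero, add_zero] at this
      exact (mul_eq_zero.1 this).resolve_left (Φ.sg_ne _)
  kerU i v hv h := by
    cases i using Fin.lastCases with
    | last =>
      simp only [blk, bb, Fin.lastCases_last] at h ⊢
      exact L.kerU v hv h
    | cast i =>
      simp only [blk, bb, Fin.lastCases_castSucc] at h ⊢
      refine Φ.low_refine (fun x y h => neg_le_neg (collapse_mono (neg_le_neg_iff.1 h))) hv fun x y hlt hc => ?_
      rcases collapse_pair (neg_inj.1 hc).symm (neg_lt_neg_iff.1 hlt) with ⟨rfl, rfl⟩ | ⟨rfl, rfl⟩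
      · exact h
      have := Φ.adj (l := fun x => -Φ.pos x) (fun x => by rw [Φ.pos_σ]) hv (x := Φ.e i.succ)
        (y := Φ.e i.castSucc) (by simp [Φ.pos_e])
        fun z hz1 hz2 l1 l2 => by
          rcases eq_or_ne (Φ.pos z) (Φ.pos (Φ.e i.castSucc)) with e | e
          · exact absurd (Φ.pos_inj e) hz2
          · exact absurd (Φ.pos_inj (a₂ := Φ.e i.succ) (by simp [Φ.pos_e] at l1 l2 e ⊢; omega)) hz1
      rw [h, mul_zero, add_zero] at this
      exact (mul_eq_zero.1 this).resolve_left (Φ.sg_ne _)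
  blkV i v hv := by
    cases i using Fin.lastCases with
    | last =>
      simp only [blk, bb, Fin.lastCases_last] at hv ⊢
      exact L.blkV v hv
    | cast i =>
      simp only [blk, bb, Fin.lastCases_castSucc] at hv ⊢
      refine ⟨Φ.low_coarse (fun x y => collapse_mono) hv, low_zero Φ.E hv ?_ fun e => ?_⟩
      · simp only [Φ.pos_e, collapse, av, Fin.val_succ, Fin.val_castSucc]; push_cast; split_ifs <;> omega
      · exact Fin.castSucc_lt_succ.ne' (Φ.e_inj e)
  blkU i v hv := by
    cases i using Fin.lastCases with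
    | last =>
      simp only [blk, bb, Fin.lastCases_last] at hv ⊢
      exact L.blkU v hv
    | cast i =>
      simp only [blk, bb, Fin.lastCases_castSucc] at hv ⊢
      refine ⟨Φ.low_coarse (fun x y h => neg_le_neg (collapse_mono (neg_le_neg_iff.1 h))) hv,
        low_zero Φ.E hv ?_ fun e => ?_⟩
      · simp only [Φ.pos_e, collapse, av, Fin.val_succ, Fin.val_castSucc]; push_cast; split_ifs <;> omega
      · exact Fin.castSucc_lt_succ.ne (Φ.e_inj e)
  loc i j s hij hk v hv h := by
    have hk' := (L.k_low hij).1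
    cases i using Fin.lastCases with
    | last =>
      cases j using Fin.lastCases with
      | last => exact absurd rfl hij
      | cast j =>
        simp only [ρ, dia, bb, Fin.lastCases_last, Fin.lastCases_castSucc] at hk hk' h ⊢
        refine L.loc₁ j (fun e => ?_) s v hv h
        have := ((L.klr j).2 e).2.1
        omega
    | cast i =>
      cases j using Fin.lastCases with
      | last =>
        simp only [ρ, dia, bb, Fin.lastCases_last, Fin.lastCases_castSucc, MonoidHom.comp_apply, Φ.pos_e,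
          Fin.val_last] at hk hk' h ⊢
        rw [show ((r : ℤ) - ((r : ℤ) + 1)) = -1 by ring] at hk hk'
        refine L.loc₂ i (fun e => ?_) s v hv h
        have := ((L.klr i).2 e).1.1
        omega
      | cast j =>
        have hne : i.val ≠ j.val := fun e => hij (by rw [Fin.ext e])
        have hi := i.isLt
        have hj := j.isLt
        have hfar : i.val + 1 ≠ j.val ∧ j.val + 1 ≠ i.val := by
          simp only [dia, bb, Fin.lastCases_castSucc, Φ.pos_e, rootDia, av, Fin.val_castSucc, Fin.val_succ] at hk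
          push_cast at hk
          constructor <;> intro e <;> split_ifs at hk <;> omega
        simp only [ρ, bb, Fin.lastCases_castSucc, MonoidHom.comp_apply]
        refine Φ.loc_of (fun z => Φ.ψ_δ _ _ _ (fun p q e1 _ => ?_) (fun p q e1 _ => absurd e1 (Φ.e_ne_σe _ p)))
          (fun z => Φ.ψ_δ _ _ _ (fun p q _ e2 => ?_) (fun p q _ e2 => absurd e2 (Φ.e_ne_σe _ q)))
        · obtain rfl := Φ.e_inj e1
          rw [emb_uX, add_eq_left, ite_eq_right_iff]
          intro h; exfalso
          simp only [Fin.ext_iff, Fin.val_succ, Fin.val_castSucc] at h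
          omega
        · obtain rfl := Φ.e_inj e2
          rw [emb_uX, add_eq_left, ite_eq_right_iff]
          intro h; exfalso
          simp only [Fin.ext_iff, Fin.val_succ, Fin.val_castSucc] at h
          omega
  par_lt i hi := by
    cases i using Fin.lastCases with
    | last => simp [L.par_last]
    | cast i => simp only [L.par_cast, Fin.val_castSucc] at hi ⊢; omega
  k_adj i j hij h := (L.k_low hij).2.1 fun e => h (by rw [e]; rfl)
  k_pos i hi := by
    have h := L.k_eq_par hi
    constructor <;> intro e <;> rw [Int.toNat_eq_zero] at e <;> omega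
  k_up i hi := by
    have h := (L.k_low (i := i) (j := L.par i)
      (fun e => by have := (L.k_eq_par hi).1; rw [← e] at this
                   revert this
                   cases i using Fin.lastCases with
                   | last => exact fun _ => Fin.castSucc_ne_last _ (L.par_last.symm.trans e.symm)
                   | cast i =>
                     have := congrArg Fin.val e
                     simp [L.par_cast] at this hi; omega)).2.2.1
    omega
  k_down i := by
    classical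
    refine (Finset.sum_le_sum (g := fun j => if j = Fin.last r then 2 else 1) fun j hj => ?_).trans ?_
    · simp only [Finset.mem_filter, Finset.mem_univ, true_and] at hj
      have hne : i ≠ j := by
        intro e
        subst e
        revert hj
        cases i using Fin.lastCases with
        | last => exact fun hj => Fin.castSucc_ne_last _ (L.par_last.symm.trans hj.2)
        | cast i =>
          intro hj
          have := congrArg Fin.val hj.2
          simp [L.par_cast] at this hj; omega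
      obtain ⟨-, -, h2, h3⟩ := L.k_low hne
      split_ifs with e
      · omega
      · have hi : i ≠ Fin.last r := by
          intro e'
          subst e'
          cases j using Fin.lastCases with
          | last => exact e rfl
          | cast j =>
            have := congrArg Fin.val hj.2
            simp [L.par_cast] at this; omega
        have := h3 hi e
        omega
    · refine le_trans (Finset.sum_le_sum_of_subset (t := {Fin.last r, ⟨min (i.val + 1) r, by omega⟩}) ?_) ?_
      · intro j hj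
        simp only [Finset.mem_filter, Finset.mem_univ, true_and] at hj
        simp only [Finset.mem_insert, Finset.mem_singleton]
        cases j using Fin.lastCases with
        | last => exact Or.inl rfl
        | cast j =>
          right
          have := congrArg Fin.val hj.2
          simp [L.par_cast] at this hj
          exact Fin.ext (by simp; omega)
      · rcases eq_or_ne (Fin.last r) (⟨min (i.val + 1) r, by omega⟩ : Fin (r + 1)) with e | e
        · rw [← e]; simp
        · rw [Finset.sum_pair e, if_pos rfl, if_neg e.symm]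
  gen H hH := by
    refine L.gen H (fun A => ?_) fun A => by simpa [ρ] using hH (Fin.last r) A
    have : Subgroup.closure ({g : Matrix.SpecialLinearGroup (Fin (r + 1)) F |
        ∃ (i : Fin r) (a : F), g = x F r (Fin.castSucc_lt_succ (i := i)).ne a} ∪
      {g | ∃ (i : Fin r) (a : F), g = x F r (Fin.castSucc_lt_succ (i := i)).ne' a}) ≤ H.comap Φ.ψ := by
      rw [Subgroup.closure_le]
      rintro g (⟨i, a, rfl⟩ | ⟨i, a, rfl⟩)
      · have h := hH i.castSucc (uX a)
        simp only [ρ, Fin.lastCases_castSucc, MonoidHom.comp_apply] at h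
        show Φ.ψ _ ∈ H
        convert h using 3
        exact Subtype.ext (Matrix.ext fun p q => by rw [x_coe, SLGen.tv_apply, emb_uX])
      · have h := hH i.castSucc (uY a)
        simp only [ρ, Fin.lastCases_castSucc, MonoidHom.comp_apply] at h
        show Φ.ψ _ ∈ H
        convert h using 3
        exact Subtype.ext (Matrix.ext fun p q => by rw [x_coe, SLGen.tv_apply, emb_uY])
    exact this (by rw [gen_all]; trivial)
  core := L.core

end LastNode

end Cfsg.Agent.GaussPre
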