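import Cfsg.Agent.Lib.GaussPre.System
import Mathlib.LinearAlgebra.Matrix.SpecialLinearGroup
import Mathlib.Data.Fintype.Card
import Mathlib.GroupTheory.OrderOfElement
import Mathlib.Tactic.LinearCombination

/-!
# Gauss systems of matrix groups

* `uX`, `uY`, `uD` : the elements of `SL(2)` of a node;
* `low` : the elements whose matrix is strictly lower block unitriangular for a labelling;
* `BDiag` : the elements whose matrix is block diagonal;
* `MatData`, `MatData.toSys` : a matrix group with a copy of `SL(2)` at each node gives a `GaussSys`.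
-/

set_option autoImplicit false
set_option linter.unusedSectionVars false

namespace Cfsg.Agent.GaussPre

open Matrix

variable {F : Type*} [Field F]

/-- The upper unitriangular element. -/
def uX (t : F) : Matrix.SpecialLinearGroup (Fin 2) F := ⟨!![1, t; 0, 1], by simp [Matrix.det_fin_two]⟩

/-- The lower unitriangular element. -/
def uY (t : F) : Matrix.SpecialLinearGroup (Fin 2) F := ⟨!![1, 0; t, 1], by simp [Matrix.det_fin_two]⟩

/-- The diagonal element. -/
def uD (w : Fˣ) : Matrix.SpecialLinearGroup (Fin 2) F :=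
  ⟨!![(w : F), 0; 0, (w : F)⁻¹], by simp [Matrix.det_fin_two]⟩

theorem uX_add (a b : F) : uX (a + b) = uX a * uX b := by
  apply Subtype.ext
  show _ = (uX a).1 * (uX b).1
  ext p q
  fin_cases p <;> fin_cases q <;> simp [uX, Matrix.mul_apply, Fin.sum_univ_two, add_comm]

theorem uY_add (a b : F) : uY (a + b) = uY a * uY b := by
  apply Subtype.ext
  show _ = (uY a).1 * (uY b).1
  ext p q
  fin_cases p <;> fin_cases q <;> simp [uY, Matrix.mul_apply, Fin.sum_univ_two]

theorem u_sl2 (a b : F) (w : Fˣ) (hw : (w : F) = 1 + a * b) :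
    uX b * uY a = uY (a / w) * uD w * uX (b / w) := by
  apply Subtype.ext
  simp only [Matrix.SpecialLinearGroup.coe_mul]
  have hw0 : (w : F) ≠ 0 := w.ne_zero
  ext p q
  fin_cases p <;> fin_cases q <;> simp [uX, uY, uD, Matrix.mul_apply, Fin.sum_univ_two]
  · rw [hw]; ring
  · field_simp
  · field_simp; rw [hw]; ring

section Low

variable {G : Type*} [Group G] [Finite G] {I : Type*} [Fintype I] [DecidableEq I] (E : G →* GL I F)

/-- Elements with matrix strictly lower block unitriangular for a labelling. -/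
def low (r : I → ℤ) : Subgroup G where
  carrier := {g | ∀ x y, r x ≤ r y → (E g).1 x y = if x = y then 1 else 0}
  one_mem' x y _ := by rw [map_one, Units.val_one, Matrix.one_apply]
  mul_mem' := by
    intro g h hg hh x y hxy
    rw [map_mul, Units.val_mul, Matrix.mul_apply, Finset.sum_eq_single x]
    · rw [hg x x le_rfl, if_pos rfl, one_mul, hh x y hxy]
    · intro z _ hz
      rcases le_total (r x) (r z) with h1 | h1
      · rw [hg x z h1, if_neg (Ne.symm hz), zero_mul]
      · rcases (h1.trans hxy).lt_or_eq with h2 | h2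
        · rw [hh z y h2.le, if_neg (fun e => by rw [e] at h2; exact lt_irrefl _ h2), mul_zero]
        · rw [hg x z (by omega), if_neg (Ne.symm hz), zero_mul]
    · simp
  inv_mem' := by
    intro g hg
    have key : ∀ k : ℕ, ∀ x y, r x ≤ r y → (E (g ^ k)).1 x y = if x = y then 1 else 0 := by
      intro k
      induction k with
      | zero => intro x y _; rw [pow_zero, map_one, Units.val_one, Matrix.one_apply]
      | succ k ih =>
        intro x y hxy
        rw [pow_succ, map_mul, Units.val_mul, Matrix.mul_apply, Finset.sum_eq_single x]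
        · rw [ih x x le_rfl, if_pos rfl, one_mul, hg x y hxy]
        · intro z _ hz
          rcases le_total (r x) (r z) with h1 | h1
          · rw [ih x z h1, if_neg (Ne.symm hz), zero_mul]
          · rcases (h1.trans hxy).lt_or_eq with h2 | h2
            · rw [hg z y h2.le, if_neg (fun e => by rw [e] at h2; exact lt_irrefl _ h2), mul_zero]
            · rw [ih x z (by omega), if_neg (Ne.symm hz), zero_mul]
        · simp
    have he : g⁻¹ = g ^ (orderOf g - 1) := by
      rw [inv_eq_iff_mul_eq_one, ← pow_succ', Nat.sub_add_cancel (orderOf_pos g), pow_orderOf_eq_one]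
    show ∀ x y, r x ≤ r y → (E g⁻¹).1 x y = _
    rw [he]
    exact key _

theorem mem_low {r : I → ℤ} {g : G} :
    g ∈ low E r ↔ ∀ x y, r x ≤ r y → (E g).1 x y = if x = y then 1 else 0 := Iff.rfl

theorem low_diag {r : I → ℤ} {g : G} (hg : g ∈ low E r) (x : I) : (E g).1 x x = 1 := by
  rw [hg x x le_rfl, if_pos rfl]

theorem low_zero {r : I → ℤ} {g : G} (hg : g ∈ low E r) {x y : I} (h : r x ≤ r y) (hne : x ≠ y) :
    (E g).1 x y = 0 := by rw [hg x y h, if_neg hne]

/-- Elements with block diagonal matrix. -/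
def BDiag (r : I → ℤ) : Subgroup G where
  carrier := {g | ∀ x y, r x ≠ r y → (E g).1 x y = 0}
  one_mem' x y h := by rw [map_one, Units.val_one, Matrix.one_apply_ne fun e => h (by rw [e])]
  mul_mem' := by
    intro g h hg hh x y hxy
    rw [map_mul, Units.val_mul, Matrix.mul_apply]
    refine Finset.sum_eq_zero fun z _ => ?_
    by_cases hz : r x = r z
    · rw [hh z y (hz ▸ hxy), mul_zero]
    · rw [hg x z hz, zero_mul]
  inv_mem' := by
    intro g hg
    have key : ∀ k : ℕ, ∀ x y, r x ≠ r y → (E (g ^ k)).1 x y = 0 := by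
      intro k
      induction k with
      | zero => intro x y h; rw [pow_zero, map_one, Units.val_one, Matrix.one_apply_ne fun e => h (by rw [e])]
      | succ k ih =>
        intro x y hxy
        rw [pow_succ, map_mul, Units.val_mul, Matrix.mul_apply]
        refine Finset.sum_eq_zero fun z _ => ?_
        by_cases hz : r x = r z
        · rw [hg z y (hz ▸ hxy), mul_zero]
        · rw [ih x z hz, zero_mul]
    have he : g⁻¹ = g ^ (orderOf g - 1) := by
      rw [inv_eq_iff_mul_eq_one, ← pow_succ', Nat.sub_add_cancel (orderOf_pos g), pow_orderOf_eq_one]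
    show ∀ x y, r x ≠ r y → (E g⁻¹).1 x y = 0
    rw [he]
    exact key _

theorem bdiag_neg {r : I → ℤ} {g : G} : g ∈ BDiag E (fun x => -r x) ↔ g ∈ BDiag E r :=
  ⟨fun h x y hxy => h x y (fun e => hxy (neg_inj.1 e)), fun h x y hxy => h x y (fun e => hxy (by simp [e]))⟩

/-- Block diagonal elements normalise the lower block unitriangular ones. -/
theorem bdiag_conj {r : I → ℤ} {b g : G} (hb : b ∈ BDiag E r) (hg : g ∈ low E r) :
    b * g * b⁻¹ ∈ low E r ∧ b⁻¹ * g * b ∈ low E r := by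
  have key : ∀ b ∈ BDiag E r, b * g * b⁻¹ ∈ low E r := by
    intro b hb x y hxy
    have hsplit : (E (b * g * b⁻¹)).1 = 1 + (E b).1 * ((E g).1 - 1) * (E b⁻¹).1 := by
      rw [mul_sub, sub_mul, mul_one, ← Units.val_mul, ← Units.val_mul, ← Units.val_mul, ← map_mul, ← map_mul,
        ← map_mul, mul_inv_cancel, map_one, Units.val_one]
      abel
    rw [hsplit, Matrix.add_apply, Matrix.one_apply, add_eq_left, Matrix.mul_apply]
    refine Finset.sum_eq_zero fun w _ => ?_
    by_cases hw : r w = r y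
    swap
    · rw [inv_mem hb w y hw, mul_zero]
    rw [Matrix.mul_apply, Finset.sum_eq_zero fun z _ => ?_, zero_mul]
    by_cases hz : r x = r z
    swap
    · rw [hb x z hz, zero_mul]
    rw [Matrix.sub_apply, hg z w (by omega), Matrix.one_apply, sub_self, mul_zero]
  refine ⟨key b hb, ?_⟩
  have := key b⁻¹ (inv_mem hb)
  rwa [inv_inv] at this

/-- An entry that cannot be reached in two steps is additive. -/
theorem low_entry_mul {r : I → ℤ} {g h : G} (hg : g ∈ low E r) (hh : h ∈ low E r) {x y : I} (hne : x ≠ y)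
    (hgap : ∀ l, r y < r l → r l < r x → (E g).1 x l = 0 ∨ (E h).1 l y = 0) :
    (E (g * h)).1 x y = (E g).1 x y + (E h).1 x y := by
  rw [map_mul, Units.val_mul, Matrix.mul_apply,
    ← Finset.sum_subset (s₁ := {x, y}) (Finset.subset_univ _) (fun l _ hl => ?_), Finset.sum_pair hne,
    low_diag E hg, low_diag E hh, one_mul, mul_one, add_comm]
  simp only [Finset.mem_insert, Finset.mem_singleton, not_or] at hl
  rcases le_or_gt (r x) (r l) with h1 | h1
  · rw [low_zero E hg h1 (Ne.symm hl.1), zero_mul]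
  rcases le_or_gt (r l) (r y) with h2 | h2
  · rw [low_zero E hh h2 hl.2, mul_zero]
  rcases hgap l h2 h1 with e | e <;> simp [e]

end Low

variable (G : Type*) [Group G] (F) (n : ℕ) (I : Type*) [Fintype I] [DecidableEq I]

/-- A matrix group with a copy of `SL(2)` at each node. -/
structure MatData [Finite G] where
  E : G →* GL I F
  inj : Function.Injective E
  pos : I → ℤ
  pos_inj : Function.Injective pos
  ρ : Fin n → Matrix.SpecialLinearGroup (Fin 2) F →* G
  tor : (Fin n → Fˣ) →* G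
  chi : Fin n → (Fin n → Fˣ) →* Fˣ
  k : Fin n → Fin n → ℕ
  par : Fin n → Fin n
  aa : Fin n → I
  bb : Fin n → I
  blk : Fin n → I → ℤ
  tor_single : ∀ i w, tor (Pi.mulSingle i w) = ρ i (uD w)
  tor_X : ∀ f i t, tor f * ρ i (uX t) = ρ i (uX ((chi i f : F) * t)) * tor f
  tor_Y : ∀ f i t, tor f * ρ i (uY t) = ρ i (uY (((chi i f)⁻¹ : Fˣ) * t)) * tor f
  chi_other : ∀ i j, i ≠ j → ∀ w : Fˣ, chi j (Pi.mulSingle i w) = (w⁻¹) ^ k i j
  ab : ∀ i, pos (aa i) < pos (bb i)
  ρ_blk : ∀ i A x y, blk i x ≠ blk i y → (E (ρ i A)).1 x y = 0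
  ρ_up : ∀ i t, ρ i (uX t) ∈ low E (fun x => -pos x)
  ρ_low : ∀ i t, ρ i (uY t) ∈ low E pos
  su : Fin n → F
  sv : Fin n → F
  ρ_aab : ∀ i j t, su j * (E (ρ i (uX t))).1 (aa j) (bb j) = if i = j then t else 0
  ρ_bba : ∀ i j t, sv j * (E (ρ i (uY t))).1 (bb j) (aa j) = if i = j then t else 0
  gapV : ∀ j, ∀ g ∈ low E pos, ∀ h ∈ low E pos, ∀ l, pos (aa j) < pos l → pos l < pos (bb j) →
    (E g).1 (bb j) l = 0 ∨ (E h).1 l (aa j) = 0
  gapU : ∀ j, ∀ g ∈ low E (fun x => -pos x), ∀ h ∈ low E (fun x => -pos x), ∀ l, pos (aa j) < pos l →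
    pos l < pos (bb j) → (E g).1 (aa j) l = 0 ∨ (E h).1 l (bb j) = 0
  kerV : ∀ i, ∀ v ∈ low E pos, (E v).1 (bb i) (aa i) = 0 → v ∈ low E (blk i)
  kerU : ∀ i, ∀ v ∈ low E (fun x => -pos x), (E v).1 (aa i) (bb i) = 0 → v ∈ low E (fun x => -blk i x)
  blkV : ∀ i, ∀ v ∈ low E (blk i), v ∈ low E pos ∧ (E v).1 (bb i) (aa i) = 0
  blkU : ∀ i, ∀ v ∈ low E (fun x => -blk i x), v ∈ low E (fun x => -pos x) ∧ (E v).1 (aa i) (bb i) = 0
  loc : ∀ i j s, i ≠ j → k i j = 0 → ∀ v ∈ low E pos, (E v).1 (bb i) (aa i) = 0 →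
    (E (ρ i (uX s) * v * ρ i (uX (-s)))).1 (bb j) (aa j) = (E v).1 (bb j) (aa j)
  par_lt : ∀ i : Fin n, i.val ≠ 0 → (par i).val < i.val
  k_adj : ∀ i j, i ≠ j → k i j ≠ 0 → (i.val ≠ 0 ∧ par i = j) ∨ (j.val ≠ 0 ∧ par j = i)
  k_pos : ∀ i : Fin n, i.val ≠ 0 → k i (par i) ≠ 0 ∧ k (par i) i ≠ 0
  k_up : ∀ i : Fin n, i.val ≠ 0 → k i (par i) ≤ 3
  k_down : ∀ i : Fin n,
    ∑ j ∈ Finset.univ.filter (fun j : Fin n => j.val ≠ 0 ∧ par j = i), k i j ≤ 3
  gen : ∀ H : Subgroup G, (∀ i A, ρ i A ∈ H) → H = ⊤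
  core : ∀ N : Subgroup G, N.Normal → (N ≤ low E pos ∨ N ≤ low E (fun x => -pos x)) → N = ⊥

variable {G F n I} [Finite G] (D : MatData F G n I)

namespace MatData

theorem su_ne (j : Fin n) : D.su j ≠ 0 := fun e => by simpa [e] using D.ρ_aab j j 1

theorem sv_ne (j : Fin n) : D.sv j ≠ 0 := fun e => by simpa [e] using D.ρ_bba j j 1

theorem kerV' {i : Fin n} {v : G} (hv : v ∈ low D.E D.pos) (h : D.sv i * (D.E v).1 (D.bb i) (D.aa i) = 0) :
    v ∈ low D.E (D.blk i) :=
  D.kerV i v hv ((mul_eq_zero.1 h).resolve_left (D.sv_ne i))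

theorem kerU' {i : Fin n} {v : G} (hv : v ∈ low D.E (fun x => -D.pos x))
    (h : D.su i * (D.E v).1 (D.aa i) (D.bb i) = 0) : v ∈ low D.E (fun x => -D.blk i x) :=
  D.kerU i v hv ((mul_eq_zero.1 h).resolve_left (D.su_ne i))

theorem commute (i j : Fin n) (hij : i ≠ j) (s t : F) : Commute (D.ρ i (uX s)) (D.ρ j (uY t)) := by
  set X := D.ρ i (uX s)
  set Y := D.ρ j (uY t)
  have hY : Y ∈ low D.E (D.blk i) := D.kerV' (D.ρ_low j t) (by rw [D.ρ_bba, if_neg (Ne.symm hij)])
  have hX : X ∈ low D.E (fun x => -D.blk j x) := D.kerU' (D.ρ_up i s) (by rw [D.ρ_aab, if_neg hij])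
  have h1 : X * Y * X⁻¹ * Y⁻¹ ∈ low D.E D.pos :=
    (D.blkV i _ (mul_mem (bdiag_conj D.E (D.ρ_blk i (uX s)) hY).1 (inv_mem hY))).1
  have h2 : X * Y * X⁻¹ * Y⁻¹ ∈ low D.E (fun x => -D.pos x) := by
    rw [mul_assoc X Y, mul_assoc X (Y * X⁻¹)]
    exact (D.blkU j _ (mul_mem hX (bdiag_conj D.E (bdiag_neg D.E |>.2 (D.ρ_blk j (uY t))) (inv_mem hX)).1)).1
  have h3 : X * Y * X⁻¹ * Y⁻¹ = 1 := D.inj (by
    rw [map_one]
    refine Units.ext (Matrix.ext fun x y => ?_)
    rw [Units.val_one, Matrix.one_apply]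
    rcases le_total (D.pos x) (D.pos y) with h | h
    · exact h1 x y h
    · exact h2 x y (neg_le_neg h))
  rwa [mul_inv_eq_one, mul_inv_eq_iff_eq_mul] at h3

theorem neg_uX (i : Fin n) (s : F) : D.ρ i (uX (-s)) = (D.ρ i (uX s))⁻¹ := by
  rw [eq_inv_iff_mul_eq_one, ← map_mul, ← uX_add, neg_add_cancel]
  convert map_one (D.ρ i) using 2
  exact Subtype.ext (by simp [uX, Matrix.one_fin_two])

theorem neg_uY (i : Fin n) (s : F) : D.ρ i (uY (-s)) = (D.ρ i (uY s))⁻¹ := by
  rw [eq_inv_iff_mul_eq_one, ← map_mul, ← uY_add, neg_add_cancel]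
  convert map_one (D.ρ i) using 2
  exact Subtype.ext (by simp [uY, Matrix.one_fin_two])

theorem core_one {r : I → ℤ} (hr : r = D.pos ∨ r = fun x => -D.pos x) {v : G}
    (h : ∀ g, g * v * g⁻¹ ∈ low D.E r) : v = 1 := by
  have hn : Subgroup.normalClosure ({v} : Set G) ≤ low D.E r := by
    rw [Subgroup.normalClosure, Subgroup.closure_le]
    intro x hx
    obtain ⟨a, ha, hc⟩ := Group.mem_conjugatesOfSet_iff.1 hx
    rw [Set.mem_singleton_iff.1 ha] at hc
    obtain ⟨g, rfl⟩ := isConj_iff.1 hc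
    exact h g
  have hb := D.core _ Subgroup.normalClosure_normal (by rcases hr with rfl | rfl; exacts [Or.inl hn, Or.inr hn])
  have : v ∈ Subgroup.normalClosure ({v} : Set G) := Subgroup.subset_normalClosure rfl
  rwa [hb, Subgroup.mem_bot] at this

/-- The Gauss system. -/
def toSys : GaussSys G F n where
  V := low D.E D.pos
  U := low D.E (fun x => -D.pos x)
  xp i t := D.ρ i (uX t)
  xm i t := D.ρ i (uY t)
  tor := D.tor
  chi := D.chi
  c j v := D.sv j * (D.E v).1 (D.bb j) (D.aa j)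
  d j v := D.su j * (D.E v).1 (D.aa j) (D.bb j)
  k := D.k
  par := D.par
  xp_add i a b := by rw [uX_add, map_mul]
  xm_add i a b := by rw [uY_add, map_mul]
  xp_mem i a := D.ρ_up i a
  xm_mem i a := D.ρ_low i a
  tor_xp f i a := D.tor_X f i a
  tor_xm f i a := D.tor_Y f i a
  sl2 i a b w hw := by rw [← map_mul, u_sl2 a b w hw, map_mul, map_mul, D.tor_single]
  chi_other := D.chi_other
  comm i j hij a b := (D.commute i j hij a b).eq
  c_mul j x hx y hy := by
    rw [low_entry_mul D.E hx hy (fun e => (D.ab j).ne' (congrArg D.pos e))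
      fun l h1 h2 => D.gapV j x hx y hy l h1 h2, mul_add]
  d_mul j x hx y hy := by
    rw [low_entry_mul D.E hx hy (fun e => (D.ab j).ne (congrArg D.pos e))
      fun l h1 h2 => D.gapU j x hx y hy l (neg_lt_neg_iff.1 h2) (neg_lt_neg_iff.1 h1), mul_add]
  c_xm i j a := D.ρ_bba i j a
  d_xp i j a := D.ρ_aab i j a
  conjp i s v hv hc := by
    rw [D.neg_uX]
    obtain ⟨h1, h2⟩ := D.blkV i _ (bdiag_conj D.E (D.ρ_blk i (uX s)) (D.kerV' hv hc)).1
    exact ⟨h1, by rw [h2, mul_zero]⟩
  conjm i s v hv hc := by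
    rw [D.neg_uY]
    obtain ⟨h1, h2⟩ := D.blkU i _ (bdiag_conj D.E ((bdiag_neg D.E).2 (D.ρ_blk i (uY s))) (D.kerU' hv hc)).1
    exact ⟨h1, by rw [h2, mul_zero]⟩
  loc i j s hij hk v hv hc := congrArg (D.sv j * ·) (D.loc i j s hij hk v hv ((mul_eq_zero.1 hc).resolve_left (D.sv_ne i)))
  par_lt := D.par_lt
  k_adj := D.k_adj
  k_pos := D.k_pos
  k_up := D.k_up
  k_down := D.k_down
  gen := by
    refine D.gen _ fun i A => ?_
    have hx : ∀ t, D.ρ i (uX t) ∈ Subgroup.closure
        ({g : G | ∃ i a, g = D.ρ i (uX a)} ∪ {g | ∃ i a, g = D.ρ i (uY a)}) :=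
      fun t => Subgroup.subset_closure (Or.inl ⟨i, t, rfl⟩)
    have hy : ∀ t, D.ρ i (uY t) ∈ Subgroup.closure
        ({g : G | ∃ i a, g = D.ρ i (uX a)} ∪ {g | ∃ i a, g = D.ρ i (uY a)}) :=
      fun t => Subgroup.subset_closure (Or.inr ⟨i, t, rfl⟩)
    by_cases hc : A.1 1 0 = 0
    · have e : A = (uX ((-1 + (A * uY 1).1 0 0) / (A * uY 1).1 1 0) * uY ((A * uY 1).1 1 0) *
          uX ((-1 + (A * uY 1).1 1 1) / (A * uY 1).1 1 0)) * uY (-1) := by
        have hd : A.1 1 1 ≠ 0 := by
          intro e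
          have h := A.2
          rw [Matrix.det_fin_two, hc, e] at h
          simp at h
        have h := A.2
        rw [Matrix.det_fin_two, hc] at h
        apply Subtype.ext
        simp only [Matrix.SpecialLinearGroup.coe_mul]
        ext p q
        fin_cases p <;> fin_cases q <;> simp [uX, uY, Matrix.mul_apply, Fin.sum_univ_two, hc] <;> field_simp <;>
          first | ring1 | linear_combination h | linear_combination -h
      rw [e, map_mul, map_mul, map_mul]
      exact mul_mem (mul_mem (mul_mem (hx _) (hy _)) (hx _)) (hy _)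
    · have e : A = uX ((A.1 0 0 - 1) / A.1 1 0) * uY (A.1 1 0) * uX ((A.1 1 1 - 1) / A.1 1 0) := by
        have h := A.2
        rw [Matrix.det_fin_two] at h
        apply Subtype.ext
        simp only [Matrix.SpecialLinearGroup.coe_mul]
        ext p q
        fin_cases p <;> fin_cases q <;> simp [uX, uY, Matrix.mul_apply, Fin.sum_univ_two] <;> field_simp <;>
          first | ring1 | linear_combination h | linear_combination -h
      rw [e, map_mul, map_mul]
      exact mul_mem (mul_mem (hx _) (hy _)) (hx _)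
  coreV v h := D.core_one (Or.inl rfl) h
  coreU v h := D.core_one (Or.inr rfl) h

end MatData

end Cfsg.Agent.GaussPre
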