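import Cfsg.Agent.Lib.GaussPre.Core
import Cfsg.Agent.Lib.GaussPre.MatSys

/-!
# Levi subgroups of type `A` of matrix groups

* `MatLevi`, `MatLevi.toCore` : a block of a Levi subgroup given by labels gives the data of the criterion.
-/

set_option autoImplicit false
set_option linter.unusedSectionVars false

namespace Cfsg.Agent.GaussPre

open Matrix

variable {F : Type*} [Field F] {G : Type*} [Group G] {n : ℕ} {I : Type*} [Fintype I] [DecidableEq I]
  [Finite G]

/-- A diagonal element with distinct values on different labels fixes only `1` in `low`. -/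
theorem low_fix (E : G →* GL I F) (hE : Function.Injective E) {r : I → ℤ} {ev : I → Fˣ}
    (hev : ∀ x y, r x ≠ r y → ev x ≠ ev y) {t : G} (ht : (E t).1 = diagonal fun x => (ev x : F))
    (N : ℕ) (hN : ∀ c : F, c ^ N = 1 → c = 1) {w : G} (hw : w ∈ low E r) (hc : t ^ N * w = w * t ^ N) : w = 1 := by
  refine hE ?_
  rw [map_one]
  refine Units.ext (Matrix.ext fun x y => ?_)
  rw [Units.val_one, Matrix.one_apply]
  rcases le_or_gt (r x) (r y) with h | h
  · exact hw x y h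
  rw [if_neg (fun e => h.ne' (congrArg r e))]
  have key := congrArg (fun g => (E g).1 x y) hc
  simp only [map_mul, map_pow, Units.val_mul, Units.val_pow_eq_pow_val, ht, diagonal_pow, diagonal_mul,
    mul_diagonal, Pi.pow_apply] at key
  by_contra h0
  have e : (ev x : F) ^ N = (ev y : F) ^ N := by
    rw [mul_comm] at key
    exact mul_left_cancel₀ h0 key
  refine hev x y h.ne' (Units.ext ?_)
  have := hN ((ev x : F) / (ev y : F)) (by rw [div_pow, e, div_self (pow_ne_zero _ (ev y).ne_zero)])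
  rwa [div_eq_one_iff_eq (ev y).ne_zero] at this

variable (D : MatData F G n I) (m : ℕ)

/-- A Levi subgroup given by labels, with its block of type `A`. -/
structure MatLevi where
  φ : Matrix.SpecialLinearGroup (Fin (m + 2)) F →* G
  f : Fin n → Fˣ
  lab : I → ℤ
  ev : I → Fˣ
  kb : Fin (m + 2) → I
  tor_f : (D.E (D.tor f)).1 = diagonal fun x => (ev x : F)
  ev_iff : ∀ x y, ev x = ev y ↔ lab x = lab y
  lab_mono : ∀ x y, D.pos x ≤ D.pos y → lab x ≤ lab y
  kb_mono : StrictMono fun p => D.pos (kb p)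
  kb_surj : ∀ z, lab z = lab (kb 0) → ∃ p, kb p = z
  kb_lab : ∀ p, lab (kb p) = lab (kb 0)
  φ_blk : ∀ A p q, (D.E (φ A)).1 (kb p) (kb q) = A.1 p q
  φ_mid : ∀ A, φ A ∈ BDiag D.E lab
  φ_V : ∀ T ∈ slV F (m + 1), φ T ∈ low D.E D.pos
  φ_U : ∀ T ∈ slU F (m + 1), φ T ∈ low D.E (fun x => -D.pos x)
  kerV : ∀ v ∈ low D.E D.pos,
    (∀ p q, (D.E v).1 (kb p) (kb q) = if p = q then 1 else 0) → v ∈ low D.E lab
  kerU : ∀ v ∈ low D.E (fun x => -D.pos x),
    (∀ p q, (D.E v).1 (kb p) (kb q) = if p = q then 1 else 0) → v ∈ low D.E (fun x => -lab x)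
  node : ∃ j, ∀ a, φ (slTor F (m + 1) (Pi.mulSingle 0 a)) = D.ρ j (uD a)
  diag : ∀ a : Fˣ, ∃ d ∈ BDiag D.E lab, ∃ Y : GL (Fin (m + 2)) F, Matrix.GeneralLinearGroup.det Y = a ∧
    ∀ A B : Matrix.SpecialLinearGroup (Fin (m + 2)) F,
      (Matrix.SpecialLinearGroup.toGL B : GL (Fin (m + 2)) F) = Y * Matrix.SpecialLinearGroup.toGL A * Y⁻¹ →
        d * φ A * d⁻¹ = φ B
  flip : ∃ w : G, w * D.tor f * w⁻¹ = (D.tor f)⁻¹ ∧ ∃ A B : Matrix.SpecialLinearGroup (Fin (m + 2)) F,
    w * φ A * w⁻¹ = φ B ∧ IsConj (jor1 F (m + 2)) (Matrix.SpecialLinearGroup.toGL A) ∧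
      IsConj (jor1 F (m + 2)) (Matrix.SpecialLinearGroup.toGL B)

namespace MatLevi

variable {D m} (L : MatLevi D m)

/-- The block of a matrix. -/
def blkM (v : G) : Matrix (Fin (m + 2)) (Fin (m + 2)) F := (D.E v).1.submatrix L.kb L.kb

theorem kb_inj : Function.Injective L.kb := fun p q h => L.kb_mono.injective (congrArg D.pos h)

/-- The block is multiplicative on elements unitriangular for the positions. -/
theorem blkM_mul {r : I → ℤ} (hr : r = D.pos ∨ r = fun x => -D.pos x) {g h : G} (hg : g ∈ low D.E r)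
    (hh : h ∈ low D.E r) : L.blkM (g * h) = L.blkM g * L.blkM h := by
  ext p q
  simp only [blkM, map_mul, Units.val_mul, Matrix.submatrix_apply, Matrix.mul_apply]
  rw [← Finset.sum_image (f := fun z => (D.E g).1 (L.kb p) z * (D.E h).1 z (L.kb q))
    fun a _ b _ e => L.kb_inj e]
  symm
  refine Finset.sum_subset (Finset.subset_univ _) fun z _ hz => ?_
  have hne : ∀ p, z ≠ L.kb p := fun p e => hz (Finset.mem_image.2 ⟨p, Finset.mem_univ _, e.symm⟩)
  have hl : L.lab z ≠ L.lab (L.kb 0) := fun e => by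
    obtain ⟨p, hp⟩ := L.kb_surj z e
    exact hne p hp.symm
  rcases lt_or_gt_of_ne hl with h' | h'
  · have hp : ∀ p, D.pos z < D.pos (L.kb p) := fun p => not_le.1 fun e => by
      have := L.lab_mono _ _ e; rw [L.kb_lab] at this; omega
    rcases hr with rfl | rfl
    · rw [low_zero D.E hh (hp q).le (hne q), mul_zero]
    · rw [low_zero D.E hg (neg_le_neg (hp p).le) (Ne.symm (hne p)), zero_mul]
  · have hp : ∀ p, D.pos (L.kb p) < D.pos z := fun p => not_le.1 fun e => by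
      have := L.lab_mono _ _ e; rw [L.kb_lab] at this; omega
    rcases hr with rfl | rfl
    · rw [low_zero D.E hg (hp p).le (Ne.symm (hne p)), zero_mul]
    · rw [low_zero D.E hh (neg_le_neg (hp q).le) (hne q), mul_zero]

theorem blkM_one : L.blkM 1 = 1 := by
  rw [blkM, map_one, Units.val_one, Matrix.submatrix_one _ L.kb_inj]

theorem blkM_φ (A : Matrix.SpecialLinearGroup (Fin (m + 2)) F) : L.blkM (L.φ A) = A.1 :=
  Matrix.ext fun p q => L.φ_blk A p q

theorem split {r : I → ℤ} (hr : r = D.pos ∨ r = fun x => -D.pos x)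
    (K : Subgroup (Matrix.SpecialLinearGroup (Fin (m + 2)) F))
    (hK : ∀ T ∈ K, L.φ T ∈ low D.E r)
    (hmem : ∀ T : Matrix.SpecialLinearGroup (Fin (m + 2)) F, ∀ v ∈ low D.E r, T.1 = L.blkM v → T ∈ K)
    {l : I → ℤ} (hker : ∀ v ∈ low D.E r,
      (∀ p q, (D.E v).1 (L.kb p) (L.kb q) = if p = q then 1 else 0) → v ∈ low D.E l)
    (hdet : ∀ v ∈ low D.E r, (L.blkM v).det = 1) {v : G} (hv : v ∈ low D.E r) :
    ∃ q ∈ low D.E l, ∃ T ∈ K, v = q * L.φ T := by
  have hT : (⟨L.blkM v, hdet v hv⟩ : Matrix.SpecialLinearGroup (Fin (m + 2)) F) ∈ K := hmem _ v hv rfl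
  refine ⟨v * (L.φ ⟨L.blkM v, hdet v hv⟩)⁻¹, ?_, _, hT, (inv_mul_cancel_right _ _).symm⟩
  refine hker _ (mul_mem hv (inv_mem (hK _ hT))) fun p q => ?_
  have h := congrFun (congrFun (L.blkM_mul hr hv (inv_mem (hK _ hT))) p) q
  set T : Matrix.SpecialLinearGroup (Fin (m + 2)) F := ⟨L.blkM v, hdet v hv⟩ with hT'
  have e : (L.φ T)⁻¹ = L.φ T⁻¹ := (map_inv _ _).symm
  rw [e, L.blkM_φ] at h
  rw [e]
  refine h.trans ?_
  show (T.1 * (T⁻¹).1) p q = _
  rw [← Matrix.SpecialLinearGroup.coe_mul, mul_inv_cancel, Matrix.SpecialLinearGroup.coe_one, Matrix.one_apply]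

theorem blkV_tri {v : G} (hv : v ∈ low D.E D.pos) :
    (L.blkM v).BlockTriangular OrderDual.toDual ∧ ∀ p, L.blkM v p p = 1 :=
  ⟨fun p q h => low_zero D.E hv (L.kb_mono (OrderDual.toDual_lt_toDual.1 h)).le
      (fun e => (OrderDual.toDual_lt_toDual.1 h).ne (L.kb_inj e)),
    fun p => low_diag D.E hv _⟩

theorem blkU_tri {v : G} (hv : v ∈ low D.E (fun x => -D.pos x)) :
    (L.blkM v).IsUpperTriangular ∧ ∀ p, L.blkM v p p = 1 :=
  ⟨fun p q h => low_zero D.E hv (neg_le_neg (L.kb_mono h).le) (fun e => ne_of_gt h (L.kb_inj e)),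
    fun p => low_diag D.E hv _⟩

theorem detV {v : G} (hv : v ∈ low D.E D.pos) : (L.blkM v).det = 1 := by
  rw [Matrix.det_of_isLowerTriangular _ (L.blkV_tri hv).1, Finset.prod_eq_one fun p _ => (L.blkV_tri hv).2 p]

theorem detU {v : G} (hv : v ∈ low D.E (fun x => -D.pos x)) : (L.blkM v).det = 1 := by
  rw [Matrix.det_of_isUpperTriangular (L.blkU_tri hv).1, Finset.prod_eq_one fun p _ => (L.blkU_tri hv).2 p]

theorem inv_val {r : I → ℤ} (hr : r = D.pos ∨ r = fun x => -D.pos x)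
    {T : Matrix.SpecialLinearGroup (Fin (m + 2)) F} {v : G} (hv : v ∈ low D.E r) (hT : T.1 = L.blkM v) :
    (T⁻¹).1 = L.blkM v⁻¹ := by
  have h : T.1 * L.blkM v⁻¹ = 1 := by rw [hT, ← L.blkM_mul hr hv (inv_mem hv), mul_inv_cancel, L.blkM_one]
  calc (T⁻¹).1 = (T⁻¹).1 * (T.1 * L.blkM v⁻¹) := by rw [h, mul_one]
    _ = L.blkM v⁻¹ := by rw [← mul_assoc, ← Matrix.SpecialLinearGroup.coe_mul, inv_mul_cancel,
        Matrix.SpecialLinearGroup.coe_one, one_mul]

/-- The data of the criterion. -/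
def toCore : CoreData m D.toSys where
  φ := L.φ
  f := L.f
  P := low D.E L.lab
  Q := low D.E (fun x => -L.lab x)
  M := BDiag D.E L.lab
  tor_mid x y h := by
    show (D.E (D.tor L.f)).1 x y = 0
    rw [L.tor_f, diagonal_apply_ne _ fun e => h (by rw [e])]
  φ_mid := L.φ_mid
  comm_s g hg := D.inj (by
    refine Units.ext (Matrix.ext fun x y => ?_)
    show ((D.E (D.tor L.f * g)).1) x y = (D.E (g * D.tor L.f)).1 x y
    rw [map_mul, map_mul, Units.val_mul, Units.val_mul, L.tor_f, diagonal_mul, mul_diagonal]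
    by_cases h : L.lab x = L.lab y
    · rw [(L.ev_iff x y).2 h, mul_comm]
    · rw [hg x y h, mul_zero, zero_mul])
  normP g hg w hw := bdiag_conj D.E hg hw
  normQ g hg w hw := bdiag_conj D.E ((bdiag_neg D.E).2 hg) hw
  fixP N hN w hw hc := low_fix D.E D.inj (fun x y h e => h ((L.ev_iff x y).1 e)) L.tor_f N hN hw
    (by rw [← map_pow]; exact hc)
  fixQ N hN w hw hc := low_fix D.E D.inj (r := fun x => -L.lab x)
    (fun x y h e => h (neg_inj.2 ((L.ev_iff x y).1 e))) L.tor_f N hN hw (by rw [← map_pow]; exact hc)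
  splitV v hv := L.split (Or.inl rfl) _ L.φ_V
    (fun T w hw e => ⟨⟨show T.1.BlockTriangular _ by rw [e]; exact (L.blkV_tri hw).1,
      show (T⁻¹).1.BlockTriangular _ by rw [L.inv_val (Or.inl rfl) hw e]; exact (L.blkV_tri (inv_mem hw)).1⟩,
      fun p => by rw [e]; exact (L.blkV_tri hw).2 p⟩)
    L.kerV (fun w hw => L.detV hw) hv
  splitU v hv := L.split (Or.inr rfl) _ L.φ_U
    (fun T w hw e => ⟨⟨show T.1.BlockTriangular _ by rw [e]; exact (L.blkU_tri hw).1,
      show (T⁻¹).1.BlockTriangular _ by rw [L.inv_val (Or.inr rfl) hw e]; exact (L.blkU_tri (inv_mem hw)).1⟩,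
      fun p => by rw [e]; exact (L.blkU_tri hw).2 p⟩)
    L.kerU (fun w hw => L.detU hw) hv
  node := by
    obtain ⟨j, hj⟩ := L.node
    exact ⟨j, fun a => by rw [hj]; exact (D.tor_single j a).symm⟩
  diag := L.diag
  flip := L.flip

/-- A group with such a subgroup squares a class to a central quotient. -/
theorem square [Fintype F] {H : Type*} [Group H] (L : MatLevi D m) (π : G →* H) (hπ : Function.Surjective π)
    (hker : ∀ z ∈ Subgroup.center G, π z = 1) (hF : 9 ≤ Fintype.card F) :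
    ∃ c : H, ∀ h : H, ∃ a b : H, h = (a * c * a⁻¹) * (b * c * b⁻¹) :=
  L.toCore.square π hπ hker hF

end MatLevi

end Cfsg.Agent.GaussPre
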