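import Cfsg.Agent.Lib.GaussPre.Frame
import Cfsg.Agent.Lib.GaussPre.MatLevi

/-!
# Levi subgroups of type `A` in frames

* `FrameLevi`, `FrameLevi.toLevi` : a window of the first vectors of the pairs, with labels, gives a `MatLevi`.
-/

set_option autoImplicit false
set_option linter.unusedSectionVars false

namespace Cfsg.Agent.GaussPre

open Matrix

variable {F : Type*} [Field F] {G : Type*} [Group G] {r : ℕ} {I : Type*} [Fintype I] [DecidableEq I]
variable {Φ : Frame F G r I} [Finite G] (L : LastNode Φ) (m : ℕ)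

/-- A window of the first vectors, with labels. -/
structure FrameLevi where
  off : ℕ
  off_le : off + (m + 2) ≤ r + 1
  L₀ : ℤ
  L₀_ne : L₀ ≠ 0
  lab : I → ℤ
  lab_σ : ∀ x, lab (Φ.σ x) = -lab x
  lab_mono : ∀ x y, Φ.pos x ≤ Φ.pos y → lab x ≤ lab y
  lab_win : ∀ x, lab x = L₀ ↔ ∃ i : Fin (r + 1), x = Φ.e i ∧ off ≤ i.val ∧ i.val < off + (m + 2)
  mid : ∀ l : I → ℤ, (l = Φ.pos ∨ l = fun x => -Φ.pos x) → ∀ g ∈ low Φ.E l, ∀ x y, x ≠ y → lab x = lab y →
    lab x ≠ L₀ → lab x ≠ -L₀ → (Φ.E g).1 x y = 0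
  base : Fˣ
  base_inj : ∀ x y, base ^ lab x = base ^ lab y → lab x = lab y
  f : Fin (r + 1) → Fˣ
  dval_f : ∀ x, L.dval f x = base ^ lab x
  jdet : Fin (r + 1)
  jdet_sum : (∑ p : Fin (m + 2), L.dia jdet (Φ.e ⟨off + p.val, by omega⟩)) = 1 ∨
    (∑ p : Fin (m + 2), L.dia jdet (Φ.e ⟨off + p.val, by omega⟩)) = -1
  w : G
  π : I → I
  π_π : ∀ x, π (π x) = x
  cw : I → Fˣ
  w_E : ∀ x y, (Φ.E w).1 x y = if y = π x then (cw x : F) else 0
  π_lab : ∀ x, lab (π x) = -lab x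
  π_σ : ∀ x, lab x ≠ 0 → π x = Φ.σ x
  eps : Fˣ
  cw_σ : ∀ x, lab x ≠ 0 → cw (Φ.σ x) * cw x = eps

variable {L m} (W : FrameLevi L m)

namespace FrameLevi

/-- The window. -/
def win (p : Fin (m + 2)) : Fin (r + 1) := ⟨W.off + p.val, by have := W.off_le; omega⟩

theorem win_val (p : Fin (m + 2)) : (W.win p).val = W.off + p.val := rfl

theorem win_inj : Function.Injective W.win := fun p q h => by
  have := congrArg Fin.val h
  simp only [W.win_val] at this
  exact Fin.ext (by omega)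

theorem lab_e (p : Fin (m + 2)) : W.lab (Φ.e (W.win p)) = W.L₀ :=
  (W.lab_win _).2 ⟨_, rfl, by simp [W.win_val], by rw [W.win_val]; omega⟩

theorem of_lab {x : I} (h : W.lab x = W.L₀) : ∃ p, x = Φ.e (W.win p) := by
  obtain ⟨i, rfl, h1, h2⟩ := (W.lab_win x).1 h
  exact ⟨⟨i.val - W.off, by omega⟩, congrArg Φ.e (Fin.ext (by rw [W.win_val]; show i.val = W.off + (i.val - W.off); omega))⟩

theorem of_lab_neg {x : I} (h : W.lab x = -W.L₀) : ∃ p, x = Φ.σ (Φ.e (W.win p)) := by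
  obtain ⟨p, hp⟩ := W.of_lab (x := Φ.σ x) (by rw [W.lab_σ, h, neg_neg])
  exact ⟨p, by rw [← hp, Φ.σσ]⟩

/-- The block of type `A`. -/
def φ : Matrix.SpecialLinearGroup (Fin (m + 2)) F →* G := Φ.ψ.comp (emb W.win W.win_inj)

theorem φ_δ (A : Matrix.SpecialLinearGroup (Fin (m + 2)) F) (x y : I)
    (h1 : ∀ p q, x = Φ.e (W.win p) → y = Φ.e (W.win q) → A.1 p q = if p = q then 1 else 0)
    (h2 : ∀ p q, x = Φ.σ (Φ.e (W.win p)) → y = Φ.σ (Φ.e (W.win q)) → (A⁻¹).1 q p = if q = p then 1 else 0) :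
    (Φ.E (W.φ A)).1 x y = if x = y then 1 else 0 := by
  refine Φ.ψ_δ _ x y (fun i j e1 e2 => ?_) (fun i j e1 e2 => ?_)
  · by_cases a : ∃ p q, i = W.win p ∧ j = W.win q
    · obtain ⟨p, q, rfl, rfl⟩ := a
      rw [emb_in, h1 p q e1 e2]
      simp [W.win_inj.eq_iff]
    · exact emb_out _ _ _ (by by_contra hc; push Not at hc; obtain ⟨⟨p, hp⟩, q, hq⟩ := hc; exact a ⟨p, q, hp, hq⟩)
  · rw [← map_inv]
    by_cases a : ∃ p q, i = W.win p ∧ j = W.win q
    · obtain ⟨p, q, rfl, rfl⟩ := a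
      rw [emb_in, h2 p q e1 e2]
      simp [W.win_inj.eq_iff]
    · exact emb_out _ _ _ (by by_contra hc; push Not at hc; obtain ⟨⟨q, hq⟩, p, hp⟩ := hc; exact a ⟨p, q, hp, hq⟩)

theorem φ_in (A : Matrix.SpecialLinearGroup (Fin (m + 2)) F) (p q : Fin (m + 2)) :
    (Φ.E (W.φ A)).1 (Φ.e (W.win p)) (Φ.e (W.win q)) = A.1 p q ∧
    (Φ.E (W.φ A)).1 (Φ.σ (Φ.e (W.win p))) (Φ.σ (Φ.e (W.win q))) = (A⁻¹).1 q p := by
  refine ⟨?_, ?_⟩
  · show (Φ.E (Φ.ψ _)).1 _ _ = _
    rw [Φ.ψ_ee, emb_in]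
  · show (Φ.E (Φ.ψ _)).1 _ _ = _
    rw [Φ.ψ_ff, ← map_inv, emb_in]

/-- Weighted conjugation of the block. -/
theorem φ_scale (c : I → Fˣ) (π : I → I) (hπ : Function.Injective π) (A B : Matrix.SpecialLinearGroup (Fin (m + 2)) F)
    (h1 : ∀ p q, (c (Φ.e (W.win p)) : F) * (Φ.E (W.φ A)).1 (π (Φ.e (W.win p))) (π (Φ.e (W.win q))) =
      B.1 p q * (c (Φ.e (W.win q)) : F))
    (h2 : ∀ p q, (c (Φ.σ (Φ.e (W.win p))) : F) *
        (Φ.E (W.φ A)).1 (π (Φ.σ (Φ.e (W.win p)))) (π (Φ.σ (Φ.e (W.win q)))) =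
      (B⁻¹).1 q p * (c (Φ.σ (Φ.e (W.win q))) : F))
    (h3 : ∀ x y p q, (π x = Φ.e (W.win p) → π y = Φ.e (W.win q) →
        (∃ p' q', x = Φ.e (W.win p') ∧ y = Φ.e (W.win q')) ∨ ∃ p' q', x = Φ.σ (Φ.e (W.win p')) ∧ y = Φ.σ (Φ.e (W.win q'))) ∧
      (π x = Φ.σ (Φ.e (W.win p)) → π y = Φ.σ (Φ.e (W.win q)) →
        (∃ p' q', x = Φ.e (W.win p') ∧ y = Φ.e (W.win q')) ∨ ∃ p' q', x = Φ.σ (Φ.e (W.win p')) ∧ y = Φ.σ (Φ.e (W.win q'))))
    (x y : I) :
    (c x : F) * (Φ.E (W.φ A)).1 (π x) (π y) = (Φ.E (W.φ B)).1 x y * (c y : F) := by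
  by_cases a : ∃ p q, x = Φ.e (W.win p) ∧ y = Φ.e (W.win q)
  · obtain ⟨p, q, rfl, rfl⟩ := a
    rw [(W.φ_in B p q).1, h1]
  by_cases b : ∃ p q, x = Φ.σ (Φ.e (W.win p)) ∧ y = Φ.σ (Φ.e (W.win q))
  · obtain ⟨p, q, rfl, rfl⟩ := b
    rw [(W.φ_in B p q).2, h2]
  rw [W.φ_δ B x y (fun p q e1 e2 => absurd ⟨p, q, e1, e2⟩ a) (fun p q e1 e2 => absurd ⟨p, q, e1, e2⟩ b),
    W.φ_δ A (π x) (π y) (fun p q e1 e2 => ?_) (fun p q e1 e2 => ?_)]
  · by_cases h : x = y
    · subst h; simp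
    · simp [h, hπ.eq_iff]
  · rcases (h3 x y p q).1 e1 e2 with h | h
    · exact absurd h a
    · exact absurd h b
  · rcases (h3 x y p q).2 e1 e2 with h | h
    · exact absurd h a
    · exact absurd h b

theorem φ_low (T : Matrix.SpecialLinearGroup (Fin (m + 2)) F) (h1 : ∀ p q, p < q → T.1 p q = 0)
    (h2 : ∀ p, T.1 p p = 1) (h1' : ∀ p q, p < q → (T⁻¹).1 p q = 0) (h2' : ∀ p, (T⁻¹).1 p p = 1) :
    W.φ T ∈ low Φ.E Φ.pos := fun x y hxy => W.φ_δ T x y
  (fun p q e1 e2 => by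
    rw [e1, e2, Φ.pos_e, Φ.pos_e, W.win_val, W.win_val] at hxy
    have : p ≤ q := Fin.le_def.2 (by push_cast at hxy; omega)
    rcases this.lt_or_eq with h | h
    · rw [h1 p q h, if_neg h.ne]
    · rw [h, h2, if_pos rfl])
  (fun p q e1 e2 => by
    rw [e1, e2, Φ.pos_σe, Φ.pos_σe, W.win_val, W.win_val] at hxy
    have : q ≤ p := Fin.le_def.2 (by push_cast at hxy; omega)
    rcases this.lt_or_eq with h | h
    · rw [h1' q p h, if_neg h.ne]
    · rw [h, h2', if_pos rfl])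

theorem φ_upp (T : Matrix.SpecialLinearGroup (Fin (m + 2)) F) (h1 : ∀ p q, q < p → T.1 p q = 0)
    (h2 : ∀ p, T.1 p p = 1) (h1' : ∀ p q, q < p → (T⁻¹).1 p q = 0) (h2' : ∀ p, (T⁻¹).1 p p = 1) :
    W.φ T ∈ low Φ.E (fun x => -Φ.pos x) := fun x y hxy => W.φ_δ T x y
  (fun p q e1 e2 => by
    simp only [e1, e2, Φ.pos_e, W.win_val] at hxy
    have : q ≤ p := Fin.le_def.2 (by push_cast at hxy; omega)
    rcases this.lt_or_eq with h | h
    · rw [h1 p q h, if_neg h.ne']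
    · rw [h, h2, if_pos rfl])
  (fun p q e1 e2 => by
    simp only [e1, e2, Φ.pos_σe, W.win_val] at hxy
    have : p ≤ q := Fin.le_def.2 (by push_cast at hxy; omega)
    rcases this.lt_or_eq with h | h
    · rw [h1' q p h, if_neg h.ne']
    · rw [h, h2', if_pos rfl])

theorem ker {l c : I → ℤ} (hl : l = Φ.pos ∨ l = fun x => -Φ.pos x)
    (hmono : ∀ x y, l x ≤ l y → c x ≤ c y) (hc : ∀ x y, c x = c y → W.lab x = W.lab y)
    (v : G) (hv : v ∈ low Φ.E l)
    (h : ∀ p q, (Φ.E v).1 (Φ.e (W.win p)) (Φ.e (W.win q)) = if p = q then 1 else 0) :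
    v ∈ low Φ.E c := by
  refine Φ.low_refine hmono hv fun x y hlt hcxy => ?_
  have hne : x ≠ y := fun e => hlt.ne' (congrArg l e)
  by_cases h1 : W.lab x = W.L₀
  · obtain ⟨p, rfl⟩ := W.of_lab h1
    obtain ⟨q, rfl⟩ := W.of_lab ((hc _ _ hcxy).symm.trans h1)
    rw [h, if_neg fun e => hne (by rw [e])]
  by_cases h2 : W.lab x = -W.L₀
  swap
  · exact W.mid l hl v hv x y hne (hc _ _ hcxy) h1 h2
  obtain ⟨p, rfl⟩ := W.of_lab_neg h2
  obtain ⟨q, rfl⟩ := W.of_lab_neg ((hc _ _ hcxy).symm.trans h2)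
  have hσ : ∀ x, l (Φ.σ x) = -l x := fun x => by rcases hl with rfl | rfl <;> simp [Φ.pos_σ]
  have hlt' : l (Φ.e (W.win p)) < l (Φ.e (W.win q)) := by rw [hσ, hσ] at hlt; omega
  have hpq : p ≠ q := fun e => hne (by rw [e])
  have := Φ.adj hσ hv hlt' fun z hz1 hz2 l1 l2 => by
    have hz : W.lab z = W.L₀ := by
      rcases hl with rfl | rfl
      · have := W.lab_mono _ _ l1; have := W.lab_mono _ _ l2; simp only [W.lab_e] at *; omega
      · have := W.lab_mono _ _ (neg_le_neg_iff.1 l1); have := W.lab_mono _ _ (neg_le_neg_iff.1 l2)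
        simp only [W.lab_e] at *; omega
    obtain ⟨i, rfl⟩ := W.of_lab hz
    left
    rw [h, if_neg fun e => hz1 (by rw [e])]
  rw [h, if_neg hpq.symm, mul_zero, add_zero] at this
  exact (mul_eq_zero.1 this).resolve_left (Φ.sg_ne _)

theorem jor_inv_tr {B : Matrix.SpecialLinearGroup (Fin (m + 2)) F} (c : Fin (m + 2) → Fˣ)
    {J : Matrix.SpecialLinearGroup (Fin (m + 2)) F} (hJ : Matrix.SpecialLinearGroup.toGL J = jor1 F (m + 2))
    (hB : ∀ p q, (c p : F) * (J⁻¹).1 q p = B.1 p q * c q) :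
    IsConj (jor1 F (m + 2)) (Matrix.SpecialLinearGroup.toGL B) := by
  obtain ⟨x₀, hx₀⟩ := exists_conj_inv (K := F) (k := m + 2)
  refine (isConj_iff.2 ⟨x₀, hx₀.symm⟩ : IsConj (jor1 F (m + 2)) (jor1 F (m + 2))⁻¹).trans ?_
  let R : Matrix (Fin (m + 2)) (Fin (m + 2)) F := Matrix.of fun p q => if q = p.rev then 1 else 0
  have hR : R * R = 1 := by
    ext p q
    rw [Matrix.mul_apply, Finset.sum_eq_single p.rev (fun j _ hj => by simp [R, hj]) (by simp)]
    simp [R, Matrix.one_apply, eq_comm]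
  have hRm : ∀ (M : Matrix (Fin (m + 2)) (Fin (m + 2)) F) p q, (R * M * R) p q = M p.rev q.rev := by
    intro M p q
    rw [Matrix.mul_apply, Finset.sum_eq_single q.rev (fun j _ hj => ?_) (by simp), Matrix.mul_apply,
      Finset.sum_eq_single p.rev (fun j _ hj => by simp [R, hj]) (by simp)]
    · simp [R]
    · have hq : q ≠ j.rev := fun e => hj (by rw [e, Fin.rev_rev])
      simp [R, hq]
  let R' : GL (Fin (m + 2)) F := ⟨R, R, hR, hR⟩
  let C : GL (Fin (m + 2)) F := ⟨diagonal fun p => (c p : F), diagonal fun p => ((c p)⁻¹ : Fˣ),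
    by simp [diagonal_mul_diagonal], by simp [diagonal_mul_diagonal]⟩
  have hJv : (J : Matrix (Fin (m + 2)) (Fin (m + 2)) F) = jorMat F (m + 2) := congrArg Units.val hJ
  have hT : (jorMat F (m + 2))ᵀ = R * jorMat F (m + 2) * R := by
    ext p q
    rw [hRm, Matrix.transpose_apply]
    simp only [jorMat, Matrix.of_apply, Fin.ext_iff, Fin.val_rev]
    have := p.isLt
    have := q.isLt
    split_ifs <;> first | rfl | (exfalso; omega)
  have hinv : ((J⁻¹).1)ᵀ = R * (J⁻¹).1 * R := by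
    refine left_inv_eq_right_inv (a := (J.1)ᵀ) ?_ ?_
    · rw [← Matrix.transpose_mul, ← Matrix.SpecialLinearGroup.coe_mul, mul_inv_cancel,
        Matrix.SpecialLinearGroup.coe_one, Matrix.transpose_one]
    · rw [hJv, hT, ← hJv, show R * J.1 * R * (R * (J⁻¹).1 * R) = R * J.1 * (R * R) * (J⁻¹).1 * R by
        simp only [Matrix.mul_assoc], hR, Matrix.mul_one, Matrix.mul_assoc R, ← Matrix.SpecialLinearGroup.coe_mul,
        mul_inv_cancel, Matrix.SpecialLinearGroup.coe_one, Matrix.mul_one, hR]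
  refine isConj_iff.2 ⟨C * R', ?_⟩
  rw [mul_inv_eq_iff_eq_mul]
  have e : (C * R' * (jor1 F (m + 2))⁻¹ * R'⁻¹ : GL (Fin (m + 2)) F) = Matrix.SpecialLinearGroup.toGL B * C := by
    refine Units.ext (Matrix.ext fun p q => ?_)
    rw [← hJ, ← map_inv, Units.val_mul, Units.val_mul, Units.val_mul, Units.val_mul]
    show (diagonal (fun p => (c p : F)) * R * (J⁻¹).1 * R) p q = (B.1 * diagonal fun p => (c p : F)) p q
    rw [Matrix.mul_assoc _ R, Matrix.mul_assoc, ← hinv, diagonal_mul, mul_diagonal, Matrix.transpose_apply, hB]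
  rw [← mul_assoc, ← e]
  group

/-- The Levi data. -/
noncomputable def toLevi : MatLevi L.toMat m where
  φ := W.φ
  f := W.f
  lab := W.lab
  ev x := W.base ^ W.lab x
  kb p := Φ.e (W.win p)
  tor_f := by
    show (Φ.E (L.tor W.f)).1 = _
    rw [L.tor_E]
    simp only [W.dval_f]
  ev_iff x y := ⟨W.base_inj x y, fun h => by rw [h]⟩
  lab_mono := W.lab_mono
  kb_mono p q h := by
    show Φ.pos _ < Φ.pos _
    rw [Φ.pos_e, Φ.pos_e, W.win_val, W.win_val]
    have : p.val < q.val := h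
    omega
  kb_surj z hz := by
    obtain ⟨p, hp⟩ := W.of_lab (hz.trans (W.lab_e 0))
    exact ⟨p, hp.symm⟩
  kb_lab p := by rw [W.lab_e, W.lab_e]
  φ_blk A p q := (W.φ_in A p q).1
  φ_mid A x y h := by
    show (Φ.E (W.φ A)).1 x y = 0
    rw [W.φ_δ A x y (fun p q e1 e2 => absurd (by rw [e1, e2, W.lab_e, W.lab_e]) h)
      (fun p q e1 e2 => absurd (by rw [e1, e2, W.lab_σ, W.lab_σ, W.lab_e, W.lab_e]) h), if_neg fun e => h (by rw [e])]
  φ_V T hT := W.φ_low T (fun p q h => hT.1.1 (OrderDual.toDual_lt_toDual.2 h)) hT.2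
    (fun p q h => hT.1.2 (OrderDual.toDual_lt_toDual.2 h)) (inv_mem hT).2
  φ_U T hT := W.φ_upp T (fun p q h => hT.1.1 h) hT.2 (fun p q h => hT.1.2 h) (inv_mem hT).2
  kerV v hv h := W.ker (Or.inl rfl) W.lab_mono (fun x y e => e) v hv h
  kerU v hv h := W.ker (l := fun x => -Φ.pos x) (Or.inr rfl)
    (fun x y h => neg_le_neg (W.lab_mono y x (neg_le_neg_iff.1 h))) (fun x y e => neg_inj.1 e) v hv h
  node := by
    have hoff : W.off < r := by have := W.off_le; omega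
    refine ⟨(⟨W.off, hoff⟩ : Fin r).castSucc, fun a => ?_⟩
    show Φ.ψ _ = L.ρ (⟨W.off, hoff⟩ : Fin r).castSucc (uD a)
    simp only [LastNode.ρ, Fin.lastCases_castSucc, MonoidHom.comp_apply]
    congr 1
    apply Subtype.ext
    ext p q
    by_cases hin : ∃ s t, p = W.win s ∧ q = W.win t
    · obtain ⟨s, t, rfl, rfl⟩ := hin
      rw [emb_in, slTor_coe, diagonal_apply, slDiag_single]
      show _ = embMat _ (uD a).1 _ _
      rw [embMat_apply, Matrix.one_apply]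
      simp only [kk, Fin.sum_univ_two, Matrix.cons_val_zero, Matrix.cons_val_one, Fin.ext_iff, W.win_val,
        Fin.val_castSucc, Fin.val_succ, Fin.val_zero]
      simp only [Nat.add_left_cancel_iff, Nat.add_eq_left, zero_add]
      generalize s.val = i, t.val = j
      simp [uD]
      split_ifs <;> first | (exfalso; omega) | simp
    · rw [emb_out _ _ _ (by by_contra hc; push Not at hc; obtain ⟨⟨s, hs⟩, t, ht⟩ := hc; exact hin ⟨s, t, hs, ht⟩),
        emb_out _ _ _ ?_]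
      by_contra hc
      push Not at hc
      obtain ⟨⟨s, hs⟩, t, ht⟩ := hc
      have key : ∀ s : Fin 2, ∃ s' : Fin (m + 2), (kk (⟨W.off, hoff⟩ : Fin r)) s = W.win s' := fun s =>
        ⟨⟨s.val, by omega⟩, Fin.ext (by fin_cases s <;> simp [kk, W.win_val])⟩
      obtain ⟨s', hs'⟩ := key s
      obtain ⟨t', ht'⟩ := key t
      exact hin ⟨s', t', hs.trans hs', ht.trans ht'⟩
  diag a := by
    obtain ⟨e, he⟩ : ∃ e : ℤ, (∑ p : Fin (m + 2), L.dia W.jdet (Φ.e (W.win p))) * e = 1 := by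
      rcases W.jdet_sum with h | h
      · exact ⟨1, by rw [mul_one]; exact h⟩
      · exact ⟨-1, by rw [mul_neg, mul_one, neg_eq_iff_eq_neg]; exact h⟩
    let g : Fin (r + 1) → Fˣ := Pi.mulSingle W.jdet (a ^ e)
    let d : Fin (m + 2) → Fˣ := fun p => L.dval g (Φ.e (W.win p))
    let Y : GL (Fin (m + 2)) F := ⟨diagonal fun p => (d p : F), diagonal fun p => ((d p)⁻¹ : Fˣ),
      by simp [diagonal_mul_diagonal], by simp [diagonal_mul_diagonal]⟩
    refine ⟨L.tor g, fun x y h => ?_, Y, Units.ext ?_, fun A B h => ?_⟩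
    · show (Φ.E (L.tor g)).1 x y = 0
      rw [L.tor_E, diagonal_apply_ne _ fun e => h (by rw [e])]
    · rw [Matrix.GeneralLinearGroup.val_det_apply]
      show (diagonal fun p => (d p : F)).det = _
      rw [det_diagonal, ← Units.coe_prod]
      congr 1
      simp only [d, g, L.dval_single, ← _root_.zpow_mul]
      rw [show (∏ p : Fin (m + 2), a ^ (e * L.dia W.jdet (Φ.e (W.win p)))) =
        a ^ ∑ p : Fin (m + 2), e * L.dia W.jdet (Φ.e (W.win p)) from ?_, ← Finset.mul_sum, mul_comm, he, _root_.zpow_one]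
      induction (Finset.univ : Finset (Fin (m + 2))) using Finset.cons_induction with
      | empty => simp
      | cons p s hp ih => rw [Finset.prod_cons, Finset.sum_cons, _root_.zpow_add, ih]
    · have hi : (Matrix.SpecialLinearGroup.toGL B⁻¹ : GL (Fin (m + 2)) F) =
          Y * Matrix.SpecialLinearGroup.toGL A⁻¹ * Y⁻¹ := by rw [map_inv, map_inv, h]; group
      have conv : ∀ {A B : Matrix.SpecialLinearGroup (Fin (m + 2)) F},
          (Matrix.SpecialLinearGroup.toGL B : GL (Fin (m + 2)) F) = Y * Matrix.SpecialLinearGroup.toGL A * Y⁻¹ →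
          ∀ p q, (d p : F) * A.1 p q = B.1 p q * d q := by
        intro A B h p q
        rw [eq_mul_inv_iff_mul_eq] at h
        have := congrArg (fun g : GL (Fin (m + 2)) F => g.1 p q) h
        simp only [Units.val_mul] at this
        rw [show Y.1 = diagonal fun p => (d p : F) from rfl, mul_diagonal, diagonal_mul] at this
        exact this.symm
      rw [mul_inv_eq_iff_eq_mul]
      refine L.tor_conj (W.φ_scale (L.dval g) id Function.injective_id A B
        (fun p q => ?_) (fun p q => ?_) (fun x y p q => ⟨fun e1 e2 => Or.inl ⟨p, q, e1, e2⟩,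
          fun e1 e2 => Or.inr ⟨p, q, e1, e2⟩⟩))
      · show _ * (Φ.E (W.φ A)).1 _ _ = _
        simp only [id]
        rw [(W.φ_in A p q).1]
        exact conv h p q
      · show _ * (Φ.E (W.φ A)).1 _ _ = _
        simp only [id]
        rw [(W.φ_in A p q).2, L.dval_σ, L.dval_σ, Units.val_inv_eq_inv_val, Units.val_inv_eq_inv_val]
        have := conv hi q p
        simp only [d] at this
        field_simp
        linear_combination this
  flip := by
    have hπ : Function.Injective W.π := fun x y h => by rw [← W.π_π x, h, W.π_π]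
    have hne : ∀ p, W.lab (Φ.e (W.win p)) ≠ 0 := fun p => by rw [W.lab_e]; exact W.L₀_ne
    have hne' : ∀ p, W.lab (Φ.σ (Φ.e (W.win p))) ≠ 0 := fun p => by
      rw [W.lab_σ, W.lab_e, neg_ne_zero]; exact W.L₀_ne
    have rel : ∀ X X' : G, (∀ x y, (W.cw x : F) * (Φ.E X).1 (W.π x) (W.π y) = (Φ.E X').1 x y * W.cw y) →
        W.w * X = X' * W.w := fun X X' h => Φ.inj (by
      refine Units.ext (Matrix.ext fun x y => ?_)
      rw [map_mul, map_mul, Units.val_mul, Units.val_mul, Matrix.mul_apply, Matrix.mul_apply,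
        Finset.sum_eq_single (W.π x) (fun z _ hz => by rw [W.w_E, if_neg hz, zero_mul]) (by simp),
        Finset.sum_eq_single (W.π y) (fun z _ hz => by
          rw [W.w_E, if_neg (fun e => hz (by rw [e, W.π_π])), mul_zero]) (by simp),
        W.w_E, W.w_E, if_pos rfl, if_pos (W.π_π y).symm, ← h, W.π_π])
    refine ⟨W.w, ?_, ?_⟩
    · show W.w * L.tor W.f * W.w⁻¹ = (L.tor W.f)⁻¹
      rw [mul_inv_eq_iff_eq_mul, ← map_inv L.tor]
      refine rel _ _ fun x y => ?_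
      rw [L.tor_E, L.tor_E, map_inv, Pi.inv_def]
      simp only [diagonal_apply, W.dval_f, W.π_lab, hπ.eq_iff, _root_.zpow_neg]
      split_ifs with e
      · subst e; rw [mul_comm]
      · simp
    let J : Matrix.SpecialLinearGroup (Fin (m + 2)) F := ⟨jorMat F (m + 2), SLComm.det_uReg (jorMat_uReg F (m + 2))⟩
    have hJ : (Matrix.SpecialLinearGroup.toGL J : GL (Fin (m + 2)) F) = jor1 F (m + 2) := Units.ext rfl
    let c : Fin (m + 2) → Fˣ := fun p => W.cw (Φ.e (W.win p))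
    have hdet : (Matrix.of fun p q => (c p : F) * (J⁻¹).1 q p * ((c q)⁻¹ : Fˣ)).det = 1 := by
      rw [show (Matrix.of fun p q => (c p : F) * (J⁻¹).1 q p * ((c q)⁻¹ : Fˣ)) =
        diagonal (fun p => (c p : F)) * ((J⁻¹).1)ᵀ * diagonal (fun p => (((c p)⁻¹ : Fˣ) : F)) from ?_,
        det_mul, det_mul, det_transpose, (J⁻¹).2, mul_one, ← det_mul, diagonal_mul_diagonal]
      · simp
      · ext p q
        rw [mul_diagonal, diagonal_mul]
        rfl
    let B : Matrix.SpecialLinearGroup (Fin (m + 2)) F := ⟨_, hdet⟩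
    have hB : ∀ p q, (c p : F) * (J⁻¹).1 q p = B.1 p q * c q := fun p q => by
      show _ = (c p : F) * (J⁻¹).1 q p * ((c q)⁻¹ : Fˣ) * c q
      rw [mul_assoc, ← Units.val_mul, inv_mul_cancel, Units.val_one, mul_one]
    have hBi : ∀ p q, (B⁻¹).1 p q = (c p : F) * J.1 q p * ((c q)⁻¹ : Fˣ) := by
      let B' : Matrix (Fin (m + 2)) (Fin (m + 2)) F := Matrix.of fun p q => (c p : F) * J.1 q p * ((c q)⁻¹ : Fˣ)
      suffices h : (B⁻¹).1 = B' from fun p q => by rw [h]; rfl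
      refine left_inv_eq_right_inv (a := B.1) ?_ ?_
      · rw [← Matrix.SpecialLinearGroup.coe_mul, inv_mul_cancel, Matrix.SpecialLinearGroup.coe_one]
      · ext p q
        rw [Matrix.mul_apply, show ∑ z, B.1 p z * B' z q =
          (c p : F) * ((c q)⁻¹ : Fˣ) * ∑ z, J.1 q z * (J⁻¹).1 z p from ?_, ← Matrix.mul_apply,
          ← Matrix.SpecialLinearGroup.coe_mul, mul_inv_cancel, Matrix.SpecialLinearGroup.coe_one]
        · simp only [Matrix.one_apply]
          by_cases e : p = q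
          · subst e; simp
          · simp [e, Ne.symm e]
        · rw [Finset.mul_sum]
          refine Finset.sum_congr rfl fun z _ => ?_
          show (c p : F) * (J⁻¹).1 z p * ((c z)⁻¹ : Fˣ) * ((c z : F) * J.1 q z * ((c q)⁻¹ : Fˣ)) = _
          have : (((c z)⁻¹ : Fˣ) : F) * (c z : F) = 1 := by rw [← Units.val_mul, inv_mul_cancel, Units.val_one]
          linear_combination ((c p : F) * ((c q)⁻¹ : Fˣ) * J.1 q z * (J⁻¹).1 z p) * this
    refine ⟨J, B, ?_, hJ ▸ IsConj.refl _, jor_inv_tr c hJ hB⟩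
    rw [mul_inv_eq_iff_eq_mul]
    refine rel _ _ (W.φ_scale W.cw W.π hπ J B (fun p q => ?_) (fun p q => ?_) fun x y p q => ⟨fun e1 e2 => ?_, fun e1 e2 => ?_⟩)
    · rw [W.π_σ _ (hne p), W.π_σ _ (hne q), (W.φ_in J p q).2]
      exact hB p q
    · rw [W.π_σ _ (hne' p), W.π_σ _ (hne' q), Φ.σσ, Φ.σσ, (W.φ_in J p q).1, hBi,
        eq_mul_inv_iff_mul_eq.2 (W.cw_σ _ (hne p)), eq_mul_inv_iff_mul_eq.2 (W.cw_σ _ (hne q))]
      simp only [Units.val_mul, c, Units.val_inv_eq_inv_val]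
      field_simp
    · have hx : W.lab x ≠ 0 := fun e => hne p (by rw [← e1, W.π_lab, e, neg_zero])
      have hy : W.lab y ≠ 0 := fun e => hne q (by rw [← e2, W.π_lab, e, neg_zero])
      exact Or.inr ⟨p, q, by rw [← e1, W.π_σ x hx, Φ.σσ], by rw [← e2, W.π_σ y hy, Φ.σσ]⟩
    · have hx : W.lab x ≠ 0 := fun e => hne' p (by rw [← e1, W.π_lab, e, neg_zero])
      have hy : W.lab y ≠ 0 := fun e => hne' q (by rw [← e2, W.π_lab, e, neg_zero])
      exact Or.inl ⟨p, q, Φ.σ_inj (by rw [← e1, W.π_σ x hx]), Φ.σ_inj (by rw [← e2, W.π_σ y hy])⟩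

end FrameLevi

end Cfsg.Agent.GaussPre
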