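import Cfsg.Agent.Lib.GaussPre.FrameOrth
import Cfsg.Agent.Lib.GaussPre.ChevSquare

/-!
# The odd-dimensional orthogonal groups as frames

* `sl2To3` : the representation of `SL(2)` on binary quadratic forms;
* `odBase`, `odLast` : the coordinates and the last node;
* `pomegaOdd_square` : `PΩ` of odd dimension squares a class.
-/

set_option autoImplicit false
set_option linter.unusedSectionVars false

namespace Cfsg.Agent.GaussPre

open Matrix Cfsg Cfsg.Agent.Orth Cfsg.Agent.Forms
open QuadraticMap (polar)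

variable {F : Type*} [Field F]

theorem embMat_in' {ι κ : Type*} [Fintype ι] [DecidableEq ι] [Fintype κ] [DecidableEq κ] {k : κ → ι}
    (hk : Function.Injective k) (M : Matrix κ κ F) (a b : κ) : embMat k M (k a) (k b) = M a b := by
  rw [embMat_apply]
  simp [hk.eq_iff, ite_and, Matrix.one_apply]

theorem embMat_out' {ι κ : Type*} [Fintype ι] [DecidableEq ι] [Fintype κ] [DecidableEq κ] {k : κ → ι}
    (M : Matrix κ κ F) {x y : ι} (h : (∀ a, x ≠ k a) ∨ ∀ b, y ≠ k b) :
    embMat k M x y = if x = y then 1 else 0 := by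
  rw [embMat_apply]
  rcases h with h | h <;> simp [h, Matrix.one_apply]

theorem embMat_cases {ι κ : Type*} (k : κ → ι) (x y : ι) :
    (∃ a b, x = k a ∧ y = k b) ∨ (∀ a, x ≠ k a) ∨ ∀ b, y ≠ k b := by
  by_contra hc
  push Not at hc
  obtain ⟨h1, ⟨a, ha⟩, b, hb⟩ := hc
  exact h1 a b ha hb

theorem embMat_scale {ι κ : Type*} [Fintype ι] [DecidableEq ι] [Fintype κ] [DecidableEq κ] {k : κ → ι}
    (hk : Function.Injective k) (d : ι → Fˣ) (M N : Matrix κ κ F)
    (h : ∀ a b, (d (k a) : F) * M a b = N a b * (d (k b) : F)) (x y : ι) :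
    (d x : F) * embMat k M x y = embMat k N x y * (d y : F) := by
  rcases embMat_cases k x y with ⟨a, b, rfl, rfl⟩ | ho
  · rw [embMat_in' hk, embMat_in' hk, h]
  · rw [embMat_out' _ ho, embMat_out' _ ho]
    by_cases e : x = y
    · subst e; simp
    · simp [e]

/-- The representation of `SL(2)` on binary quadratic forms. -/
def sl2To3 : Matrix.SpecialLinearGroup (Fin 2) F →* Matrix (Fin 3) (Fin 3) F where
  toFun A := !![A.1 0 0 * A.1 0 0, 2 * A.1 0 0 * A.1 0 1, -(A.1 0 1 * A.1 0 1);
    A.1 0 0 * A.1 1 0, A.1 0 0 * A.1 1 1 + A.1 0 1 * A.1 1 0, -(A.1 0 1 * A.1 1 1);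
    -(A.1 1 0 * A.1 1 0), -(2 * A.1 1 0 * A.1 1 1), A.1 1 1 * A.1 1 1]
  map_one' := by
    ext i j
    fin_cases i <;> fin_cases j <;> simp
  map_mul' A B := by
    ext i j
    fin_cases i <;> fin_cases j <;>
      simp [Matrix.mul_apply, Fin.sum_univ_three, Fin.sum_univ_two] <;> ring

variable (F) [Fintype F] (r : ℕ)

/-- The index type. -/
abbrev Od (r : ℕ) := Unit ⊕ (Fin (r + 1) ⊕ Fin (r + 1))

/-- The position. -/
def odPos : Od r → ℤ :=
  Sum.elim (fun _ => 0) (Sum.elim (fun i => (i.val : ℤ) - (r + 1)) fun i => (r + 1 : ℤ) - i.val)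

theorem odPos_inj : Function.Injective (odPos r) := by
  rintro (i | i | i) (j | j | j) h <;> simp only [odPos, Sum.elim_inl, Sum.elim_inr] at h <;>
    first
      | rfl
      | exact congrArg _ (congrArg _ (Fin.ext (by omega)))
      | omega

theorem odPos_swap (x : Od r) : odPos r (Sum.map id Sum.swap x) = -odPos r x := by
  rcases x with i | i | i <;> simp [odPos]

/-- The coordinates. -/
noncomputable def odBase (hr : 2 ≤ r) (h2 : (2 : F) ≠ 0) : OBase (qfOdd (r + 1) F) r where
  pos := odPos r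
  pos_inj := odPos_inj r
  σ := Sum.map id Sum.swap
  pos_σ := odPos_swap r
  e i := Sum.inr (Sum.inl i)
  pos_e i := rfl
  covers := by
    rintro (i | i | i)
    · exact Or.inr (Or.inr rfl)
    · exact Or.inl ⟨i, rfl⟩
    · exact Or.inr (Or.inl ⟨i, rfl⟩)
  c0 := Sum.elim (fun _ => 1) fun _ => 0
  c0_out z h := by
    rcases z with i | i
    · exact absurd rfl h
    · rfl
  mid_ne z h := by
    rcases z with i | i | i
    · simp [h2]
    · simp [odPos] at h; omega
    · simp [odPos] at h; omega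
  Qeq v := by
    simp [qfOdd_apply, quadFormOdd, Fintype.sum_sum_type]
    ring
  polar_eq u v := by
    have h1 : ∀ i : Fin (r + 1), odPos r (Sum.inr (Sum.inl i)) ≠ 0 ∧ odPos r (Sum.inr (Sum.inr i)) ≠ 0 := fun i => by
      simp only [odPos, Sum.elim_inl, Sum.elim_inr]; omega
    have h0 : odPos r (Sum.inl ()) = 0 := rfl
    simp only [Fintype.sum_sum_type, if_neg (h1 _).1, if_neg (h1 _).2, Finset.univ_unique, Finset.sum_singleton,
      PUnit.default_eq_unit, if_pos h0, Sum.map_inl, Sum.map_inr, Sum.swap_inl, Sum.swap_inr, id, one_mul,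
      Sum.elim_inl, mul_one, QuadraticMap.polar, qfOdd_apply, quadFormOdd, Pi.add_apply, add_mul, mul_add,
      Finset.sum_add_distrib]
    rw [show (∑ x, v (Sum.inr (Sum.inl x)) * u (Sum.inr (Sum.inr x))) =
      ∑ x, u (Sum.inr (Sum.inr x)) * v (Sum.inr (Sum.inl x)) from Finset.sum_congr rfl fun x _ => mul_comm _ _]
    ring
  good := Good.of_two_ne_zero (qfOdd_nondegenerate h2 (r + 1)) h2
  five := by simp [Fintype.card_sum]; omega

/-- The last three coordinates. -/
def odK : Fin 3 → Od r := ![Sum.inr (Sum.inl (Fin.last r)), Sum.inl (), Sum.inr (Sum.inr (Fin.last r))]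

theorem odK_pos (a : Fin 3) : odPos r (odK r a) = (a.val : ℤ) - 1 := by
  fin_cases a <;> simp [odK, odPos]

theorem odK_inj : Function.Injective (odK r) := fun a b h => by
  have := congrArg (odPos r) h
  rw [odK_pos, odK_pos] at this
  exact Fin.ext (by omega)

theorem odK_of_pos {x : Od r} (h : -1 ≤ odPos r x) (h' : odPos r x ≤ 1) : ∃ a, x = odK r a := by
  have : odPos r x = -1 ∨ odPos r x = 0 ∨ odPos r x = 1 := by omega
  rcases this with e | e | e
  · exact ⟨0, odPos_inj r (by rw [odK_pos, e]; rfl)⟩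
  · exact ⟨1, odPos_inj r (by rw [odK_pos, e]; rfl)⟩
  · exact ⟨2, odPos_inj r (by rw [odK_pos, e]; rfl)⟩

/-- The matrices of the last node. -/
def odρMat : Matrix.SpecialLinearGroup (Fin 2) F →* Matrix (Od r) (Od r) F where
  toFun A := embMat (odK r) (sl2To3 A)
  map_one' := by simp [embMat]
  map_mul' A B := by rw [map_mul, embMat_mul _ (odK_inj r)]

theorem odρMat_Q (A : Matrix.SpecialLinearGroup (Fin 2) F) (v : Od r → F) :
    qfOdd (r + 1) F (odρMat F r A *ᵥ v) = qfOdd (r + 1) F v := by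
  set w := odρMat F r A *ᵥ v with hw
  have hin : ∀ a, w (odK r a) = (sl2To3 A *ᵥ fun b => v (odK r b)) a := fun a => embMat_mulVec_in (odK_inj r) _ _ _
  have hout : ∀ p : Fin r, w (Sum.inr (Sum.inl p.castSucc)) = v (Sum.inr (Sum.inl p.castSucc)) ∧
      w (Sum.inr (Sum.inr p.castSucc)) = v (Sum.inr (Sum.inr p.castSucc)) := fun p =>
    ⟨embMat_mulVec_out _ _ fun a => by fin_cases a <;> simp [odK, Fin.castSucc_ne_last],
      embMat_mulVec_out _ _ fun a => by fin_cases a <;> simp [odK, Fin.castSucc_ne_last]⟩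
  have e0 : w (Sum.inr (Sum.inl (Fin.last r))) = _ := hin 0
  have e1 : w (Sum.inl ()) = _ := hin 1
  have e2 : w (Sum.inr (Sum.inr (Fin.last r))) = _ := hin 2
  have hd := A.2
  rw [Matrix.det_fin_two] at hd
  simp only [qfOdd_apply, quadFormOdd, Fin.sum_univ_castSucc, (hout _).1, (hout _).2, e0, e1, e2]
  simp [sl2To3, Matrix.mulVec, dotProduct, Fin.sum_univ_three, odK]
  linear_combination ((A.1 0 0 * A.1 1 1 - A.1 0 1 * A.1 1 0 + 1) *
    (v (Sum.inr (Sum.inl (Fin.last r))) * v (Sum.inr (Sum.inr (Fin.last r))) + v (Sum.inl ()) * v (Sum.inl ()))) * hd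

variable (hr : 2 ≤ r) (h2 : (2 : F) ≠ 0) (hF : 9 ≤ Fintype.card F)

theorem exists_sq_ne'' (hF : 9 ≤ Fintype.card F) : ∃ a : Fˣ, (a : F) * a ≠ 1 := by
  obtain ⟨b, -, hb1, hb2⟩ := exists_base hF
  exact ⟨b, fun h => by rcases mul_self_eq_one_iff.1 h with e | e; exacts [hb1 e, hb2 e]⟩

/-- The last node in the isometry group. -/
def odρ₀ : Matrix.SpecialLinearGroup (Fin 2) F →* IsoGrp (qfOdd (r + 1) F) := isoHom (odρMat F r) (odρMat_Q F r)

/-- The copy of `SL(2)` at the last node. -/
def odρ (hF : 9 ≤ Fintype.card F) : Matrix.SpecialLinearGroup (Fin 2) F →* ↥(Omega F ⇑(qfOdd (r + 1) F)) :=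
  (odρ₀ F r).codRestrict _ fun A => mem_commutator_of_sl (odρ₀ F r) (exists_sq_ne'' F hF) A

theorem odρ_val (A : Matrix.SpecialLinearGroup (Fin 2) F) :
    (omE _ (odρ F r hF A)).1 = embMat (odK r) (sl2To3 A) := rfl

/-- The frame. -/
noncomputable abbrev odFrame : Frame F ↥(Omega F ⇑(qfOdd (r + 1) F)) r (Od r) :=
  (odBase F r hr h2).frame (exists_sq_ne'' F hF)

/-- The labels of the last node. -/
def odBlk (x : Od r) : ℤ := if odPos r x = 1 ∨ odPos r x = -1 then 0 else odPos r x

/-- The weights of the last node. -/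
def dia1 (p : ℤ) : ℤ := (if p = -1 then 2 else 0) - if p = 1 then 2 else 0

theorem odρ_blk (A : Matrix.SpecialLinearGroup (Fin 2) F) (x y : Od r) (h : odBlk r x ≠ odBlk r y) :
    (omE _ (odρ F r hF A)).1 x y = 0 := by
  have key : ∀ a, odBlk r (odK r a) = 0 := fun a => by
    rw [odBlk, odK_pos]; fin_cases a <;> simp
  rw [odρ_val]
  rcases embMat_cases (odK r) x y with ⟨a, b, rfl, rfl⟩ | ho
  · exact absurd (by rw [key, key]) h
  · rw [embMat_out' _ ho, if_neg fun e => h (by rw [e])]

theorem odρ_tri (t : F) (x y : Od r) :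
    (odPos r y ≤ odPos r x → (omE _ (odρ F r hF (uX t))).1 x y = if x = y then 1 else 0) ∧
    (odPos r x ≤ odPos r y → (omE _ (odρ F r hF (uY t))).1 x y = if x = y then 1 else 0) := by
  constructor <;> intro h <;> rw [odρ_val] <;> rcases embMat_cases (odK r) x y with ⟨a, b, rfl, rfl⟩ | ho
  · rw [embMat_in' (odK_inj r)]
    rw [odK_pos, odK_pos] at h
    simp only [(odK_inj r).eq_iff]
    fin_cases a <;> fin_cases b <;> simp [sl2To3, uX] at h ⊢
  · exact embMat_out' _ ho
  · rw [embMat_in' (odK_inj r)]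
    rw [odK_pos, odK_pos] at h
    simp only [(odK_inj r).eq_iff]
    fin_cases a <;> fin_cases b <;> simp [sl2To3, uY] at h ⊢
  · exact embMat_out' _ ho

theorem odρ_D (w : Fˣ) :
    (omE _ (odρ F r hF (uD w))).1 = diagonal fun x => ((w ^ dia1 (odPos r x) : Fˣ) : F) := by
  rw [odρ_val]
  ext x y
  rw [diagonal_apply]
  rcases embMat_cases (odK r) x y with ⟨a, b, rfl, rfl⟩ | ho
  · rw [embMat_in' (odK_inj r), odK_pos]
    simp only [(odK_inj r).eq_iff]
    fin_cases a <;> fin_cases b <;> simp [sl2To3, uD, dia1, zpow_ofNat, pow_two]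
  · rw [embMat_out' _ ho]
    by_cases hxy : x = y
    · subst hxy
      rw [if_pos rfl, if_pos rfl]
      have hout : ∀ a, x ≠ odK r a := fun a => by rcases ho with h | h <;> exact h a
      have h1 : odPos r x ≠ -1 := fun e => hout 0 (odPos_inj r (by rw [odK_pos, e]; rfl))
      have h3 : odPos r x ≠ 1 := fun e => hout 2 (odPos_inj r (by rw [odK_pos, e]; rfl))
      simp [dia1, h1, h3]
    · rw [if_neg hxy, if_neg hxy]

theorem odρ_scale (d : Od r → Fˣ) (hd : ∀ x, d (Sum.map id Sum.swap x) = (d x)⁻¹) (t : F) (x y : Od r) :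
    (d x : F) * (omE _ (odρ F r hF (uX t))).1 x y =
      (omE _ (odρ F r hF (uX (((d (odK r 0) / d (odK r 1) : Fˣ) : F) * t)))).1 x y * (d y : F) ∧
    (d x : F) * (omE _ (odρ F r hF (uY t))).1 x y =
      (omE _ (odρ F r hF (uY ((((d (odK r 0) / d (odK r 1))⁻¹ : Fˣ) : F) * t)))).1 x y * (d y : F) := by
  have hf : d (odK r 2) = (d (odK r 0))⁻¹ := hd (Sum.inr (Sum.inl (Fin.last r)))
  have h0 : d (odK r 1) = (d (odK r 1))⁻¹ := hd (Sum.inl ())
  have hu : (d (odK r 1) : F) = 1 ∨ (d (odK r 1) : F) = -1 := mul_self_eq_one_iff.1 (by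
    nth_rewrite 2 [h0]
    rw [Units.val_inv_eq_inv_val, mul_inv_cancel₀ (Units.ne_zero _)])
  constructor <;> rw [odρ_val, odρ_val] <;> refine embMat_scale (odK_inj r) d _ _ (fun a b => ?_) x y
  all_goals
    fin_cases a <;> fin_cases b <;>
      simp [sl2To3, uX, uY, hf, Units.val_div_eq_div_val, Units.val_inv_eq_inv_val] <;>
      rcases hu with e | e <;> simp [e] <;> field_simp <;> ring

include hr h2 in
theorem odρ_eich (c : F) :
    odρ₀ F r (uX (-c)) = eich (qfOdd (r + 1) F) (OBase.dl (odK r 0)) (c • OBase.dl (odK r 1)) ∧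
    odρ₀ F r (uY c) = eich (qfOdd (r + 1) F) (OBase.dl (odK r 2)) (c • OBase.dl (odK r 1)) := by
  set B := odBase F r (by omega) h2
  have hne : ∀ a : Fin 3, a ≠ 1 → B.pos (odK r a) ≠ 0 := fun a ha => by
    show odPos r _ ≠ 0
    rw [odK_pos]; have : a.val ≠ 1 := fun e => ha (Fin.ext e); omega
  have p0 : ∀ v, polar ⇑(qfOdd (r + 1) F) (OBase.dl (odK r 0)) v = v (odK r 2) := fun v =>
    B.polar_dl_pair (hne 0 (by decide)) v
  have p2 : ∀ v, polar ⇑(qfOdd (r + 1) F) (OBase.dl (odK r 2)) v = v (odK r 0) := fun v =>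
    B.polar_dl_pair (hne 2 (by decide)) v
  have p1 : ∀ v, polar ⇑(qfOdd (r + 1) F) (OBase.dl (odK r 1)) v = 2 * v (odK r 1) := fun v => by
    rw [B.polar_dl, if_pos (show B.pos (odK r 1) = 0 from rfl)]
    show 2 * (1 : F) * v (odK r 1) = _
    rw [mul_one]
  have q1 : qfOdd (r + 1) F (OBase.dl (odK r 1)) = 1 := by
    simp [qfOdd_apply, quadFormOdd, OBase.dl, odK]
  have d12 : OBase.dl (F := F) (odK r 1) (odK r 2) = 0 ∧ OBase.dl (F := F) (odK r 1) (odK r 0) = 0 :=
    ⟨Pi.single_eq_of_ne ((odK_inj r).ne (by decide)) _, Pi.single_eq_of_ne ((odK_inj r).ne (by decide)) _⟩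
  constructor <;> refine ext_ap fun v => ?_
  · rw [eich_ap (B.Q_dl (hne 0 (by decide))) (by rw [pl_smul_right, p0, d12.1, mul_zero]), pl_smul_left, p0, p1,
      Q_smul, q1, ap_apply]
    funext x
    show (embMat (odK r) _ *ᵥ v) x = _
    by_cases hx : ∃ a, x = odK r a
    · obtain ⟨a, rfl⟩ := hx
      rw [embMat_mulVec_in (odK_inj r)]
      fin_cases a <;>
        simp [sl2To3, uX, Matrix.mulVec, dotProduct, Fin.sum_univ_three, OBase.dl, Pi.single_apply,
          (odK_inj r).eq_iff] <;> ring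
    · push Not at hx
      rw [embMat_mulVec_out _ _ hx]
      simp [OBase.dl, Pi.single_apply, hx]
  · rw [eich_ap (B.Q_dl (hne 2 (by decide))) (by rw [pl_smul_right, p2, d12.2, mul_zero]), pl_smul_left, p2, p1,
      Q_smul, q1, ap_apply]
    funext x
    show (embMat (odK r) _ *ᵥ v) x = _
    by_cases hx : ∃ a, x = odK r a
    · obtain ⟨a, rfl⟩ := hx
      rw [embMat_mulVec_in (odK_inj r)]
      fin_cases a <;>
        simp [sl2To3, uY, Matrix.mulVec, dotProduct, Fin.sum_univ_three, OBase.dl, Pi.single_apply,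
          (odK_inj r).eq_iff] <;> ring
    · push Not at hx
      rw [embMat_mulVec_out _ _ hx]
      simp [OBase.dl, Pi.single_apply, hx]

/-- The Weyl element of `SL(2)`. -/
def sl2W : Matrix.SpecialLinearGroup (Fin 2) F := ⟨!![0, 1; -1, 0], by simp [Matrix.det_fin_two]⟩

theorem odρ_W (x y : Od r) :
    (omE _ (odρ F r hF (sl2W F))).1 x y =
      if y = (if |odPos r x| ≤ 1 then Sum.map id Sum.swap x else x) then (if |odPos r x| ≤ 1 then -1 else 1) else 0 := by
  rw [odρ_val]
  by_cases hx : |odPos r x| ≤ 1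
  · obtain ⟨a, rfl⟩ := odK_of_pos r (abs_le.1 hx).1 (abs_le.1 hx).2
    rw [if_pos hx, if_pos hx]
    have hrev : Sum.map id Sum.swap (odK r a) = odK r a.rev := odPos_inj r (by
      rw [odPos_swap, odK_pos, odK_pos]; fin_cases a <;> simp)
    rw [hrev]
    by_cases hy : ∃ b, y = odK r b
    · obtain ⟨b, rfl⟩ := hy
      rw [embMat_in' (odK_inj r)]
      simp only [(odK_inj r).eq_iff]
      fin_cases a <;> fin_cases b <;> simp [sl2To3, sl2W]
    · push Not at hy
      rw [embMat_out' _ (Or.inr hy), if_neg (fun e => hy a e.symm), if_neg (hy _)]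
  · rw [if_neg hx, if_neg hx, embMat_out' _ (Or.inl fun a e => hx (by
      rw [e, odK_pos]; fin_cases a <;> simp)), if_congr ⟨Eq.symm, Eq.symm⟩ rfl rfl]

include hF in
theorem odρ_W_ap {x : Od r} :
    ap (odρ₀ F r (sl2W F)) (OBase.dl (F := F) x) = (if |odPos r x| ≤ 1 then (-1 : F) else 1) •
      OBase.dl (if |odPos r x| ≤ 1 then Sum.map id Sum.swap x else x) := by
  funext z
  rw [ap_apply, Matrix.mulVec_single_one, Matrix.col_apply]
  show (omE _ (odρ F r hF (sl2W F))).1 z x = _
  rw [odρ_W]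
  have habs : |odPos r (Sum.map id Sum.swap x)| = |odPos r x| := by rw [odPos_swap, abs_neg]
  have hss : ∀ u : Od r, Sum.map id Sum.swap (Sum.map id Sum.swap u) = u := by rintro (i | i | i) <;> rfl
  by_cases hz : z = if |odPos r x| ≤ 1 then Sum.map id Sum.swap x else x
  · subst hz
    by_cases h : |odPos r x| ≤ 1
    · have h' : |odPos r (Sum.map id Sum.swap x)| ≤ 1 := habs.trans_le h
      simp only [if_pos h, if_pos h', hss, if_true, Pi.smul_apply, OBase.dl, Pi.single_eq_same, smul_eq_mul, mul_one]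
    · simp only [if_neg h, if_true, Pi.smul_apply, OBase.dl, Pi.single_eq_same, smul_eq_mul, mul_one]
  · have hne : ¬ x = if |odPos r z| ≤ 1 then Sum.map id Sum.swap z else z := by
      intro e
      refine hz ?_
      by_cases h : |odPos r z| ≤ 1
      · rw [if_pos h] at e
        rw [e, odPos_swap, abs_neg, if_pos h, hss]
      · rw [if_neg h] at e
        rw [e, if_neg h]
    rw [if_neg hne]
    simp [OBase.dl, Pi.single_eq_of_ne hz]

include hr h2 hF in
theorem odKerV {g : ↥(Omega F ⇑(qfOdd (r + 1) F))} (hg : g ∈ low (omE _) (odPos r))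
    (h : (omE _ g).1 (odK r 1) (odK r 0) = 0) : g ∈ low (omE _) (odBlk r) := by
  set Φ := odFrame F r hr h2 hF
  refine Φ.low_refine (fun x y hxy => ?_) hg fun x y hlt hc => ?_
  · show odBlk r x ≤ odBlk r y
    change odPos r x ≤ odPos r y at hxy
    simp only [odBlk]; split_ifs <;> omega
  change odPos r y < odPos r x at hlt
  have hcase : -1 ≤ odPos r y ∧ odPos r x ≤ 1 := by
    simp only [odBlk] at hc
    split_ifs at hc <;> omega
  obtain ⟨a, rfl⟩ := odK_of_pos r (x := x) (by omega) hcase.2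
  obtain ⟨b, rfl⟩ := odK_of_pos r (x := y) hcase.1 (by omega)
  rw [odK_pos, odK_pos] at hlt
  show (omE _ g).1 _ _ = 0
  have h21 : (omE _ g).1 (odK r 2) (odK r 1) = 0 := by
    have := Φ.adj Φ.pos_σ hg (x := odK r 1) (y := odK r 2) (show odPos r (odK r 1) < odPos r (odK r 2) by
      rw [odK_pos, odK_pos]; decide) fun z hz1 hz2 l1 l2 => by
      change odPos r (odK r 1) ≤ odPos r z at l1
      change odPos r z ≤ odPos r (odK r 2) at l2
      obtain ⟨c, rfl⟩ := odK_of_pos r (x := z) (by rw [odK_pos] at l1; simp at l1; omega)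
        (by rw [odK_pos r 2] at l2; simpa using l2)
      rw [odK_pos, odK_pos] at l1 l2
      fin_cases c <;> simp_all
    change Φ.sg _ * (omE _ g).1 (odK r 1) (odK r 0) + Φ.sg _ * (omE _ g).1 (odK r 2) (odK r 1) = 0 at this
    rw [h, mul_zero, zero_add] at this
    exact (mul_eq_zero.1 this).resolve_left (Φ.sg_ne _)
  have h20 : (omE _ g).1 (odK r 2) (odK r 0) = 0 := by
    have := (odBase F r hr h2).col_sing g (x := odK r 0) (show odPos r (odK r 0) ≠ 0 by rw [odK_pos]; decide)
    rw [Finset.sum_eq_single (Fin.last r) (fun p _ hp => ?_) (by simp),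
      Finset.sum_eq_single (Sum.inl () : Od r) (fun z _ hz => ?_) (by simp)] at this
    · change (omE _ g).1 (odK r 0) (odK r 0) * (omE _ g).1 (odK r 2) (odK r 0) +
        1 * ((omE _ g).1 (odK r 1) (odK r 0) * (omE _ g).1 (odK r 1) (odK r 0)) = 0 at this
      rwa [low_diag _ hg, h, one_mul, mul_zero, mul_zero, add_zero] at this
    · show Sum.elim (fun _ => (1 : F)) (fun _ => 0) z * _ = 0
      rcases z with u | u
      · exact absurd rfl hz
      · simp
    · show (omE _ g).1 (Sum.inr (Sum.inl p)) (odK r 0) * _ = 0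
      rw [low_zero _ hg (show odPos r (Sum.inr (Sum.inl p)) ≤ odPos r (odK r 0) by
        have : p.val ≠ r := fun e => hp (Fin.ext e)
        rw [odK_pos]; simp only [odPos, Sum.elim_inl, Sum.elim_inr]; simp; omega)
        (show (Sum.inr (Sum.inl p) : Od r) ≠ odK r 0 by simp [odK, hp]), zero_mul]
  fin_cases a <;> fin_cases b <;> simp at hlt
  · exact h
  · exact h20
  · exact h21

include hr h2 hF in
theorem odKerU {g : ↥(Omega F ⇑(qfOdd (r + 1) F))} (hg : g ∈ low (omE _) (fun x => -odPos r x))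
    (h : (omE _ g).1 (odK r 0) (odK r 1) = 0) : g ∈ low (omE _) (fun x => -odBlk r x) := by
  set Φ := odFrame F r hr h2 hF
  refine Φ.low_refine (fun x y hxy => ?_) hg fun x y hlt hc => ?_
  · show -odBlk r x ≤ -odBlk r y
    change -odPos r x ≤ -odPos r y at hxy
    simp only [odBlk]; split_ifs <;> omega
  change -odPos r y < -odPos r x at hlt
  have hcase : -1 ≤ odPos r x ∧ odPos r y ≤ 1 := by
    simp only [odBlk] at hc
    split_ifs at hc <;> omega
  obtain ⟨a, rfl⟩ := odK_of_pos r (x := x) hcase.1 (by omega)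
  obtain ⟨b, rfl⟩ := odK_of_pos r (x := y) (by omega) hcase.2
  rw [odK_pos, odK_pos] at hlt
  show (omE _ g).1 _ _ = 0
  have h12 : (omE _ g).1 (odK r 1) (odK r 2) = 0 := by
    have := Φ.adj (l := fun x => -odPos r x) (fun x => by
      show -odPos r (Sum.map id Sum.swap x) = - -odPos r x
      rw [odPos_swap]) hg (x := odK r 2) (y := odK r 1) (show -odPos r (odK r 2) < -odPos r (odK r 1) by
      rw [odK_pos, odK_pos]; decide) fun z hz1 hz2 l1 l2 => by
      change -odPos r (odK r 2) ≤ -odPos r z at l1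
      change -odPos r z ≤ -odPos r (odK r 1) at l2
      obtain ⟨c, rfl⟩ := odK_of_pos r (x := z) (by rw [odK_pos] at l2; simp at l2; omega)
        (by rw [odK_pos r 2] at l1; simp at l1; omega)
      rw [odK_pos, odK_pos] at l1 l2
      fin_cases c <;> simp_all
    change Φ.sg _ * (omE _ g).1 (odK r 0) (odK r 1) + Φ.sg _ * (omE _ g).1 (odK r 1) (odK r 2) = 0 at this
    rw [h, mul_zero, zero_add] at this
    exact (mul_eq_zero.1 this).resolve_left (Φ.sg_ne _)
  have h02 : (omE _ g).1 (odK r 0) (odK r 2) = 0 := by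
    have := (odBase F r hr h2).col_sing g (x := odK r 2) (show odPos r (odK r 2) ≠ 0 by rw [odK_pos]; decide)
    rw [Finset.sum_eq_single (Fin.last r) (fun p _ hp => ?_) (by simp),
      Finset.sum_eq_single (Sum.inl () : Od r) (fun z _ hz => ?_) (by simp)] at this
    · change (omE _ g).1 (odK r 0) (odK r 2) * (omE _ g).1 (odK r 2) (odK r 2) +
        1 * ((omE _ g).1 (odK r 1) (odK r 2) * (omE _ g).1 (odK r 1) (odK r 2)) = 0 at this
      rwa [low_diag _ hg, h12, mul_one, mul_zero, mul_zero, add_zero] at this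
    · show Sum.elim (fun _ => (1 : F)) (fun _ => 0) z * _ = 0
      rcases z with u | u
      · exact absurd rfl hz
      · simp
    · show _ * (omE _ g).1 (Sum.inr (Sum.inr p)) (odK r 2) = 0
      rw [low_zero _ hg (show -odPos r (Sum.inr (Sum.inr p)) ≤ -odPos r (odK r 2) by
        have : p.val ≠ r := fun e => hp (Fin.ext e)
        rw [odK_pos]; simp only [odPos, Sum.elim_inl, Sum.elim_inr]; simp; omega)
        (show (Sum.inr (Sum.inr p) : Od r) ≠ odK r 2 by simp [odK, hp]), mul_zero]
  fin_cases a <;> fin_cases b <;> simp at hlt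
  · exact h
  · exact h02
  · exact h12

include hr h2 hF in
theorem odLoc₁ (j : Fin r) (hj : j.val ≠ r - 1) (s : F) (v : ↥(Omega F ⇑(qfOdd (r + 1) F))) :
    (omE _ (odρ F r hF (uX s) * v * odρ F r hF (uX (-s)))).1 (Sum.inr (Sum.inl j.succ))
        (Sum.inr (Sum.inl j.castSucc)) =
      (omE _ v).1 (Sum.inr (Sum.inl j.succ)) (Sum.inr (Sum.inl j.castSucc)) := by
  refine (odFrame F r hr h2 hF).loc_of (fun z => ?_) (fun z => ?_)
  · show embMat (odK r) (sl2To3 _) _ z = _
    exact embMat_out' _ (Or.inl fun a => by fin_cases a <;> simp [odK, Fin.ext_iff] <;> omega)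
  · show embMat (odK r) (sl2To3 _) z _ = _
    exact embMat_out' _ (Or.inr fun a => by fin_cases a <;> simp [odK, Fin.ext_iff] <;> omega)

include hr h2 hF in
theorem odLoc₂ (i : Fin r) (hi : i.val ≠ r - 1) (s : F) (v : ↥(Omega F ⇑(qfOdd (r + 1) F))) :
    ((odFrame F r hr h2 hF).E ((odFrame F r hr h2 hF).ψ (emb (kk i) (kk_inj i) (uX s)) * v *
      (odFrame F r hr h2 hF).ψ (emb (kk i) (kk_inj i) (uX (-s))))).1 (Sum.inl ())
        (Sum.inr (Sum.inl (Fin.last r))) = (omE _ v).1 (Sum.inl ()) (Sum.inr (Sum.inl (Fin.last r))) := by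
  have hi' := i.isLt
  refine (odFrame F r hr h2 hF).loc_of
    (fun z => (odFrame F r hr h2 hF).ψ_δ _ _ _ (fun p q e _ => ?_) fun p q e _ => ?_)
    (fun z => (odFrame F r hr h2 hF).ψ_δ _ _ _ (fun p q _ e => ?_) fun p q _ e => ?_)
  · simp [OBase.frame, odBase] at e
  · simp [OBase.frame, odBase] at e
  · refine emb_out _ _ _ (Or.inr fun b => ?_)
    simp only [OBase.frame, odBase, Sum.inr.injEq, Sum.inl.injEq] at e
    rw [← e]
    fin_cases b <;> simp [kk, Fin.ext_iff] <;> omega
  · simp [OBase.frame, odBase] at e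

include hr h2 hF in
theorem odGen (H : Subgroup ↥(Omega F ⇑(qfOdd (r + 1) F))) (h1 : ∀ A, (odFrame F r hr h2 hF).ψ A ∈ H)
    (h₂ : ∀ A, odρ F r hF A ∈ H) : H = ⊤ := by
  set B := odBase F r hr h2
  have he : B.e = fun i => Sum.inr (Sum.inl i) := rfl
  have hσ : B.σ = Sum.map id Sum.swap := rfl
  have hne : (⟨r - 1, by omega⟩ : Fin (r + 1)) ≠ Fin.last r := by simp [Fin.ext_iff]; omega
  set w := odρ₀ F r (sl2W F)
  have hws : ∀ (p : Fin (r + 1)), p ≠ Fin.last r →
      ap w (OBase.dl (B.e p)) = (1 : F) • OBase.dl (B.e p) ∧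
      ap w (OBase.dl (B.σ (B.e p))) = (1 : F) • OBase.dl (B.σ (B.e p)) := by
    intro p hp
    have : p.val ≠ r := fun e => hp (Fin.ext e)
    have := p.isLt
    have e1 : ¬ |odPos r (B.e p)| ≤ 1 := by
      rw [abs_le, show odPos r (B.e p) = (p.val : ℤ) - (r + 1) from rfl]; omega
    have e2 : ¬ |odPos r (B.σ (B.e p))| ≤ 1 := by
      rw [abs_le, show odPos r (B.σ (B.e p)) = (r + 1 : ℤ) - p.val from rfl]; omega
    exact ⟨by rw [odρ_W_ap F r hF, if_neg e1, if_neg e1], by rw [odρ_W_ap F r hF, if_neg e2, if_neg e2]⟩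
  have hwl : ap w (OBase.dl (B.e (Fin.last r))) = (-1 : F) • OBase.dl (B.σ (B.e (Fin.last r))) ∧
      ap w (OBase.dl (B.σ (B.e (Fin.last r)))) = (-1 : F) • OBase.dl (B.e (Fin.last r)) := by
    have e1 : |odPos r (B.e (Fin.last r))| ≤ 1 := by
      rw [abs_le, show odPos r (B.e (Fin.last r)) = ((Fin.last r).val : ℤ) - (r + 1) from rfl, Fin.val_last]; omega
    have e2 : |odPos r (B.σ (B.e (Fin.last r)))| ≤ 1 := by
      rw [abs_le, show odPos r (B.σ (B.e (Fin.last r))) = (r + 1 : ℤ) - (Fin.last r).val from rfl, Fin.val_last]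
      omega
    exact ⟨by rw [odρ_W_ap F r hF, if_pos e1, if_pos e1]; rfl, by rw [odρ_W_ap F r hF, if_pos e2, if_pos e2]; rfl⟩
  refine B.gen (exists_sq_ne'' F hF) hr H h1
    (fun c => ⟨_, mul_mem (mul_mem (h₂ (sl2W F)) (h1 (SLRGD.x F r hne c))) (inv_mem (h₂ (sl2W F))), ?_⟩)
    (fun c => ⟨_, mul_mem (mul_mem (h₂ (sl2W F)) (h1 (SLRGD.x F r hne.symm (-c)))) (inv_mem (h₂ (sl2W F))), ?_⟩)
    (fun z hz c => ⟨odρ F r hF (uX (-c)), h₂ _, ?_⟩) (fun z hz c => ⟨odρ F r hF (uY c), h₂ _, ?_⟩)
  · show w * B.ψ₀ _ * w⁻¹ = _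
    have := (B.ψ₀_x hne (-c)).1
    rw [neg_neg] at this
    rw [← this, conj_eich, map_smul, (hws _ hne).1, hwl.2, one_smul, smul_smul]
    simp
  · show w * B.ψ₀ _ * w⁻¹ = _
    rw [← (B.ψ₀_x hne.symm (-c)).2, conj_eich, map_smul, (hws _ hne).2, hwl.1, one_smul, smul_smul]
    simp
  · obtain rfl : z = odK r 1 := odPos_inj r (hz.trans (odK_pos r 1).symm)
    exact (odρ_eich F r hr h2 c).1
  · obtain rfl : z = odK r 1 := odPos_inj r (hz.trans (odK_pos r 1).symm)
    exact (odρ_eich F r hr h2 c).2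

/-- The last node. -/
noncomputable def odLast : LastNode (odFrame F r hr h2 hF) where
  ρl := odρ F r hF
  bl := Sum.inl ()
  pl := ⟨r - 1, by omega⟩
  sul := (2 : F)⁻¹
  svl := 1
  blkl := odBlk r
  dial x := dia1 (odPos r x)
  bl_e i := by simp [OBase.frame, odBase]
  bl_pos := by
    show odPos r (Sum.inr (Sum.inl (Fin.last r))) < odPos r (Sum.inl ())
    simp [odPos]
  dial_σ x := by
    show dia1 (odPos r (Sum.map id Sum.swap x)) = -dia1 (odPos r x)
    rw [odPos_swap]
    simp only [dia1]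
    split_ifs <;> omega
  ρl_D w := odρ_D F r hF w
  scaleX d hd t x y := (odρ_scale F r hF d hd t x y).1
  scaleY d hd t x y := (odρ_scale F r hF d hd t x y).2
  ρl_blk A x y h := odρ_blk F r hF A x y h
  ρl_up t x y h := (odρ_tri F r hF t x y).1 (neg_le_neg_iff.1 h)
  ρl_low t x y h := (odρ_tri F r hF t x y).2 h
  ρl_aab t := by
    show (2 : F)⁻¹ * embMat (odK r) (sl2To3 (uX t)) (odK r 0) (odK r 1) = t
    rw [embMat_in' (odK_inj r)]
    simp [sl2To3, uX, h2]
  ρl_bba t := by
    show (1 : F) * embMat (odK r) (sl2To3 (uY t)) (odK r 1) (odK r 0) = t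
    rw [embMat_in' (odK_inj r)]
    simp [sl2To3, uY]
  blkl_e i := by
    have := i.isLt
    show odBlk r (Sum.inr (Sum.inl i.castSucc)) ≠ odBlk r (Sum.inr (Sum.inl i.succ))
    simp only [odBlk, odPos, Sum.elim_inl, Sum.elim_inr, Fin.val_castSucc, Fin.val_succ]
    push_cast
    split_ifs <;> omega
  gapV g _ h _ l h1 h2 := by
    change odPos r (Sum.inr (Sum.inl (Fin.last r))) < odPos r l at h1
    change odPos r l < odPos r (Sum.inl ()) at h2
    simp [odPos] at h1 h2
    omega
  gapU g _ h _ l h1 h2 := by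
    change odPos r (Sum.inr (Sum.inl (Fin.last r))) < odPos r l at h1
    change odPos r l < odPos r (Sum.inl ()) at h2
    simp [odPos] at h1 h2
    omega
  kerV v hv h := odKerV F r hr h2 hF hv h
  kerU v hv h := odKerU F r hr h2 hF hv h
  blkV v hv := ⟨fun x y hxy => hv x y (by
      change odPos r x ≤ odPos r y at hxy
      simp only [odBlk]; split_ifs <;> omega),
    low_zero (omE _) hv (show odBlk r (Sum.inl ()) ≤ odBlk r (Sum.inr (Sum.inl (Fin.last r))) by
      simp [odBlk, odPos]) (show (Sum.inl () : Od r) ≠ Sum.inr (Sum.inl (Fin.last r)) by simp)⟩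
  blkU v hv := ⟨fun x y hxy => hv x y (by
      change -odPos r x ≤ -odPos r y at hxy
      simp only [odBlk]; split_ifs <;> omega),
    low_zero (omE _) hv (show -odBlk r (Sum.inr (Sum.inl (Fin.last r))) ≤ -odBlk r (Sum.inl ()) by
      simp [odBlk, odPos]) (show (Sum.inr (Sum.inl (Fin.last r)) : Od r) ≠ Sum.inl () by simp)⟩
  klr i := by
    have hi := i.isLt
    simp only [OBase.frame, odBase, odPos, dia1, Sum.elim_inl, Sum.elim_inr, rootDia, av, ne_eq, Fin.ext_iff,
      Fin.val_castSucc, Fin.val_succ]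
    push_cast
    constructor <;> intro hpl <;>
    · refine ⟨?_, ?_⟩ <;> (try constructor) <;> split_ifs <;> omega
  loc₁ j hj s v _ _ := odLoc₁ F r hr h2 hF j (fun e => hj (Fin.ext e)) s v
  loc₂ i hi s v _ _ := odLoc₂ F r hr h2 hF i (fun e => hi (Fin.ext e)) s v
  gen := odGen F r hr h2 hF
  core N hN h := by
    obtain ⟨b, -, hb1, hb2⟩ := exists_base hF
    rcases h with h | h <;>
      exact (odBase F r hr h2).core N hN h hb1 hb2 (by omega) (exists_sq_ne'' F hF)

include hr h2 hF in
/-- An element of `Ω` exchanging all the pairs. -/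
theorem odFlip : ∃ (w : ↥(Omega F ⇑(qfOdd (r + 1) F))) (c : Od r → Fˣ),
    (∀ x y, (omE _ w).1 x y = if y = Sum.map id Sum.swap x then (c x : F) else 0) ∧
    ∀ x, c (Sum.map id Sum.swap x) * c x = 1 := by
  have hfix : ∀ x, odPos r x = 0 → Sum.map id Sum.swap x = x := fun x h =>
    odPos_inj r (by rw [odPos_swap, h, neg_zero])
  obtain ⟨g, hg⟩ := (odBase F r hr h2).exists_flip ((r + 1) / 2) (by omega)
  change ∀ x y, (omE _ g).1 x y =
    if y = (if (r + 1 : ℤ) - 2 * ((r + 1) / 2 : ℕ) < |odPos r x| then Sum.map id Sum.swap x else x) then 1 else 0 at hg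
  rcases Nat.even_or_odd r with ⟨k, hk⟩ | ⟨k, hk⟩
  · refine ⟨g * odρ F r hF (sl2W F), fun x => if |odPos r x| ≤ 1 then -1 else 1, fun x y => ?_, fun x => ?_⟩
    · rw [map_mul, Units.val_mul, Matrix.mul_apply]
      simp only [hg, ite_mul, one_mul, zero_mul, Finset.sum_ite_eq', Finset.mem_univ, if_true]
      rw [odρ_W]
      by_cases h1 : |odPos r x| ≤ 1
      · have hπ : ¬ ((r : ℤ) + 1 - 2 * (((r + 1) / 2 : ℕ) : ℤ) < |odPos r x|) := by omega
        simp only [if_neg hπ, if_pos h1, Units.val_neg, Units.val_one]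
      · have h1' : ¬ |odPos r (Sum.map id Sum.swap x)| ≤ 1 := by rw [odPos_swap, abs_neg]; exact h1
        have hπ : (r : ℤ) + 1 - 2 * (((r + 1) / 2 : ℕ) : ℤ) < |odPos r x| := by omega
        simp only [if_pos hπ, if_neg h1, if_neg h1', Units.val_one]
    · simp only [odPos_swap, abs_neg]; split_ifs <;> simp
  · refine ⟨g, fun _ => 1, fun x y => ?_, fun x => one_mul 1⟩
    rw [hg, Units.val_one]
    refine if_congr ?_ rfl rfl
    by_cases h0 : odPos r x = 0
    · rw [if_neg (by rw [h0, abs_zero]; omega), hfix x h0]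
    · rw [if_pos (by have := abs_pos.2 h0; omega)]

variable {r}

/-- The label of the Levi subgroup. -/
def odLab (β : ℤ) (x : Od r) : ℤ :=
  if odPos r x = -((r : ℤ) + 1) then -β else if odPos r x < 0 then -1 else
    if odPos r x = (r : ℤ) + 1 then β else if 0 < odPos r x then 1 else 0

/-- The odd-dimensional orthogonal groups square a class. -/
theorem pomegaOdd_square (m : ℕ) (hodd : Odd (Fintype.card F)) (hF : 9 ≤ Fintype.card F) :
    ClassSquare (POmega F (quadFormOdd (m + 3) F)) := by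
  have h2 : (2 : F) ≠ 0 := by
    intro h
    have h2' : ringChar F = 2 := by
      haveI := CharP.ringChar_ne_one (R := F)
      have hd : ringChar F ∣ 2 := ringChar.dvd (by exact_mod_cast h)
      rcases (Nat.dvd_prime Nat.prime_two).1 hd with h' | h'
      · exact absurd h' this
      · exact h'
    have := FiniteField.even_card_iff_char_two.1 h2'
    exact Nat.not_even_iff_odd.2 hodd (Nat.even_iff.2 this)
  rw [← qfOdd_eq]
  obtain ⟨b, hb, -, -⟩ := exists_base hF
  have hr : 2 ≤ m + 2 := by omega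
  set L := odLast F (m + 2) hr h2 hF with hL
  obtain ⟨β, hβ, h, hh⟩ : ∃ β : ℤ, (β = 2 ∨ β = 3) ∧ ∃ h : ℤ, 2 * h = β + (m + 2) := by
    rcases Nat.even_or_odd m with ⟨k, hk⟩ | ⟨k, hk⟩
    · exact ⟨2, Or.inl rfl, k + 2, by omega⟩
    · exact ⟨3, Or.inr rfl, k + 3, by omega⟩
  have hp : ∀ x : Od (m + 2), -4 < odLab β x ∧ odLab β x < 4 := fun x => by
    simp only [odLab]; split_ifs <;> omega
  obtain ⟨w, cw, hw, hc⟩ := odFlip F (m + 2) hr h2 hF
  let c : ℕ → ℤ := fun i => if i < m + 2 then -β - (i : ℤ) else -h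
  let W : FrameLevi L m :=
    { off := 1
      off_le := by omega
      L₀ := -1
      L₀_ne := by norm_num
      lab := odLab β
      lab_σ := fun x => by
        show odLab β (Sum.map id Sum.swap x) = -odLab β x
        simp only [odLab, odPos_swap]
        split_ifs <;> omega
      lab_mono := fun x y hxy => by
        change odPos (m + 2) x ≤ odPos (m + 2) y at hxy
        have hb' : ∀ z : Od (m + 2), -((m : ℤ) + 3) ≤ odPos (m + 2) z ∧ odPos (m + 2) z ≤ (m : ℤ) + 3 := by
          rintro (i | i | i) <;> simp only [odPos, Sum.elim_inl, Sum.elim_inr] <;> push_cast <;> omega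
        have := hb' x; have := hb' y
        simp only [odLab]; push_cast
        split_ifs <;> omega
      lab_win := fun x => by
        show odLab β x = -1 ↔ ∃ i, x = Sum.inr (Sum.inl i) ∧ _
        rcases x with i | i | i
        · simp only [odLab, odPos, Sum.elim_inl, reduceCtorEq, false_and, exists_false, iff_false]
          split_ifs <;> omega
        · have := i.isLt
          simp only [odLab, odPos, Sum.elim_inl, Sum.elim_inr, Sum.inr.injEq, Sum.inl.injEq, exists_eq_left']
          push_cast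
          split_ifs <;> omega
        · simp only [odLab, odPos, Sum.elim_inr, Sum.inr.injEq, reduceCtorEq, false_and, exists_false, iff_false]
          split_ifs <;> omega
      mid := fun l _ g _ x y hxy hlab h1 h3 => by
        exfalso
        refine hxy (odPos_inj _ ?_)
        simp only [odLab] at hlab h1 h3
        split_ifs at h1 <;> split_ifs at hlab <;> omega
      base := b
      base_inj := fun x y h => hb _ _ h (hp x).1 (hp x).2 (hp y).1 (hp y).2
      f := fun i => b ^ c i.val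
      dval_f := fun x => by
        have key : ∀ p : Fin (m + 2 + 1),
            L.dval (fun i => b ^ c i.val) (Sum.inr (Sum.inl p)) = b ^ odLab β (Sum.inr (Sum.inl p)) := by
          intro p
          have hp := p.isLt
          rw [L.dval_base b c]
          congr 1
          show (∑ i : Fin (m + 2), _ * rootDia (av (m + 2) i) ((p.val : ℤ) - ((m + 2 : ℕ) + 1))) + _ = _
          rw [sum_rootDia c]
          simp only [c, hL, odLast, odLab, odPos, dia1, Sum.elim_inl, Sum.elim_inr]
          push_cast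
          split_ifs <;> omega
        rcases x with i | i | i
        · rw [L.dval_base b c]
          congr 1
          show (∑ j : Fin (m + 2), _ * rootDia (av (m + 2) j) 0) + _ = _
          rw [Finset.sum_eq_zero fun j _ => ?_]
          · simp only [hL, odLast, odLab, odPos, dia1, Sum.elim_inl]
            push_cast
            split_ifs <;> omega
          · have := j.isLt
            have : rootDia (av (m + 2) j) 0 = 0 := by
              simp only [rootDia, av]; push_cast; split_ifs <;> omega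
            rw [this, mul_zero]
        · exact key i
        · show L.dval _ ((odFrame F (m + 2) hr h2 hF).σ (Sum.inr (Sum.inl i))) = _
          rw [L.dval_σ, key, ← _root_.zpow_neg]
          congr 1
          show _ = odLab β (Sum.map id Sum.swap (Sum.inr (Sum.inl i)))
          simp only [odLab, odPos_swap]
          split_ifs <;> omega
      jdet := (⟨0, by omega⟩ : Fin (m + 2)).castSucc
      jdet_sum := Or.inr (by
        rw [Finset.sum_eq_single (0 : Fin (m + 2)) (fun p _ hp => ?_) (by simp)]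
        · simp only [LastNode.dia, Fin.lastCases_castSucc, OBase.frame, odBase, odPos, Sum.elim_inl, Sum.elim_inr]
          simp only [rootDia, av, Fin.val_zero]
          push_cast
          split_ifs <;> omega
        · have : p.val ≠ 0 := fun e => hp (Fin.ext e)
          simp only [LastNode.dia, Fin.lastCases_castSucc, OBase.frame, odBase, odPos, Sum.elim_inl, Sum.elim_inr]
          simp only [rootDia, av]
          push_cast
          split_ifs <;> omega)
      w := w
      π := Sum.map id Sum.swap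
      π_π := by rintro (i | i | i) <;> rfl
      cw := cw
      w_E := hw
      π_lab := fun x => by
        simp only [odLab, odPos_swap]
        split_ifs <;> omega
      π_σ := fun _ _ => rfl
      eps := 1
      cw_σ := fun x _ => hc x }
  exact W.toLevi.square (QuotientGroup.mk' _) (QuotientGroup.mk'_surjective _)
    (fun z hz => (QuotientGroup.eq_one_iff z).2 hz) hF

end Cfsg.Agent.GaussPre
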