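import Cfsg.Agent.Lib.GaussPre.FrameTools
import Cfsg.Agent.Lib.Forms.Standard
import Cfsg.Agent.Lib.Orth.Simple

/-!
# Orthogonal groups with maximal Witt index as frames

* `isoHom`, `mem_omega_of_sl` : isometries from matrices; images of special linear groups lie in `Ω`;
* `OBase` : hyperbolic coordinates of a form; `OBase.frame` : the frame;
* `OBase.exists_flip` : exchanges of an even number of pairs in `Ω`;
* `OBase.gen`, `OBase.core` : generation and the absence of unitriangular normal subgroups.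
-/

set_option autoImplicit false
set_option linter.unusedSectionVars false

namespace Cfsg.Agent.GaussPre

open Matrix Cfsg Cfsg.Agent.Orth Cfsg.Agent.SLRGD
open QuadraticMap (polar)

variable {ι : Type} [Fintype ι] [DecidableEq ι] {F : Type*} [Field F]

/-- Isometries from a monoid homomorphism to matrices. -/
def isoHom {Q : QuadraticForm F (ι → F)} {K : Type*} [Group K] (f : K →* Matrix ι ι F)
    (hQ : ∀ a v, Q (f a *ᵥ v) = Q v) : K →* IsoGrp Q :=
  f.toHomUnits.codRestrict _ fun a u _ => hQ a u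

theorem isoHom_mat {Q : QuadraticForm F (ι → F)} {K : Type*} [Group K] (f : K →* Matrix ι ι F)
    (hQ : ∀ a v, Q (f a *ᵥ v) = Q v) (a : K) : ((isoHom f hQ a : GL ι F) : Matrix ι ι F) = f a := rfl

/-- The matrices of the elements of `Ω`. -/
def omE (Q : QuadraticForm F (ι → F)) : ↥(Omega F ⇑Q) →* GL ι F :=
  (isometryGroup F ⇑Q).subtype.comp (Omega F ⇑Q).subtype

theorem omE_val (Q : QuadraticForm F (ι → F)) (g : ↥(Omega F ⇑Q)) :
    omE Q g = ((g : IsoGrp Q) : GL ι F) := rfl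

theorem omE_inj (Q : QuadraticForm F (ι → F)) : Function.Injective (omE Q) := fun _ _ h =>
  Subtype.ext (Subtype.ext h)

theorem embMat_mulVec_in {κ : Type*} [Fintype κ] [DecidableEq κ] {k : κ → ι} (hk : Function.Injective k)
    (M : Matrix κ κ F) (v : ι → F) (a : κ) : (embMat k M *ᵥ v) (k a) = (M *ᵥ fun b => v (k b)) a := by
  show ∑ x, embMat k M (k a) x * v x = ∑ b, M a b * v (k b)
  rw [← Finset.sum_subset (s₁ := Finset.univ.image k) (Finset.subset_univ _) (fun x _ hx => ?_),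
    Finset.sum_image fun b _ c _ e => hk e]
  · refine Finset.sum_congr rfl fun b _ => ?_
    rw [embMat_apply]
    simp [hk.eq_iff, ite_and, Matrix.one_apply]
  · have h : ∀ b, x ≠ k b := fun b e => hx (Finset.mem_image.2 ⟨b, Finset.mem_univ _, e.symm⟩)
    rw [embMat_apply]
    simp [h, (h a).symm]

theorem embMat_mulVec_out {κ : Type*} [Fintype κ] [DecidableEq κ] {k : κ → ι}
    (M : Matrix κ κ F) (v : ι → F) {x : ι} (hx : ∀ a, x ≠ k a) : (embMat k M *ᵥ v) x = v x := by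
  show ∑ y, embMat k M x y * v y = v x
  simp [embMat_apply, hx, Matrix.one_apply]

/-- Images of special linear groups are commutators. -/
theorem mem_commutator_of_sl {n : ℕ} {K : Type*} [Group K] (φ : Matrix.SpecialLinearGroup (Fin n) F →* K)
    (ha : ∃ a : Fˣ, (a : F) * a ≠ 1) (A : Matrix.SpecialLinearGroup (Fin n) F) : φ A ∈ commutator K := by
  obtain ⟨a, ha⟩ := ha
  have h0 : ((a : F) * a - 1) ≠ 0 := sub_ne_zero.2 ha
  rcases subsingleton_or_nontrivial (Fin n) with hn | hn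
  · have h1 : A = 1 := by
      apply Subtype.ext
      ext i j
      have h := A.2
      rw [Matrix.det_eq_elem_of_subsingleton _ i] at h
      rw [Subsingleton.elim j i, h]
      simp
    rw [h1, map_one]
    exact one_mem _
  refine SLGen.mem_of_all_transvections ((commutator K).comap φ) (fun i j hij c => ?_) A
  have hk : Function.Injective (![i, j] : Fin 2 → Fin n) := by
    intro x y h
    fin_cases x <;> fin_cases y <;> simp_all [eq_comm]
  let e := emb (F := F) (![i, j] : Fin 2 → Fin n) hk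
  have h1 : uD a * uX (c / ((a : F) * a - 1)) * (uD a)⁻¹ * (uX (c / ((a : F) * a - 1)))⁻¹ = uX c := by
    rw [mul_inv_eq_iff_eq_mul, mul_inv_eq_iff_eq_mul, ← uX_add]
    apply Subtype.ext
    show (uD a).1 * (uX (c / ((a : F) * a - 1))).1 = (uX (c + c / ((a : F) * a - 1))).1 * (uD a).1
    ext p q
    generalize ht : c / ((a : F) * a - 1) = t
    have hc : c = t * ((a : F) * a - 1) := by rw [← ht, div_mul_cancel₀ _ h0]
    fin_cases p <;> fin_cases q <;> simp [uD, uX, Matrix.mul_apply, Fin.sum_univ_two]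
    rw [hc]
    field_simp
    ring
  have h2 : φ (e (uX c)) ∈ commutator K := by
    rw [← h1]
    simp only [map_mul, map_inv]
    exact Subgroup.commutator_mem_commutator (Subgroup.mem_top _) (Subgroup.mem_top _)
  rw [Subgroup.mem_comap]
  convert h2 using 2
  refine Subtype.ext (Matrix.ext fun p q => ?_)
  show _ = embMat _ (uX c).1 p q
  rw [embMat_apply]
  simp [uX, Fin.sum_univ_two, Matrix.SpecialLinearGroup.transvection, Matrix.transvection, Matrix.single_apply,
    eq_comm, and_comm]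

variable (Q : QuadraticForm F (ι → F)) (r : ℕ)

/-- Hyperbolic coordinates. -/
structure OBase where
  pos : ι → ℤ
  pos_inj : Function.Injective pos
  σ : ι → ι
  pos_σ : ∀ x, pos (σ x) = -pos x
  e : Fin (r + 1) → ι
  pos_e : ∀ i, pos (e i) = (i.val : ℤ) - (r + 1)
  covers : ∀ x, (∃ i, x = e i) ∨ (∃ i, x = σ (e i)) ∨ pos x = 0
  c0 : ι → F
  c0_out : ∀ z, pos z ≠ 0 → c0 z = 0
  mid_ne : ∀ z, pos z = 0 → 2 * c0 z ≠ 0
  Qeq : ∀ v, Q v = (∑ p, v (e p) * v (σ (e p))) + ∑ z, c0 z * (v z * v z)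
  polar_eq : ∀ u v, polar ⇑Q u v = ∑ z, (if pos z = 0 then 2 * c0 z else 1) * (u z * v (σ z))
  good : Good Q
  five : 5 ≤ Fintype.card ι

variable {Q r} (B : OBase Q r)

namespace OBase

theorem σσ (x : ι) : B.σ (B.σ x) = x := B.pos_inj (by rw [B.pos_σ, B.pos_σ, neg_neg])

theorem σ_inj : Function.Injective B.σ := fun x y h => by rw [← B.σσ x, h, B.σσ]

theorem e_inj : Function.Injective B.e := fun i j h => by
  have := congrArg B.pos h
  rw [B.pos_e, B.pos_e] at this
  exact Fin.ext (by omega)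

theorem pos_e_ne (i : Fin (r + 1)) : B.pos (B.e i) ≠ 0 := by rw [B.pos_e]; omega

theorem pos_f_ne (i : Fin (r + 1)) : B.pos (B.σ (B.e i)) ≠ 0 := by rw [B.pos_σ, B.pos_e]; omega

theorem e_ne_f (i j : Fin (r + 1)) : B.e i ≠ B.σ (B.e j) := fun h => by
  have := congrArg B.pos h
  rw [B.pos_σ, B.pos_e, B.pos_e] at this
  omega

/-- The coordinates of the pairs. -/
def kc : Fin (r + 1) ⊕ Fin (r + 1) → ι := Sum.elim B.e fun p => B.σ (B.e p)

theorem kc_inj : Function.Injective B.kc := by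
  rintro (i | i) (j | j) h <;> simp only [kc, Sum.elim_inl, Sum.elim_inr] at h
  · exact congrArg Sum.inl (B.e_inj h)
  · exact absurd h (B.e_ne_f i j)
  · exact absurd h.symm (B.e_ne_f j i)
  · exact congrArg Sum.inr (B.e_inj (B.σ_inj h))

/-- The matrices of the special linear group of the first vectors. -/
def ψMat : Matrix.SpecialLinearGroup (Fin (r + 1)) F →* Matrix ι ι F where
  toFun A := embMat B.kc (fromBlocks A.1 0 0 (A⁻¹).1ᵀ)
  map_one' := by simp [embMat]
  map_mul' A C := by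
    rw [← embMat_mul _ B.kc_inj, fromBlocks_multiply, _root_.mul_inv_rev, Matrix.SpecialLinearGroup.coe_mul,
      Matrix.SpecialLinearGroup.coe_mul, Matrix.transpose_mul]
    simp

theorem ψMat_Q (A : Matrix.SpecialLinearGroup (Fin (r + 1)) F) (v : ι → F) : Q (B.ψMat A *ᵥ v) = Q v := by
  rw [B.Qeq, B.Qeq]
  show (∑ p, (embMat B.kc _ *ᵥ v) (B.kc (.inl p)) * (embMat B.kc _ *ᵥ v) (B.kc (.inr p))) +
    ∑ z, B.c0 z * ((embMat B.kc _ *ᵥ v) z * (embMat B.kc _ *ᵥ v) z) = _
  simp only [embMat_mulVec_in B.kc_inj, Matrix.fromBlocks_mulVec, Sum.elim_inl, Sum.elim_inr, Matrix.zero_mulVec,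
    add_zero, zero_add]
  congr 1
  · show (A.1 *ᵥ fun p => v (B.e p)) ⬝ᵥ ((A⁻¹).1ᵀ *ᵥ fun p => v (B.σ (B.e p))) = _
    rw [Matrix.mulVec_transpose, dotProduct_comm, ← Matrix.dotProduct_mulVec, Matrix.mulVec_mulVec,
      ← Matrix.SpecialLinearGroup.coe_mul, inv_mul_cancel, Matrix.SpecialLinearGroup.coe_one, Matrix.one_mulVec,
      dotProduct_comm]
    rfl
  · refine Finset.sum_congr rfl fun z _ => ?_
    by_cases hz : B.pos z = 0
    · rw [embMat_mulVec_out _ _ fun a e => by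
        rcases a with a | a <;> simp only [kc, Sum.elim_inl, Sum.elim_inr] at e <;> rw [e] at hz
        exacts [B.pos_e_ne a hz, B.pos_f_ne a hz]]
    · rw [B.c0_out z hz, zero_mul, zero_mul]

/-- `SL` of the first vectors in the isometry group. -/
def ψ₀ : Matrix.SpecialLinearGroup (Fin (r + 1)) F →* IsoGrp Q := isoHom B.ψMat B.ψMat_Q

theorem ψMat_ee (A : Matrix.SpecialLinearGroup (Fin (r + 1)) F) (i j : Fin (r + 1)) :
    B.ψMat A (B.e i) (B.e j) = A.1 i j := by
  show embMat B.kc _ (B.kc (.inl i)) (B.kc (.inl j)) = _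
  rw [embMat_apply]
  simp [B.kc_inj.eq_iff, ite_and, Matrix.one_apply]

theorem ψMat_ff (A : Matrix.SpecialLinearGroup (Fin (r + 1)) F) (i j : Fin (r + 1)) :
    B.ψMat A (B.σ (B.e i)) (B.σ (B.e j)) = (A⁻¹).1 j i := by
  show embMat B.kc _ (B.kc (.inr i)) (B.kc (.inr j)) = _
  rw [embMat_apply]
  simp [B.kc_inj.eq_iff, ite_and, Matrix.one_apply]

theorem ψMat_off (A : Matrix.SpecialLinearGroup (Fin (r + 1)) F) (x y : ι)
    (h1 : ∀ i j, x = B.e i → y = B.e j → False) (h2 : ∀ i j, x = B.σ (B.e i) → y = B.σ (B.e j) → False) :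
    B.ψMat A x y = if x = y then 1 else 0 := by
  show embMat B.kc _ x y = _
  rw [embMat_apply, Matrix.one_apply]
  refine add_eq_left.2 (Finset.sum_eq_zero fun a _ => Finset.sum_eq_zero fun b _ => ?_)
  split_ifs with h
  swap
  · rfl
  obtain ⟨hx, hy⟩ := h
  rcases a with i | i <;> rcases b with j | j
  · exact (h1 i j hx hy).elim
  · simp
  · simp
  · exact (h2 i j hx hy).elim

variable (ha : ∃ a : Fˣ, (a : F) * a ≠ 1)

/-- `SL` of the first vectors in `Ω`. -/
def ψΩ : Matrix.SpecialLinearGroup (Fin (r + 1)) F →* ↥(Omega F ⇑Q) :=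
  B.ψ₀.codRestrict _ fun A => mem_commutator_of_sl B.ψ₀ ha A

/-- The frame. -/
def frame : Frame F ↥(Omega F ⇑Q) r ι where
  E := omE Q
  inj := omE_inj Q
  pos := B.pos
  pos_inj := B.pos_inj
  σ := B.σ
  pos_σ := B.pos_σ
  sg z := if B.pos z = 0 then 2 * B.c0 z else 1
  sg_ne z := by
    by_cases h : B.pos z = 0
    · rw [if_pos h]; exact B.mid_ne z h
    · rw [if_neg h]; exact one_ne_zero
  form g x y := by
    have h := Orth.polar_ap (g : IsoGrp Q) (Pi.single x 1) (Pi.single y 1)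
    rw [B.polar_eq, B.polar_eq] at h
    simp only [ap_apply, Matrix.mulVec_single_one, Matrix.col_apply] at h
    refine h.trans ?_
    rw [Finset.sum_eq_single x (fun z _ hz => by simp [hz]) (by simp)]
    by_cases e : y = B.σ x <;> simp [e, eq_comm]
  e := B.e
  pos_e := B.pos_e
  covers := B.covers
  ψ := B.ψΩ ha
  ψ_ee := B.ψMat_ee
  ψ_ff := B.ψMat_ff
  ψ_off := B.ψMat_off

/-- The columns at the pairs are singular. -/
theorem col_sing (g : ↥(Omega F ⇑Q)) {x : ι} (hx : B.pos x ≠ 0) :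
    (∑ p, (omE Q g).1 (B.e p) x * (omE Q g).1 (B.σ (B.e p)) x) +
      ∑ z, B.c0 z * ((omE Q g).1 z x * (omE Q g).1 z x) = 0 := by
  have h := Orth.Q_ap (g : IsoGrp Q) (Pi.single x 1)
  rw [B.Qeq, B.Qeq (Pi.single x 1)] at h
  simp only [ap_apply, Matrix.mulVec_single_one, Matrix.col_apply] at h
  refine h.trans ?_
  rw [Finset.sum_eq_zero fun p _ => ?_, Finset.sum_eq_zero fun z _ => ?_, add_zero]
  · rcases eq_or_ne z x with rfl | e
    · rw [B.c0_out z hx, zero_mul]
    · simp [e]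
  · rcases eq_or_ne (B.e p) x with e | e
    · subst e; simp [(B.e_ne_f p p).symm]
    · simp [e]

/-- Permutations preserving the form. -/
def pperm (Q : QuadraticForm F (ι → F)) : Subgroup (Equiv.Perm ι) where
  carrier := {π | ∀ v : ι → F, Q (fun x => v (π x)) = Q v}
  one_mem' v := rfl
  mul_mem' := by
    intro π τ hπ hτ v
    exact (hτ fun x => v (π x)).trans (hπ v)
  inv_mem' := by
    intro π hπ v
    have := hπ fun x => v (π⁻¹ x)
    simp at this
    exact this.symm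

/-- Their matrices. -/
def permMat (Q : QuadraticForm F (ι → F)) : ↥((pperm Q)) →* Matrix ι ι F where
  toFun π := Matrix.of fun x y => if x = π.1 y then 1 else 0
  map_one' := by ext x y; simp [Matrix.one_apply]; exact if_congr Iff.rfl rfl rfl
  map_mul' π τ := by
    ext x y
    rw [Matrix.mul_apply, Finset.sum_eq_single (τ.1 y) (fun z _ hz => by simp [hz]) (by simp)]
    simp
    exact if_congr Iff.rfl rfl rfl

theorem permMat_mulVec (π : ↥((pperm Q))) (v : ι → F) : (permMat Q) π *ᵥ v = fun x => v (π.1⁻¹ x) := by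
  funext x
  show ∑ y, (if x = π.1 y then (1 : F) else 0) * v y = _
  rw [Finset.sum_eq_single (π.1⁻¹ x) (fun z _ hz => ?_) (by simp)]
  · simp
  · rw [if_neg fun e => hz (by rw [e]; simp), zero_mul]

/-- Permutations as isometries. -/
def permIso (Q : QuadraticForm F (ι → F)) : ↥((pperm Q)) →* IsoGrp Q :=
  isoHom (permMat Q) fun π v => by rw [permMat_mulVec]; exact (inv_mem π.2 : π.1⁻¹ ∈ (pperm Q)) v

theorem swap_mem_pperm (p : Fin (r + 1)) : Equiv.swap (B.e p) (B.σ (B.e p)) ∈ (pperm Q) := by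
  intro v
  rw [B.Qeq, B.Qeq v]
  congr 1
  · refine Finset.sum_congr rfl fun q _ => ?_
    rcases eq_or_ne q p with rfl | e
    · simp [mul_comm]
    · rw [Equiv.swap_apply_of_ne_of_ne (B.e_inj.ne e) (B.e_ne_f q p),
        Equiv.swap_apply_of_ne_of_ne (B.e_ne_f p q).symm (B.σ_inj.ne (B.e_inj.ne e))]
  · refine Finset.sum_congr rfl fun z _ => ?_
    by_cases hz : B.pos z = 0
    · rw [Equiv.swap_apply_of_ne_of_ne (fun e => B.pos_e_ne p (by rw [← e]; exact hz))
        (fun e => B.pos_f_ne p (by rw [← e]; exact hz))]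
    · rw [B.c0_out z hz, zero_mul, zero_mul]

/-- Exchange of two pairs. -/
def pairPerm (p q : Fin (r + 1)) : Equiv.Perm ι :=
  Equiv.swap (B.e p) (B.e q) * Equiv.swap (B.σ (B.e p)) (B.σ (B.e q))

theorem pairPerm_e (p q i : Fin (r + 1)) : B.pairPerm p q (B.e i) = B.e (Equiv.swap p q i) := by
  rw [pairPerm, Equiv.Perm.mul_apply, Equiv.swap_apply_of_ne_of_ne (B.e_ne_f _ _) (B.e_ne_f _ _),
    B.e_inj.swap_apply]

theorem pairPerm_f (p q i : Fin (r + 1)) : B.pairPerm p q (B.σ (B.e i)) = B.σ (B.e (Equiv.swap p q i)) := by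
  have h := (B.σ_inj.comp B.e_inj).swap_apply p q i
  simp only [Function.comp_apply] at h
  rw [pairPerm, Equiv.Perm.mul_apply, h]
  exact Equiv.swap_apply_of_ne_of_ne (B.e_ne_f _ _).symm (B.e_ne_f _ _).symm

theorem pairPerm_mem (p q : Fin (r + 1)) : B.pairPerm p q ∈ (pperm Q) := by
  intro v
  rw [B.Qeq, B.Qeq v]
  congr 1
  · simp only [B.pairPerm_e, B.pairPerm_f]
    exact Equiv.sum_comp (Equiv.swap p q) fun i => v (B.e i) * v (B.σ (B.e i))
  · refine Finset.sum_congr rfl fun z _ => ?_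
    by_cases hz : B.pos z = 0
    · have h1 : ∀ i, z ≠ B.e i := fun i e => B.pos_e_ne i (by rw [← e]; exact hz)
      have h2 : ∀ i, z ≠ B.σ (B.e i) := fun i e => B.pos_f_ne i (by rw [← e]; exact hz)
      rw [pairPerm, Equiv.Perm.mul_apply, Equiv.swap_apply_of_ne_of_ne (h2 _) (h2 _),
        Equiv.swap_apply_of_ne_of_ne (h1 _) (h1 _)]
    · rw [B.c0_out z hz, zero_mul, zero_mul]

/-- Exchanging the first `2k` pairs is in `Ω`. -/
theorem exists_flip (k : ℕ) (hk : 2 * k ≤ r + 1) :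
    ∃ g : ↥(Omega F ⇑Q), ∀ x y, (omE Q g).1 x y =
      if y = (if (r + 1 : ℤ) - 2 * k < |B.pos x| then B.σ x else x) then 1 else 0 := by
  suffices h : ∃ π : ↥((pperm Q)), (permIso Q) π ∈ Omega F ⇑Q ∧
      ∀ x, π.1 x = if (r + 1 : ℤ) - 2 * k < |B.pos x| then B.σ x else x by
    obtain ⟨π, hπ, hx⟩ := h
    refine ⟨⟨_, hπ⟩, fun x y => ?_⟩
    show (if x = π.1 y then (1 : F) else 0) = _
    have hinv : π.1 (π.1 x) = x := by
      rw [hx, hx x]
      split_ifs <;> simp_all [B.pos_σ, B.σσ]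
    refine if_congr ⟨fun e => ?_, fun e => ?_⟩ rfl rfl
    · rw [← hx]; exact π.1.injective (e.symm.trans hinv.symm)
    · rw [e, ← hx, hinv]
  induction k with
  | zero =>
    refine ⟨1, by rw [map_one]; exact one_mem _, fun x => ?_⟩
    rw [if_neg]
    · rfl
    · rcases B.covers x with ⟨i, rfl⟩ | ⟨i, rfl⟩ | h
      · have := i.isLt
        rw [B.pos_e, abs_of_nonpos (by omega)]; push_cast; omega
      · have := i.isLt
        rw [B.pos_σ, B.pos_e, abs_of_nonneg (by omega)]; push_cast; omega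
      · rw [h, abs_zero]; push_cast; omega
  | succ k ih =>
    obtain ⟨π, hπ, hx⟩ := ih (by omega)
    let p : Fin (r + 1) := ⟨2 * k, by omega⟩
    let q : Fin (r + 1) := ⟨2 * k + 1, by omega⟩
    let s : ↥((pperm Q)) := ⟨_, B.swap_mem_pperm p⟩
    let t : ↥((pperm Q)) := ⟨_, B.pairPerm_mem p q⟩
    have hc : (permIso Q) (s * t * s⁻¹ * t⁻¹) ∈ Omega F ⇑Q := by
      simp only [map_mul, map_inv]
      exact Subgroup.commutator_mem_commutator (Subgroup.mem_top _) (Subgroup.mem_top _)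
    refine ⟨π * (s * t * s⁻¹ * t⁻¹), by rw [map_mul]; exact mul_mem hπ hc, fun x => ?_⟩
    have hval : (s * t * s⁻¹ * t⁻¹).1 = Equiv.swap (B.e p) (B.σ (B.e p)) * Equiv.swap (B.e q) (B.σ (B.e q)) := by
      show Equiv.swap (B.e p) (B.σ (B.e p)) * B.pairPerm p q * (Equiv.swap (B.e p) (B.σ (B.e p)))⁻¹ *
        (B.pairPerm p q)⁻¹ = _
      rw [Equiv.swap_inv, show Equiv.swap (B.e p) (B.σ (B.e p)) * B.pairPerm p q * Equiv.swap (B.e p) (B.σ (B.e p)) *
          (B.pairPerm p q)⁻¹ = Equiv.swap (B.e p) (B.σ (B.e p)) *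
          (B.pairPerm p q * Equiv.swap (B.e p) (B.σ (B.e p)) * (B.pairPerm p q)⁻¹) by simp only [mul_assoc],
        ← Equiv.swap_apply_apply, B.pairPerm_e, B.pairPerm_f, Equiv.swap_apply_left]
    show π.1 ((s * t * s⁻¹ * t⁻¹).1 x) = _
    rw [hval, Equiv.Perm.mul_apply, hx]
    have hpe : ∀ i : Fin (r + 1), |B.pos (B.e i)| = (r + 1 : ℤ) - i.val ∧
        |B.pos (B.σ (B.e i))| = (r + 1 : ℤ) - i.val := fun i => by
      have := i.isLt
      rw [B.pos_σ, abs_neg, B.pos_e, abs_of_nonpos (by omega)]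
      omega
    have hp1 := hpe p
    have hq1 := hpe q
    simp only [p, q] at hp1 hq1
    push_cast at hp1 hq1 ⊢
    rcases B.covers x with ⟨i, rfl⟩ | ⟨i, rfl⟩ | h
    · have hi := (hpe i).1
      rcases eq_or_ne i p with rfl | hip
      · rw [Equiv.swap_apply_of_ne_of_ne (B.e_inj.ne (by simp [p, q, Fin.ext_iff]))
          (B.e_ne_f _ _), Equiv.swap_apply_left, if_neg (by rw [hp1.2]; omega), if_pos (by rw [hp1.1]; omega)]
      rcases eq_or_ne i q with rfl | hiq
      · rw [Equiv.swap_apply_left, Equiv.swap_apply_of_ne_of_ne (B.e_ne_f _ _).symm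
          (B.σ_inj.ne (B.e_inj.ne (by simp [p, q, Fin.ext_iff]))), if_neg (by rw [hq1.2]; omega),
          if_pos (by rw [hq1.1]; omega)]
      rw [Equiv.swap_apply_of_ne_of_ne (B.e_inj.ne hiq) (B.e_ne_f _ _),
        Equiv.swap_apply_of_ne_of_ne (B.e_inj.ne hip) (B.e_ne_f _ _)]
      have : i.val ≠ 2 * k := fun e => hip (Fin.ext e)
      have : i.val ≠ 2 * k + 1 := fun e => hiq (Fin.ext e)
      rw [hi]
      split_ifs <;> first | rfl | (exfalso; omega)
    · have hi := (hpe i).2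
      rcases eq_or_ne i p with rfl | hip
      · rw [Equiv.swap_apply_of_ne_of_ne (B.e_ne_f _ _).symm
          (B.σ_inj.ne (B.e_inj.ne (by simp [p, q, Fin.ext_iff]))), Equiv.swap_apply_right,
          if_neg (by rw [hp1.1]; omega), if_pos (by rw [hp1.2]; omega), B.σσ]
      rcases eq_or_ne i q with rfl | hiq
      · rw [Equiv.swap_apply_right, Equiv.swap_apply_of_ne_of_ne (B.e_inj.ne (by simp [p, q, Fin.ext_iff]))
          (B.e_ne_f _ _), if_neg (by rw [hq1.1]; omega), if_pos (by rw [hq1.2]; omega), B.σσ]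
      rw [Equiv.swap_apply_of_ne_of_ne (B.e_ne_f _ _).symm (B.σ_inj.ne (B.e_inj.ne hiq)),
        Equiv.swap_apply_of_ne_of_ne (B.e_ne_f _ _).symm (B.σ_inj.ne (B.e_inj.ne hip))]
      have : i.val ≠ 2 * k := fun e => hip (Fin.ext e)
      have : i.val ≠ 2 * k + 1 := fun e => hiq (Fin.ext e)
      rw [hi]
      split_ifs <;> first | rfl | (exfalso; omega)
    · have h1 : ∀ i, x ≠ B.e i := fun i e => B.pos_e_ne i (by rw [← e]; exact h)
      have h2 : ∀ i, x ≠ B.σ (B.e i) := fun i e => B.pos_f_ne i (by rw [← e]; exact h)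
      rw [Equiv.swap_apply_of_ne_of_ne (h1 _) (h2 _), Equiv.swap_apply_of_ne_of_ne (h1 _) (h2 _), h, abs_zero]
      split_ifs <;> first | rfl | (exfalso; omega)

/-! ### Generation -/

/-- A basis vector. -/
abbrev dl (x : ι) : ι → F := Pi.single x 1

theorem polar_dl (x : ι) (v : ι → F) :
    polar ⇑Q (dl x) v = (if B.pos x = 0 then 2 * B.c0 x else 1) * v (B.σ x) := by
  rw [B.polar_eq, Finset.sum_eq_single x (fun z _ hz => by simp [dl, hz]) (by simp)]
  simp [dl]

theorem polar_dl_pair {x : ι} (hx : B.pos x ≠ 0) (v : ι → F) : polar ⇑Q (dl x) v = v (B.σ x) := by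
  rw [B.polar_dl, if_neg hx, one_mul]

theorem Q_dl {x : ι} (hx : B.pos x ≠ 0) : Q (dl x) = 0 := by
  rw [B.Qeq, Finset.sum_eq_zero fun p _ => ?_, Finset.sum_eq_zero fun z _ => ?_, add_zero]
  · rcases eq_or_ne z x with rfl | e
    · rw [B.c0_out z hx, zero_mul]
    · simp [dl, e]
  · rcases eq_or_ne (B.e p) x with e | e
    · subst e; simp [dl, (B.e_ne_f p p).symm]
    · simp [dl, e]

/-- Transvections of `SL` are Eichler transformations. -/
theorem ψ₀_x {a b : Fin (r + 1)} (hab : a ≠ b) (c : F) :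
    eich Q (dl (B.e a)) (c • dl (B.σ (B.e b))) = B.ψ₀ (SLRGD.x F r hab (-c)) ∧
    eich Q (dl (B.σ (B.e b))) (c • dl (B.e a)) = B.ψ₀ (SLRGD.x F r hab c) := by
  have key : ∀ t v, ap (B.ψ₀ (SLRGD.x F r hab t)) v =
      v + (t * v (B.e b)) • dl (B.e a) - (t * v (B.σ (B.e a))) • dl (B.σ (B.e b)) := by
    intro t v
    funext x
    show (embMat B.kc _ *ᵥ v) x = _
    have hin : ∀ s, (embMat B.kc (fromBlocks (SLRGD.x F r hab t).1 0 0 ((SLRGD.x F r hab t)⁻¹).1ᵀ) *ᵥ v) (B.kc s) =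
        Sum.elim (fun i => v (B.e i) + if i = a then t * v (B.e b) else 0)
          (fun i => v (B.σ (B.e i)) - if i = b then t * v (B.σ (B.e a)) else 0) s := by
      intro s
      rw [embMat_mulVec_in B.kc_inj, SLRGD.x, Matrix.SpecialLinearGroup.transvection_inv, Matrix.fromBlocks_mulVec]
      rcases s with i | i
      · simp only [Sum.elim_inl, Matrix.zero_mulVec, add_zero, kc, Function.comp_def]
        show ∑ j, Matrix.transvection a b t i j * v (B.e j) = _
        simp [Matrix.transvection, Matrix.one_apply, Matrix.single_apply, add_mul, Finset.sum_add_distrib,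
          ite_and, eq_comm]
      · simp only [Sum.elim_inr, Matrix.zero_mulVec, zero_add, kc, Function.comp_def]
        show ∑ j, Matrix.transvection a b (-t) j i * v (B.σ (B.e j)) = _
        simp [Matrix.transvection, Matrix.one_apply, Matrix.single_apply, add_mul, Finset.sum_add_distrib,
          ite_and, eq_comm, sub_eq_add_neg]
        split_ifs <;> simp
    rcases B.covers x with ⟨i, rfl⟩ | ⟨i, rfl⟩ | hz
    · refine (hin (.inl i)).trans ?_
      simp [dl, Pi.single_apply, B.e_inj.eq_iff, B.e_ne_f]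
    · refine (hin (.inr i)).trans ?_
      simp [dl, Pi.single_apply, B.σ_inj.eq_iff, B.e_inj.eq_iff, (B.e_ne_f _ _).symm]
    · have h1 : ∀ i, x ≠ B.e i := fun i e => B.pos_e_ne i (by rw [← e]; exact hz)
      have h2 : ∀ i, x ≠ B.σ (B.e i) := fun i e => B.pos_f_ne i (by rw [← e]; exact hz)
      rw [embMat_mulVec_out _ _ (fun s => by rcases s with i | i; exacts [h1 i, h2 i])]
      simp [dl, Pi.single_apply, h1, h2]
  have hperp : dl (B.σ (B.e b)) (B.σ (B.e a)) = (0 : F) ∧ dl (B.e a) (B.e b) = (0 : F) := by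
    simp [dl, Pi.single_apply, B.σ_inj.eq_iff, B.e_inj.eq_iff, hab, hab.symm]
  constructor <;> refine ext_ap fun v => ?_
  · rw [eich_ap (B.Q_dl (B.pos_e_ne a)) (by rw [pl_smul_right, B.polar_dl_pair (B.pos_e_ne a), hperp.1, mul_zero]),
      key, Q_smul, B.Q_dl (B.pos_f_ne b), pl_smul_left, B.polar_dl_pair (B.pos_e_ne a),
      B.polar_dl_pair (B.pos_f_ne b), B.σσ]
    module
  · rw [eich_ap (B.Q_dl (B.pos_f_ne b))
        (by rw [pl_smul_right, B.polar_dl_pair (B.pos_f_ne b), B.σσ, hperp.2, mul_zero]),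
      key, Q_smul, B.Q_dl (B.pos_e_ne a), pl_smul_left, B.polar_dl_pair (B.pos_e_ne a),
      B.polar_dl_pair (B.pos_f_ne b), B.σσ]
    module

theorem swapW_inv {m : ℕ} {p q : Fin (m + 1)} (h : p ≠ q) : (swapW F m h)⁻¹ = swapW F m h.symm := by
  rw [inv_eq_iff_mul_eq_one]
  refine Subtype.ext (Matrix.ext fun k l => ?_)
  rw [Matrix.SpecialLinearGroup.coe_mul, Matrix.mul_apply,
    Finset.sum_eq_single (Equiv.swap q p l) (fun z _ hz => by rw [swapW_apply h.symm, if_neg hz, mul_zero]) (by simp),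
    swapW_apply, swapW_apply, Equiv.swap_comm q p, Equiv.swap_apply_self, Matrix.SpecialLinearGroup.coe_one,
    Matrix.one_apply]
  rcases eq_or_ne k l with rfl | hkl
  · rcases eq_or_ne k p with rfl | hp
    · simp [h, h.symm]
    rcases eq_or_ne k q with rfl | hq
    · simp [h, h.symm]
    simp [hp, hq, Equiv.swap_apply_of_ne_of_ne]
  · simp [hkl]

/-- Signed exchanges move the basis vectors. -/
theorem ψ₀_swap {p q : Fin (r + 1)} (h : p ≠ q) (i : Fin (r + 1)) :
    (∃ s : F, s * s = 1 ∧ ap (B.ψ₀ (swapW F r h)) (dl (B.e i)) = s • dl (B.e (Equiv.swap p q i))) ∧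
    (∃ s : F, s * s = 1 ∧ ap (B.ψ₀ (swapW F r h)) (dl (B.σ (B.e i))) = s • dl (B.σ (B.e (Equiv.swap p q i)))) ∧
    ∀ z, B.pos z = 0 → ap (B.ψ₀ (swapW F r h)) (dl z) = dl z := by
  refine ⟨⟨if i = p then -1 else 1, by split_ifs <;> ring, ?_⟩, ⟨if i = p then -1 else 1, by split_ifs <;> ring, ?_⟩,
    fun z hz => ?_⟩
  · funext x
    rw [ap_apply, Matrix.mulVec_single_one, Matrix.col_apply]
    show B.ψMat _ x (B.e i) = _
    rcases B.covers x with ⟨j, rfl⟩ | ⟨j, rfl⟩ | hz
    · rw [B.ψMat_ee, swapW_apply]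
      simp [dl, Pi.single_apply, B.e_inj.eq_iff]
    · rw [B.ψMat_off _ _ _ (fun a b e _ => B.e_ne_f a j e.symm) (fun a b _ e => B.e_ne_f i b e)]
      simp [dl, Pi.single_apply, (B.e_ne_f _ _).symm]
    · have h1 : ∀ j, x ≠ B.e j := fun j e => B.pos_e_ne j (by rw [← e]; exact hz)
      rw [B.ψMat_off _ _ _ (fun a b e _ => h1 a e) (fun a b _ e => B.e_ne_f i b e)]
      simp [dl, Pi.single_apply, h1]
  · funext x
    rw [ap_apply, Matrix.mulVec_single_one, Matrix.col_apply]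
    show B.ψMat _ x (B.σ (B.e i)) = _
    rcases B.covers x with ⟨j, rfl⟩ | ⟨j, rfl⟩ | hz
    · rw [B.ψMat_off _ _ _ (fun a b _ e => B.e_ne_f b i e.symm) (fun a b e _ => B.e_ne_f j a e)]
      simp [dl, Pi.single_apply, B.e_ne_f]
    · rw [B.ψMat_ff, swapW_inv h, swapW_apply h.symm, Equiv.swap_comm q p]
      simp only [Pi.smul_apply, dl, Pi.single_apply, B.σ_inj.eq_iff, B.e_inj.eq_iff, smul_eq_mul]
      have hiff : i = Equiv.swap p q j ↔ j = Equiv.swap p q i :=
        ⟨fun e => by rw [e, Equiv.swap_apply_self], fun e => by rw [e, Equiv.swap_apply_self]⟩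
      rcases eq_or_ne j (Equiv.swap p q i) with hj | hj
      · rw [if_pos (hiff.2 hj), if_pos hj, mul_one]
        refine if_congr ⟨fun e => ?_, fun e => ?_⟩ rfl rfl
        · exact (Equiv.swap p q).injective ((hj.symm.trans e).trans (Equiv.swap_apply_left p q).symm)
        · rw [hj, e, Equiv.swap_apply_left]
      · rw [if_neg fun e => hj (hiff.1 e), if_neg hj, mul_zero]
    · have h1 : ∀ j, x ≠ B.σ (B.e j) := fun j e => B.pos_f_ne j (by rw [← e]; exact hz)
      rw [B.ψMat_off _ _ _ (fun a b _ e => B.e_ne_f b i e.symm) (fun a b e _ => h1 a e)]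
      simp [dl, Pi.single_apply, h1]
  · funext x
    rw [ap_apply, Matrix.mulVec_single_one, Matrix.col_apply]
    show B.ψMat _ x z = _
    rw [B.ψMat_off _ _ _ (fun a b _ e => B.pos_e_ne b (by rw [← e]; exact hz))
      (fun a b _ e => B.pos_f_ne b (by rw [← e]; exact hz))]
    simp [dl, Pi.single_apply, eq_comm]

theorem eich_conj_mem {K : Subgroup (IsoGrp Q)} {g : IsoGrp Q} (hg : g ∈ K) {u w u' w' : ι → F} {s t : F}
    (hs : s * s = 1) (ht : t * t = 1) (hu : ap g u = s • u') (hw : ap g w = t • w')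
    (h : ∀ c : F, eich Q u (c • w) ∈ K) (c : F) : eich Q u' (c • w') ∈ K := by
  have := mul_mem (mul_mem hg (h (s * t * c))) (inv_mem hg)
  rwa [conj_eich, hu, map_smul, hw, eich_smul_left, smul_smul, smul_smul,
    show s * (s * t * c) * t = c by linear_combination (t * t * c) * hs + c * ht] at this

/-- Generation by the special linear groups. -/
theorem gen [Fintype F] (hr : 2 ≤ r) (H : Subgroup ↥(Omega F ⇑Q)) (hψ : ∀ A, B.ψΩ ha A ∈ H)
    (hlong : ∀ c : F, ∃ g ∈ H, (g : IsoGrp Q) = eich Q (dl (B.e ⟨r - 1, by omega⟩)) (c • dl (B.e (Fin.last r))))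
    (hlong' : ∀ c : F, ∃ g ∈ H,
      (g : IsoGrp Q) = eich Q (dl (B.σ (B.e ⟨r - 1, by omega⟩))) (c • dl (B.σ (B.e (Fin.last r)))))
    (hmid : ∀ z, B.pos z = 0 → ∀ c : F, ∃ g ∈ H, (g : IsoGrp Q) = eich Q (dl (B.e (Fin.last r))) (c • dl z))
    (hmid' : ∀ z, B.pos z = 0 → ∀ c : F, ∃ g ∈ H,
      (g : IsoGrp Q) = eich Q (dl (B.σ (B.e (Fin.last r)))) (c • dl z)) : H = ⊤ := by
  set K := H.map (Omega F ⇑Q).subtype with hK
  have hmem : ∀ {g : IsoGrp Q}, (∃ h ∈ H, (h : IsoGrp Q) = g) → g ∈ K := fun h => h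
  have hψ₀ : ∀ A, B.ψ₀ A ∈ K := fun A => ⟨_, hψ A, rfl⟩
  let s : Fin (r + 1) := ⟨r - 1, by omega⟩
  have hs : s ≠ Fin.last r := by simp [s, Fin.ext_iff]; omega
  have h0s : (0 : Fin (r + 1)) ≠ s := by simp [s, Fin.ext_iff]; omega
  have h0l : (0 : Fin (r + 1)) ≠ Fin.last r := by simp [Fin.ext_iff]; omega
  have one11 : (1 : F) * 1 = 1 := one_mul 1
  -- move the first vector to the first pair, then the second to any other
  have moveE : ∀ (v : Fin (r + 1) → ι), v = B.e ∨ v = (fun i => B.σ (B.e i)) →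
      (∀ c : F, eich Q (dl (v s)) (c • dl (v (Fin.last r))) ∈ K) →
      ∀ j, j ≠ 0 → ∀ c : F, eich Q (dl (v 0)) (c • dl (v j)) ∈ K := by
    intro v hv hbase
    have sw : ∀ {p q : Fin (r + 1)} (h : p ≠ q) i, ∃ t : F, t * t = 1 ∧
        ap (B.ψ₀ (swapW F r h)) (dl (v i)) = t • dl (v (Equiv.swap p q i)) := by
      intro p q h i
      rcases hv with rfl | rfl
      exacts [(B.ψ₀_swap h i).1, (B.ψ₀_swap h i).2.1]
    have h1 : ∀ c : F, eich Q (dl (v 0)) (c • dl (v (Fin.last r))) ∈ K := by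
      obtain ⟨a, ha, e1⟩ := sw h0s s
      obtain ⟨b, hb, e2⟩ := sw h0s (Fin.last r)
      rw [Equiv.swap_apply_right] at e1
      rw [Equiv.swap_apply_of_ne_of_ne h0l.symm hs.symm] at e2
      exact eich_conj_mem (hψ₀ _) ha hb e1 e2 hbase
    intro j hj
    rcases eq_or_ne j (Fin.last r) with rfl | hjl
    · exact h1
    obtain ⟨a, ha, e1⟩ := sw hjl 0
    obtain ⟨b, hb, e2⟩ := sw hjl (Fin.last r)
    rw [Equiv.swap_apply_of_ne_of_ne hj.symm h0l] at e1
    rw [Equiv.swap_apply_right] at e2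
    exact eich_conj_mem (hψ₀ _) ha hb e1 e2 h1
  have moveM : ∀ (v : Fin (r + 1) → ι), v = B.e ∨ v = (fun i => B.σ (B.e i)) → ∀ z, B.pos z = 0 →
      (∀ c : F, eich Q (dl (v (Fin.last r))) (c • dl z) ∈ K) → ∀ c : F, eich Q (dl (v 0)) (c • dl z) ∈ K := by
    intro v hv z hz hbase
    obtain ⟨a, ha, e1⟩ : ∃ t : F, t * t = 1 ∧
        ap (B.ψ₀ (swapW F r h0l)) (dl (v (Fin.last r))) = t • dl (v 0) := by
      rcases hv with rfl | rfl
      · simpa using (B.ψ₀_swap h0l (Fin.last r)).1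
      · simpa using (B.ψ₀_swap h0l (Fin.last r)).2.1
    exact eich_conj_mem (hψ₀ _) ha one11 e1 (by rw [one_smul]; exact (B.ψ₀_swap h0l 0).2.2 z hz) hbase
  have hx : ∀ x, x ≠ B.e 0 → x ≠ B.σ (B.e 0) → ∀ c : F,
      eich Q (dl (B.e 0)) (c • dl x) ∈ K ∧ eich Q (dl (B.σ (B.e 0))) (c • dl x) ∈ K := by
    intro x hx1 hx2 c
    rcases B.covers x with ⟨j, rfl⟩ | ⟨j, rfl⟩ | hz
    · have hj : j ≠ 0 := fun e => hx1 (by rw [e])
      exact ⟨moveE B.e (Or.inl rfl) (fun c => hmem (hlong c)) j hj c,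
        (B.ψ₀_x hj c).2 ▸ hψ₀ _⟩
    · have hj : j ≠ 0 := fun e => hx2 (by rw [e])
      exact ⟨(B.ψ₀_x hj.symm c).1 ▸ hψ₀ _,
        moveE (fun i => B.σ (B.e i)) (Or.inr rfl) (fun c => hmem (hlong' c)) j hj c⟩
    · exact ⟨moveM B.e (Or.inl rfl) x hz (fun c => hmem (hmid x hz c)) c,
        moveM (fun i => B.σ (B.e i)) (Or.inr rfl) x hz (fun c => hmem (hmid' x hz c)) c⟩
  have hp : HPair Q (dl (B.e 0)) (dl (B.σ (B.e 0))) :=
    ⟨B.Q_dl (B.pos_e_ne 0), B.Q_dl (B.pos_f_ne 0), by simp [B.polar_dl_pair (B.pos_e_ne 0), dl]⟩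
  have hΩ : Omega F ⇑Q ≤ K := by
    rw [omega_eq_eichPair B.good (by have := B.five; omega) (.inr B.five) hp, eichPair, Subgroup.closure_le]
    rintro _ ⟨w, hw, hcase⟩
    obtain ⟨hwe, hwf⟩ := mem_perp.1 hw
    rw [B.polar_dl_pair (B.pos_e_ne 0)] at hwe
    rw [B.polar_dl_pair (B.pos_f_ne 0), B.σσ] at hwf
    have hsum : ∀ u : ι, (u = B.e 0 ∨ u = B.σ (B.e 0)) →
        (∀ x, x ≠ B.e 0 → x ≠ B.σ (B.e 0) → ∀ c : F, eich Q (dl u) (c • dl x) ∈ K) →
        eich Q (dl u) w ∈ K := by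
      intro u hu hK'
      have hup : B.pos u ≠ 0 := by rcases hu with rfl | rfl; exacts [B.pos_e_ne 0, B.pos_f_ne 0]
      have key : ∀ S : Finset ι, eich Q (dl u) (∑ x ∈ S, w x • dl x) ∈ K ∧
          polar ⇑Q (dl u) (∑ x ∈ S, w x • dl x) = 0 := by
        intro S
        induction S using Finset.induction_on with
        | empty => rw [Finset.sum_empty, eich_zero]; exact ⟨one_mem _, pl_zero_right _ _⟩
        | insert x S hxS ih =>
          have hx0 : polar ⇑Q (dl u) (w x • dl x) = 0 := by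
            rw [pl_smul_right, B.polar_dl_pair hup]
            rcases eq_or_ne x (B.σ u) with rfl | e
            · rcases hu with rfl | rfl
              · rw [hwe, zero_mul]
              · rw [B.σσ, hwf, zero_mul]
            · simp [dl, e, Ne.symm e]
          refine ⟨?_, by rw [Finset.sum_insert hxS, pl_add_right, hx0, ih.2, add_zero]⟩
          rw [Finset.sum_insert hxS, ← eich_add (B.Q_dl hup) hx0 ih.2]
          refine mul_mem ?_ ih.1
          by_cases h1 : x = B.e 0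
          · rw [h1, hwf, zero_smul, eich_zero]; exact one_mem _
          by_cases h2 : x = B.σ (B.e 0)
          · rw [h2, hwe, zero_smul, eich_zero]; exact one_mem _
          exact hK' x h1 h2 _
      have e : ∑ x, w x • dl (F := F) x = w := by
        funext y; simp [dl, Finset.sum_apply, Pi.single_apply]
      exact e ▸ (key Finset.univ).1
    rcases hcase with rfl | rfl
    · exact hsum _ (Or.inl rfl) fun x h1 h2 c => (hx x h1 h2 c).1
    · exact hsum _ (Or.inr rfl) fun x h1 h2 c => (hx x h1 h2 c).2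
  rw [eq_top_iff]
  intro g _
  obtain ⟨h, hh, e⟩ := hΩ g.2
  rwa [← Subtype.ext (a1 := h) (a2 := g) e]

include B in
/-- No normal subgroup is unitriangular. -/
theorem core [Fintype F] [Finite ↥(Omega F ⇑Q)] (N : Subgroup ↥(Omega F ⇑Q)) (hN : N.Normal) {l : ι → ℤ} (hl : N ≤ low (omE Q) l)
    {b : Fˣ} (hb1 : (b : F) ≠ 1) (hb2 : (b : F) ≠ -1) (hr : 1 ≤ r) (ha : ∃ a : Fˣ, (a : F) * a ≠ 1) : N = ⊥ := by
  have hs : IsSimpleGroup (↥(Omega F ⇑Q) ⧸ Subgroup.center ↥(Omega F ⇑Q)) :=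
    isSimpleGroup_pomega B.good.nd B.five
  have hE : eichGen Q ≤ Omega F ⇑Q := (omega_eq_eichGen B.good (by have := B.five; omega) (.inr B.five)).ge
  have hc : ∀ z ∈ Subgroup.center ↥(Omega F ⇑Q), (omE Q z).1 = 1 ∨ (omE Q z).1 = -1 := by
    intro z hz
    obtain ⟨a, ha, h⟩ := (mem_center_omega_iff B.good.nd (by have := B.five; omega) hE z).1 hz
    have e : (omE Q z).1 = a • (1 : Matrix ι ι F) := Matrix.ext_of_mulVec_single fun i => by
      rw [Matrix.smul_mulVec, Matrix.one_mulVec]; exact h _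
    rcases mul_self_eq_one_iff.1 ha with rfl | rfl <;> simp [e]
  let i : Fin r := ⟨0, hr⟩
  have hd : (omE Q (B.ψΩ ha (emb (kk i) (kk_inj i) (uD b)))).1 (B.e (kk i 0)) (B.e (kk i 0)) = (b : F) :=
    (B.ψMat_ee _ _ _).trans ((emb_in _ _ _ 0 0).trans rfl)
  exact core_of_simple (omE Q) (omE_inj Q) hs hc (by rw [hd]; exact hb1) (by rw [hd]; exact hb2) N hN hl

end OBase

end Cfsg.Agent.GaussPre
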