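import Cfsg.Agent.Lib.GaussPre.FrameOrth
import Cfsg.Agent.Lib.GaussPre.ChevSquare

/-!
# The plus-type orthogonal groups as frames

* `plBase`, `plLast` : the coordinates and the last node (`SL(2)` of the last two pairs, conjugated by the
  exchange of the last pair);
* `pomegaPlus_square` : `PΩ⁺` squares a class.
-/

set_option autoImplicit false
set_option linter.unusedSectionVars false

namespace Cfsg.Agent.GaussPre

open Matrix Cfsg Cfsg.Agent.Orth Cfsg.Agent.Forms
open QuadraticMap (polar)

variable (F : Type*) [Field F] [Fintype F] (r : ℕ)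

/-- The position. -/
def plPos : Fin (r + 1) ⊕ Fin (r + 1) → ℤ :=
  Sum.elim (fun i => (i.val : ℤ) - (r + 1)) fun i => (r + 1 : ℤ) - i.val

theorem plPos_ne (x : Fin (r + 1) ⊕ Fin (r + 1)) : plPos r x ≠ 0 := by
  rcases x with i | i <;> simp only [plPos, Sum.elim_inl, Sum.elim_inr] <;> omega

theorem plPos_inj : Function.Injective (plPos r) := by
  rintro (i | i) (j | j) h <;> simp only [plPos, Sum.elim_inl, Sum.elim_inr] at h <;>
    first
      | exact congrArg _ (Fin.ext (by omega))
      | omega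

theorem plPos_swap (x : Fin (r + 1) ⊕ Fin (r + 1)) : plPos r x.swap = -plPos r x := by
  rcases x with i | i <;> simp [plPos]

/-- The coordinates. -/
noncomputable def plBase (hr : 2 ≤ r) (hF : Fintype.card F ≠ 2) : OBase (qfPlus (r + 1) F) r where
  pos := plPos r
  pos_inj := plPos_inj r
  σ := Sum.swap
  pos_σ := plPos_swap r
  e := Sum.inl
  pos_e i := rfl
  covers := by
    rintro (i | i)
    · exact Or.inl ⟨i, rfl⟩
    · exact Or.inr (Or.inl ⟨i, rfl⟩)
  c0 _ := 0
  c0_out _ _ := rfl
  mid_ne z h := absurd h (plPos_ne r z)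
  Qeq v := by simp [qfPlus_apply, quadFormPlus]
  polar_eq u v := by
    simp only [if_neg (plPos_ne r _), one_mul, Fintype.sum_sum_type, Sum.swap_inl, Sum.swap_inr,
      QuadraticMap.polar, qfPlus_apply, quadFormPlus, Pi.add_apply, add_mul, mul_add, Finset.sum_add_distrib]
    rw [show (∑ x, v (Sum.inl x) * u (Sum.inr x)) = ∑ x, u (Sum.inr x) * v (Sum.inl x) from
      Finset.sum_congr rfl fun x _ => mul_comm _ _]
    ring
  good := Good.of_card (qfPlus_nondegenerate (r + 1)) (Or.inl hF)
  five := by simp [Fintype.card_sum]; omega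

/-- Positions after the exchange of the last pair. -/
def tpos (p : ℤ) : ℤ := if p = 1 then -1 else if p = -1 then 1 else p

/-- The weights of the last node. -/
def dia2 (p : ℤ) : ℤ := (if p = -2 ∨ p = -1 then 1 else 0) - if p = 2 ∨ p = 1 then 1 else 0

theorem rootDia_tpos (p : ℤ) : rootDia (-2) (tpos p) = dia2 p := by
  rcases eq_or_ne p 1 with rfl | h1
  · decide
  rcases eq_or_ne p (-1) with rfl | h2
  · decide
  rw [tpos, if_neg h1, if_neg h2]
  simp only [rootDia, dia2]
  split_ifs <;> omega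

/-- The labels of the last node. -/
def plBlk (x : Fin (r + 1) ⊕ Fin (r + 1)) : ℤ :=
  if plPos r x = -1 ∨ plPos r x = 2 then 1 else if plPos r x = 1 ∨ plPos r x = -2 then -2 else plPos r x

theorem collapse_tpos (x : Fin (r + 1) ⊕ Fin (r + 1)) : collapse (-2) (tpos (plPos r x)) = plBlk r x := by
  rcases eq_or_ne (plPos r x) 1 with e | h1
  · rw [plBlk, e]; decide
  rcases eq_or_ne (plPos r x) (-1) with e | h2
  · rw [plBlk, e]; decide
  rw [tpos, if_neg h1, if_neg h2]
  simp only [plBlk, collapse]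
  split_ifs <;> omega

/-- The last but one node. -/
def sPl (r : ℕ) (hr : 3 ≤ r) : Fin r := ⟨r - 1, by omega⟩

variable (hr : 3 ≤ r) (hF : 9 ≤ Fintype.card F)

theorem exists_sq_ne' (hF : 9 ≤ Fintype.card F) : ∃ a : Fˣ, (a : F) * a ≠ 1 := by
  obtain ⟨b, -, hb1, hb2⟩ := exists_base hF
  exact ⟨b, fun h => by rcases mul_self_eq_one_iff.1 h with e | e; exacts [hb1 e, hb2 e]⟩

/-- The coordinates, for large fields. -/
noncomputable abbrev plB : OBase (qfPlus (r + 1) F) r := plBase F r (by omega) (by omega)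

/-- The frame. -/
noncomputable abbrev plFrame : Frame F ↥(Omega F ⇑(qfPlus (r + 1) F)) r (Fin (r + 1) ⊕ Fin (r + 1)) :=
  (plB F r hr hF).frame (exists_sq_ne' F hF)

theorem av_sPl : av r (sPl r hr) = -2 := by simp only [av, sPl]; omega

theorem sPl_succ : (sPl r hr).succ = Fin.last r := Fin.ext (by simp [sPl]; omega)

/-- The exchange of the last pair. -/
noncomputable def tau : ↥(OBase.pperm (qfPlus (r + 1) F)) :=
  ⟨_, (plB F r hr hF).swap_mem_pperm (Fin.last r)⟩

/-- The exchange of the last pair on labels. -/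
def tl (x : Fin (r + 1) ⊕ Fin (r + 1)) : Fin (r + 1) ⊕ Fin (r + 1) :=
  Equiv.swap (Sum.inl (Fin.last r)) (Sum.inr (Fin.last r)) x

theorem tau_apply (x : Fin (r + 1) ⊕ Fin (r + 1)) : (tau F r hr hF).1 x = tl r x := rfl

theorem tl_tl (x : Fin (r + 1) ⊕ Fin (r + 1)) : tl r (tl r x) = x := Equiv.swap_apply_self _ _ _

theorem tl_inj : Function.Injective (tl r) := fun x y h => by rw [← tl_tl r x, h, tl_tl]

theorem tl_pos (x : Fin (r + 1) ⊕ Fin (r + 1)) : plPos r (tl r x) = tpos (plPos r x) := by
  rcases x with i | i <;> by_cases hi : i = Fin.last r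
  · subst hi; simp [tl, tpos, plPos]
  · have h : i.val ≠ r := fun e => hi (Fin.ext e)
    have := i.isLt
    rw [tl, Equiv.swap_apply_of_ne_of_ne (by simp [hi]) (by simp)]
    simp only [tpos, plPos, Sum.elim_inl]
    split_ifs <;> omega
  · subst hi; simp [tl, tpos, plPos]
  · have h : i.val ≠ r := fun e => hi (Fin.ext e)
    have := i.isLt
    rw [tl, Equiv.swap_apply_of_ne_of_ne (by simp) (by simp [hi])]
    simp only [tpos, plPos, Sum.elim_inr]
    split_ifs <;> omega

theorem tl_swap (x : Fin (r + 1) ⊕ Fin (r + 1)) : tl r x.swap = (tl r x).swap := plPos_inj r (by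
  rw [tl_pos, plPos_swap, plPos_swap, tl_pos]
  simp only [tpos]
  split_ifs <;> omega)

/-- The copy of `SL(2)` at the last node. -/
noncomputable def plρ : Matrix.SpecialLinearGroup (Fin 2) F →* ↥(Omega F ⇑(qfPlus (r + 1) F)) :=
  (MulAut.conjNormal (OBase.permIso (qfPlus (r + 1) F) (tau F r hr hF))).toMonoidHom.comp
    (((plB F r hr hF).ψΩ (exists_sq_ne' F hF)).comp (emb (kk (sPl r hr)) (kk_inj _)))

theorem plρ_apply (A : Matrix.SpecialLinearGroup (Fin 2) F) (x y : Fin (r + 1) ⊕ Fin (r + 1)) :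
    (omE _ (plρ F r hr hF A)).1 x y =
      ((plFrame F r hr hF).E ((plFrame F r hr hF).ψ (emb (kk (sPl r hr)) (kk_inj _) A))).1 (tl r x) (tl r y) := by
  set t := OBase.permIso (qfPlus (r + 1) F) (tau F r hr hF)
  have e : ((plρ F r hr hF A : ↥(Omega F ⇑(qfPlus (r + 1) F))) : IsoGrp (qfPlus (r + 1) F)) =
      t * ((plB F r hr hF).ψ₀ (emb (kk (sPl r hr)) (kk_inj _) A)) * t⁻¹ := MulAut.conjNormal_apply _ _
  have ht : t⁻¹ = t := by
    rw [inv_eq_iff_mul_eq_one, ← map_mul]
    convert map_one (OBase.permIso (qfPlus (r + 1) F))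
    exact Subtype.ext (Equiv.swap_mul_self _ _)
  rw [omE_val, e, ht, coe_mul_mat, coe_mul_mat, Matrix.mul_apply,
    Finset.sum_eq_single (tl r y) (fun z _ hz => ?_) (by simp), Matrix.mul_apply,
    Finset.sum_eq_single (tl r x) (fun z _ hz => ?_) (by simp)]
  · show (if x = (tau F r hr hF).1 (tl r x) then (1 : F) else 0) * _ *
      (if tl r y = (tau F r hr hF).1 y then (1 : F) else 0) = _
    simp only [tau_apply, tl_tl, if_true, one_mul, mul_one]
    rfl
  · show (if x = (tau F r hr hF).1 z then (1 : F) else 0) * _ = 0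
    rw [if_neg fun e => hz (by rw [e, tau_apply, tl_tl]), zero_mul]
  · show _ * (if z = (tau F r hr hF).1 y then (1 : F) else 0) = 0
    rw [if_neg fun e => hz (by rw [e, tau_apply]), mul_zero]

variable {r}

theorem pl_point (x : Fin (r + 1) ⊕ Fin (r + 1)) :
    (plPos r x = -1 ↔ x = Sum.inl (Fin.last r)) ∧ (plPos r x = 1 ↔ x = Sum.inr (Fin.last r)) ∧
    (plPos r x = -2 ↔ x = Sum.inl (sPl r hr).castSucc) ∧ (plPos r x = 2 ↔ x = Sum.inr (sPl r hr).castSucc) := by
  have inj := plPos_inj r
  refine ⟨?_, ?_, ?_, ?_⟩ <;> refine ⟨fun h => inj ?_, fun h => ?_⟩ <;>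
    first
      | (rw [h]; simp only [plPos, sPl, Sum.elim_inl, Sum.elim_inr, Fin.val_last, Fin.val_castSucc]; omega)

include hr hF in
/-- A product of two opposite entries in a column vanishes. -/
theorem pl_sing (g : ↥(Omega F ⇑(qfPlus (r + 1) F))) (x : Fin (r + 1) ⊕ Fin (r + 1)) (p₀ : Fin (r + 1))
    (h : ∀ p, p ≠ p₀ → (omE _ g).1 (Sum.inl p) x = 0 ∨ (omE _ g).1 (Sum.inr p) x = 0) :
    (omE _ g).1 (Sum.inl p₀) x * (omE _ g).1 (Sum.inr p₀) x = 0 := by
  have := (plB F r hr hF).col_sing g (x := x) (plPos_ne r x)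
  simp only [plBase, zero_mul, Finset.sum_const_zero, add_zero, Sum.swap_inl] at this
  rwa [Finset.sum_eq_single p₀ (fun p _ hp => by rcases h p hp with e | e <;> simp [e]) (by simp)] at this

include hr hF in
theorem singV {g : ↥(Omega F ⇑(qfPlus (r + 1) F))} (hg : g ∈ low (omE _) (plPos r)) :
    (omE _ g).1 (Sum.inr (Fin.last r)) (Sum.inl (Fin.last r)) = 0 := by
  have := pl_sing F hr hF g (Sum.inl (Fin.last r)) (Fin.last r) fun p hp => Or.inl (low_zero _ hg (by
    have : p.val ≠ r := fun e => hp (Fin.ext e)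
    simp only [plPos, Sum.elim_inl, Fin.val_last]; omega) (by simp [hp]))
  rwa [low_diag _ hg, one_mul] at this

include hr hF in
theorem singU {g : ↥(Omega F ⇑(qfPlus (r + 1) F))} (hg : g ∈ low (omE _) (fun x => -plPos r x)) :
    (omE _ g).1 (Sum.inl (Fin.last r)) (Sum.inr (Fin.last r)) = 0 := by
  have := pl_sing F hr hF g (Sum.inr (Fin.last r)) (Fin.last r) fun p hp => Or.inr (low_zero _ hg (by
    have : p.val ≠ r := fun e => hp (Fin.ext e)
    simp only [plPos, Sum.elim_inr, Fin.val_last]; omega) (by simp [hp]))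
  rwa [low_diag _ hg, mul_one] at this

include hr hF in
theorem singV' {g : ↥(Omega F ⇑(qfPlus (r + 1) F))} (hg : g ∈ low (omE _) (plBlk r)) :
    (omE _ g).1 (Sum.inl (Fin.last r)) (Sum.inr (Fin.last r)) = 0 := by
  have := pl_sing F hr hF g (Sum.inr (Fin.last r)) (Fin.last r) fun p hp => Or.inl (low_zero _ hg (by
    have : p.val ≠ r := fun e => hp (Fin.ext e)
    simp only [plBlk, plPos, Sum.elim_inl, Sum.elim_inr, Fin.val_last]
    split_ifs <;> omega) (by simp))
  rwa [low_diag _ hg, mul_one] at this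

include hr hF in
theorem singU' {g : ↥(Omega F ⇑(qfPlus (r + 1) F))} (hg : g ∈ low (omE _) (fun x => -plBlk r x)) :
    (omE _ g).1 (Sum.inr (Fin.last r)) (Sum.inl (Fin.last r)) = 0 := by
  have := pl_sing F hr hF g (Sum.inl (Fin.last r)) (Fin.last r) fun p hp => Or.inr (low_zero _ hg (by
    have : p.val ≠ r := fun e => hp (Fin.ext e)
    simp only [plBlk, plPos, Sum.elim_inl, Sum.elim_inr, Fin.val_last]
    split_ifs <;> omega) (by simp))
  rwa [low_diag _ hg, one_mul] at this

include hr hF in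
theorem plKerV {g : ↥(Omega F ⇑(qfPlus (r + 1) F))} (hg : g ∈ low (omE _) (plPos r))
    (h : (omE _ g).1 (Sum.inr (sPl r hr).castSucc) (Sum.inl (Fin.last r)) = 0) : g ∈ low (omE _) (plBlk r) := by
  intro x y hxy
  rcases le_or_gt (plPos r x) (plPos r y) with hl | hl
  · exact hg x y hl
  rw [if_neg fun e => hl.ne' (congrArg _ e)]
  have hs := singV F hr hF hg
  obtain ⟨-, hy1, hy2, -⟩ := pl_point hr y
  have hcase : (plPos r x = 1 ∧ plPos r y = -1) ∨ (plPos r x = 1 ∧ plPos r y = -2) ∨
      (plPos r x = 2 ∧ plPos r y = -1) := by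
    have := plPos_ne r x; have := plPos_ne r y
    simp only [plBlk] at hxy
    split_ifs at hxy <;> omega
  rcases hcase with ⟨hx, hy⟩ | ⟨hx, hy⟩ | ⟨hx, hy⟩
  · rw [(pl_point hr x).2.1.1 hx, (pl_point hr y).1.1 hy]; exact hs
  · rw [(pl_point hr x).2.1.1 hx, hy2.1 hy]
    have := (plFrame F r hr hF).adj (plFrame F r hr hF).pos_σ hg (x := Sum.inl (sPl r hr).castSucc)
      (y := Sum.inr (Fin.last r)) (show plPos r (Sum.inl (sPl r hr).castSucc) < plPos r (Sum.inr (Fin.last r)) by
        rw [(pl_point hr _).2.2.1.2 rfl, (pl_point hr _).2.1.2 rfl]; norm_num) fun z hz1 hz2 l1 l2 => by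
        change plPos r (Sum.inl (sPl r hr).castSucc) ≤ plPos r z at l1; change plPos r z ≤ plPos r (Sum.inr (Fin.last r)) at l2
        rw [(pl_point hr _).2.2.1.2 rfl] at l1; rw [(pl_point hr _).2.1.2 rfl] at l2
        have hzne := plPos_ne r z
        have h2 : plPos r z ≠ -2 := fun e => hz1 ((pl_point hr z).2.2.1.1 e)
        have h1 : plPos r z ≠ 1 := fun e => hz2 ((pl_point hr z).2.1.1 e)
        rw [(pl_point hr z).1.1 (by omega)]
        exact Or.inr hs
    change _ * (omE _ g).1 (Sum.inr (sPl r hr).castSucc) (Sum.inl (Fin.last r)) +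
      _ * (omE _ g).1 (Sum.inr (Fin.last r)) (Sum.inl (sPl r hr).castSucc) = 0 at this
    rw [h, mul_zero, zero_add] at this
    exact (mul_eq_zero.1 this).resolve_left ((plFrame F r hr hF).sg_ne _)
  · rw [(pl_point hr x).2.2.2.1 hx, (pl_point hr y).1.1 hy]; exact h

include hr hF in
theorem plKerU {g : ↥(Omega F ⇑(qfPlus (r + 1) F))} (hg : g ∈ low (omE _) (fun x => -plPos r x))
    (h : (omE _ g).1 (Sum.inl (Fin.last r)) (Sum.inr (sPl r hr).castSucc) = 0) :
    g ∈ low (omE _) (fun x => -plBlk r x) := by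
  intro x y hxy
  rcases le_or_gt (-plPos r x) (-plPos r y) with hl | hl
  · exact hg x y hl
  rw [if_neg fun e => hl.ne' (congrArg (fun x => -plPos r x) e)]
  have hs := singU F hr hF hg
  have hcase : (plPos r x = -1 ∧ plPos r y = 1) ∨ (plPos r x = -2 ∧ plPos r y = 1) ∨
      (plPos r x = -1 ∧ plPos r y = 2) := by
    have := plPos_ne r x; have := plPos_ne r y
    simp only [plBlk] at hxy
    split_ifs at hxy <;> omega
  rcases hcase with ⟨hx, hy⟩ | ⟨hx, hy⟩ | ⟨hx, hy⟩
  · rw [(pl_point hr x).1.1 hx, (pl_point hr y).2.1.1 hy]; exact hs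
  · rw [(pl_point hr x).2.2.1.1 hx, (pl_point hr y).2.1.1 hy]
    have := (plFrame F r hr hF).adj (l := fun x => -plPos r x) (fun x => by
      show -plPos r x.swap = - -plPos r x
      rw [plPos_swap]) hg (x := Sum.inr (Fin.last r))
      (y := Sum.inl (sPl r hr).castSucc) (by
        show -plPos r (Sum.inr (Fin.last r)) < -plPos r (Sum.inl (sPl r hr).castSucc)
        rw [(pl_point hr _).2.2.1.2 rfl, (pl_point hr _).2.1.2 rfl]; norm_num) fun z hz1 hz2 l1 l2 => by
        change -plPos r (Sum.inr (Fin.last r)) ≤ -plPos r z at l1; change -plPos r z ≤ -plPos r (Sum.inl (sPl r hr).castSucc) at l2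
        rw [(pl_point hr _).2.1.2 rfl] at l1; rw [(pl_point hr _).2.2.1.2 rfl] at l2
        have hzne := plPos_ne r z
        have h2 : plPos r z ≠ -2 := fun e => hz2 ((pl_point hr z).2.2.1.1 e)
        have h1 : plPos r z ≠ 1 := fun e => hz1 ((pl_point hr z).2.1.1 e)
        rw [(pl_point hr z).1.1 (by omega)]
        exact Or.inl hs
    change _ * (omE _ g).1 (Sum.inl (Fin.last r)) (Sum.inr (sPl r hr).castSucc) +
      _ * (omE _ g).1 (Sum.inl (sPl r hr).castSucc) (Sum.inr (Fin.last r)) = 0 at this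
    rw [h, mul_zero, zero_add] at this
    exact (mul_eq_zero.1 this).resolve_left ((plFrame F r hr hF).sg_ne _)
  · rw [(pl_point hr x).1.1 hx, (pl_point hr y).2.2.2.1 hy]; exact h

variable (r)

theorem plρ_blk (A : Matrix.SpecialLinearGroup (Fin 2) F) (x y : Fin (r + 1) ⊕ Fin (r + 1))
    (h : plBlk r x ≠ plBlk r y) : (omE _ (plρ F r hr hF A)).1 x y = 0 := by
  rw [plρ_apply]
  refine (plFrame F r hr hF).emb_blk _ _ _ _ ?_
  rw [av_sPl]
  show collapse (-2) (plPos r (tl r x)) ≠ collapse (-2) (plPos r (tl r y))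
  rw [tl_pos, tl_pos, collapse_tpos, collapse_tpos]
  exact h

theorem plρ_tri (t : F) (x y : Fin (r + 1) ⊕ Fin (r + 1)) :
    (plPos r y ≤ plPos r x → (omE _ (plρ F r hr hF (uX t))).1 x y = if x = y then 1 else 0) ∧
    (plPos r x ≤ plPos r y → (omE _ (plρ F r hr hF (uY t))).1 x y = if x = y then 1 else 0) := by
  have hxy : (tl r x = tl r y ↔ x = y) := (tl_inj r).eq_iff
  have hs := sPl_succ r hr
  have key : ∀ p : Fin (r + 1), plPos r (Sum.inl p) = (p.val : ℤ) - (r + 1) ∧
      plPos r (Sum.inr p) = (r + 1 : ℤ) - p.val := fun p => ⟨rfl, rfl⟩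
  constructor <;> intro h <;> rw [plρ_apply, ← if_congr hxy rfl rfl] <;>
    refine (plFrame F r hr hF).ψ_δ _ _ _ (fun p q e1 e2 => ?_) (fun p q e1 e2 => ?_)
  all_goals
    have ex := tl_pos r x
    have ey := tl_pos r y
    rw [e1] at ex
    rw [e2] at ey
    try rw [← map_inv, uX_inv]
    try rw [← map_inv, uY_inv]
    first | rw [emb_uX] | rw [emb_uY]
    rw [add_eq_left, ite_eq_right_iff]
    rintro ⟨rfl, rfl⟩
    exfalso
    simp only [OBase.frame, plBase, Sum.swap_inl, (key _).1, (key _).2, Fin.val_castSucc, Fin.val_succ] at ex ey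
    simp only [tpos, sPl] at ex ey
    split_ifs at ex <;> split_ifs at ey <;> omega

theorem plρ_entry (t : F) :
    (omE _ (plρ F r hr hF (uX t))).1 (Sum.inl (Fin.last r)) (Sum.inr (sPl r hr).castSucc) = -t ∧
    (omE _ (plρ F r hr hF (uY t))).1 (Sum.inr (sPl r hr).castSucc) (Sum.inl (Fin.last r)) = -t := by
  have hne : (sPl r hr).castSucc ≠ Fin.last r := Fin.castSucc_ne_last _
  have h1 : tl r (Sum.inl (Fin.last r)) = Sum.inr (Fin.last r) := Equiv.swap_apply_left _ _
  have h2 : tl r (Sum.inr (sPl r hr).castSucc) = Sum.inr (sPl r hr).castSucc :=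
    Equiv.swap_apply_of_ne_of_ne (by simp) (by simp [hne])
  constructor <;> rw [plρ_apply, h1, h2]
  · refine ((plFrame F r hr hF).ψ_ff _ (Fin.last r) (sPl r hr).castSucc).trans ?_
    rw [← map_inv, uX_inv, emb_uX, if_neg hne, sPl_succ, if_pos ⟨rfl, rfl⟩, zero_add]
  · refine ((plFrame F r hr hF).ψ_ff _ (sPl r hr).castSucc (Fin.last r)).trans ?_
    rw [← map_inv, uY_inv, emb_uY, if_neg hne.symm, sPl_succ, if_pos ⟨rfl, rfl⟩, zero_add]

theorem plρ_D (w : Fˣ) :
    (omE _ (plρ F r hr hF (uD w))).1 =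
      diagonal fun x => ((w ^ rootDia (-2) (tpos (plPos r x)) : Fˣ) : F) := by
  ext x y
  rw [plρ_apply, diagonal_apply]
  by_cases hxy : x = y
  swap
  · rw [if_neg hxy, (plFrame F r hr hF).ψ_δ _ _ _ (fun p q e1 e2 => ?_) (fun p q e1 e2 => ?_),
      if_neg fun e => hxy (tl_inj r e)]
    all_goals
      try rw [← map_inv, uD_inv]
      show embMat _ (uD _).1 _ _ = _
      rw [embMat_apply, Matrix.one_apply]
      have hne : p ≠ q := fun e => hxy (tl_inj r (by rw [e1, e2, e]))
      simp [kk, uD, Fin.sum_univ_two, hne, hne.symm]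
      try (split_ifs <;> simp_all)
  subst hxy
  rw [if_pos rfl, ← tl_pos]
  rcases (plFrame F r hr hF).covers (tl r x) with ⟨p, hp⟩ | ⟨p, hp⟩ | hp
  · rw [hp, (plFrame F r hr hF).ψ_ee]
    show embMat _ (uD w).1 p p = _
    rw [embMat_apply, Matrix.one_apply_eq, show rootDia (-2) (plPos r ((plFrame F r hr hF).e p)) =
      rootDia (av r (sPl r hr)) ((p.val : ℤ) - (r + 1)) by rw [av_sPl r hr]; rfl, rootDia_e]
    rcases eq_or_ne p (sPl r hr).castSucc with rfl | h1
    · simp [kk, uD, Fin.sum_univ_two, Fin.castSucc_lt_succ.ne]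
    rcases eq_or_ne p (sPl r hr).succ with rfl | h2
    · simp [kk, uD, Fin.sum_univ_two, h1]
    simp [kk, Fin.sum_univ_two, h1, h2]
  · rw [hp, (plFrame F r hr hF).ψ_ff, ← map_inv, uD_inv]
    show embMat _ (uD w⁻¹).1 p p = _
    rw [embMat_apply, Matrix.one_apply_eq, show rootDia (-2) (plPos r ((plFrame F r hr hF).σ ((plFrame F r hr hF).e p))) =
      -rootDia (av r (sPl r hr)) ((p.val : ℤ) - (r + 1)) by
        have hp := p.isLt
        rw [av_sPl r hr]
        show rootDia (-2) ((r + 1 : ℤ) - p.val) = _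
        simp only [rootDia]
        split_ifs <;> omega, rootDia_e]
    rcases eq_or_ne p (sPl r hr).castSucc with rfl | h1
    · simp [kk, uD, Fin.sum_univ_two, Fin.castSucc_lt_succ.ne]
    rcases eq_or_ne p (sPl r hr).succ with rfl | h2
    · simp [kk, uD, Fin.sum_univ_two, h1]
    simp [kk, Fin.sum_univ_two, h1, h2]
  · exact absurd hp (plPos_ne r _)

theorem plρ_eich (c : F) :
    (plρ F r hr hF (uX (-c)) : IsoGrp (qfPlus (r + 1) F)) =
      eich _ (OBase.dl (Sum.inl (sPl r hr).castSucc)) (c • OBase.dl (Sum.inl (Fin.last r))) ∧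
    (plρ F r hr hF (uY c) : IsoGrp (qfPlus (r + 1) F)) =
      eich _ (OBase.dl (Sum.inr (sPl r hr).castSucc)) (c • OBase.dl (Sum.inr (Fin.last r))) := by
  set B := plB F r hr hF
  set t := OBase.permIso (qfPlus (r + 1) F) (tau F r hr hF)
  have e : ∀ A, ((plρ F r hr hF A : ↥(Omega F ⇑(qfPlus (r + 1) F))) : IsoGrp (qfPlus (r + 1) F)) =
      t * (B.ψ₀ (emb (kk (sPl r hr)) (kk_inj _) A)) * t⁻¹ := fun A => MulAut.conjNormal_apply _ _
  have hne : (sPl r hr).castSucc ≠ Fin.last r := Fin.castSucc_ne_last _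
  have hap : ∀ x, ap t (OBase.dl (F := F) x) = OBase.dl (tl r x) := fun x => by
    funext y
    rw [ap_apply, Matrix.mulVec_single_one, Matrix.col_apply]
    show (if y = (tau F r hr hF).1 x then (1 : F) else 0) = _
    rw [tau_apply]
    simp [OBase.dl, Pi.single_apply]
  constructor
  · rw [e, show emb (kk (sPl r hr)) (kk_inj _) (uX (-c)) = SLRGD.x F r hne (-c) from
      Subtype.ext (Matrix.ext fun p q => by rw [SLRGD.x_coe, SLGen.tv_apply, emb_uX, sPl_succ]),
      ← (B.ψ₀_x hne c).1, conj_eich, map_smul, hap, hap]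
    show eich _ (OBase.dl (tl r (Sum.inl (sPl r hr).castSucc))) (c • OBase.dl (tl r (Sum.inr (Fin.last r)))) = _
    rw [tl, tl, Equiv.swap_apply_of_ne_of_ne (by simp [hne]) (by simp), Equiv.swap_apply_right]
  · rw [e, show emb (kk (sPl r hr)) (kk_inj _) (uY c) = SLRGD.x F r hne.symm c from
      Subtype.ext (Matrix.ext fun p q => by rw [SLRGD.x_coe, SLGen.tv_apply, emb_uY, sPl_succ]),
      ← (B.ψ₀_x hne.symm c).2, conj_eich, map_smul, hap, hap]
    show eich _ (OBase.dl (tl r (Sum.inr (sPl r hr).castSucc))) (c • OBase.dl (tl r (Sum.inl (Fin.last r)))) = _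
    rw [tl, tl, Equiv.swap_apply_of_ne_of_ne (by simp) (by simp [hne]), Equiv.swap_apply_left]

theorem plρ_scale (d : Fin (r + 1) ⊕ Fin (r + 1) → Fˣ) (hd : ∀ x, d x.swap = (d x)⁻¹) (t : F)
    (x y : Fin (r + 1) ⊕ Fin (r + 1)) :
    (d x : F) * (omE _ (plρ F r hr hF (uX t))).1 x y =
      (omE _ (plρ F r hr hF (uX (((d (Sum.inl (Fin.last r)) / d (Sum.inr (sPl r hr).castSucc) : Fˣ) : F) * t)))).1 x y *
        (d y : F) ∧
    (d x : F) * (omE _ (plρ F r hr hF (uY t))).1 x y =
      (omE _ (plρ F r hr hF (uY ((((d (Sum.inl (Fin.last r)) / d (Sum.inr (sPl r hr).castSucc))⁻¹ : Fˣ) : F) * t)))).1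
        x y * (d y : F) := by
  have he : (plFrame F r hr hF).e = Sum.inl := rfl
  have hd' : ∀ z, (fun z => d (tl r z)) ((plFrame F r hr hF).σ z) = ((fun z => d (tl r z)) z)⁻¹ := fun z => by
    show d (tl r z.swap) = (d (tl r z))⁻¹
    rw [tl_swap]; exact hd _
  have hc : d (tl r (Sum.inl (sPl r hr).castSucc)) / d (tl r (Sum.inl (Fin.last r))) =
      d (Sum.inl (Fin.last r)) / d (Sum.inr (sPl r hr).castSucc) := by
    have h0 := hd (Sum.inl (Fin.last r))
    have h1 := hd (Sum.inl (sPl r hr).castSucc)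
    rw [Sum.swap_inl] at h0 h1
    rw [tl, tl, Equiv.swap_apply_of_ne_of_ne (by simp [Fin.castSucc_ne_last]) (by simp), Equiv.swap_apply_left,
      h0, h1, div_inv_eq_mul, div_inv_eq_mul, mul_comm]
  have hX := (plFrame F r hr hF).emb_scaleX (fun z => d (tl r z)) hd' (sPl r hr) t (tl r x) (tl r y)
  have hY := (plFrame F r hr hF).emb_scaleY (fun z => d (tl r z)) hd' (sPl r hr) t (tl r x) (tl r y)
  simp only [tl_tl, he, sPl_succ, hc] at hX hY
  rw [plρ_apply, plρ_apply, plρ_apply, plρ_apply]
  exact ⟨hX, hY⟩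

theorem plLoc₁ (j : Fin r) (hjv : j.val ≠ r - 2) (s : F) (v : ↥(Omega F ⇑(qfPlus (r + 1) F)))
    (hv : v ∈ low (omE _) (plPos r))
    (hc : (omE _ v).1 (Sum.inr (sPl r hr).castSucc) (Sum.inl (Fin.last r)) = 0) :
    (omE _ (plρ F r hr hF (uX s) * v * plρ F r hr hF (uX (-s)))).1 (Sum.inl j.succ) (Sum.inl j.castSucc) =
      (omE _ v).1 (Sum.inl j.succ) (Sum.inl j.castSucc) := by
  have hjr := j.isLt
  have hvc := plKerV F hr hF hv hc
  have hX : ∀ z, plPos r z ≤ plPos r (Sum.inl j.succ) → (omE _ (plρ F r hr hF (uX s))).1 (Sum.inl j.succ) z =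
      if Sum.inl j.succ = z then 1 else 0 := fun z h => (plρ_tri F r hr hF s _ z).1 h
  have hY : ∀ z, plPos r (Sum.inl j.castSucc) ≤ plPos r z →
      (omE _ (plρ F r hr hF (uX (-s)))).1 z (Sum.inl j.castSucc) = if z = Sum.inl j.castSucc then 1 else 0 :=
    fun z h => (plρ_tri F r hr hF (-s) z _).1 h
  have hp1 : plPos r (Sum.inl j.succ) = (j.val : ℤ) - r := by
    simp only [plPos, Sum.elim_inl, Fin.val_succ]; push_cast; ring
  have hp0 : plPos r (Sum.inl j.castSucc) = (j.val : ℤ) - r - 1 := by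
    simp only [plPos, Sum.elim_inl, Fin.val_castSucc]; ring
  have hcol : ∀ z, (omE _ (plρ F r hr hF (uX (-s)))).1 z (Sum.inl j.castSucc) =
      if z = Sum.inl j.castSucc then 1 else 0 := fun z => by
    rcases le_or_gt (plPos r (Sum.inl j.castSucc)) (plPos r z) with h | h
    · exact hY z h
    rw [if_neg fun e => h.ne (congrArg _ e)]
    refine plρ_blk F r hr hF _ _ _ fun e => ?_
    have := plPos_ne r z
    simp only [plBlk, hp0] at e
    split_ifs at e <;> omega
  rw [map_mul, map_mul, Units.val_mul, Units.val_mul, Matrix.mul_apply,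
    Finset.sum_eq_single (Sum.inl j.castSucc) (fun z _ hz => by rw [hcol, if_neg hz, mul_zero]) (by simp), hcol,
    if_pos rfl, mul_one, Matrix.mul_apply, Finset.sum_eq_single (Sum.inl j.succ) (fun z _ hz => ?_) (by simp),
    hX _ le_rfl, if_pos rfl, one_mul]
  · rcases le_or_gt (plPos r z) (plPos r (Sum.inl j.succ)) with h | h
    · rw [hX z h, if_neg (Ne.symm hz), zero_mul]
    by_cases hb : plBlk r (Sum.inl j.succ) = plBlk r z
    swap
    · rw [plρ_blk F r hr hF _ _ _ hb, zero_mul]
    have hne := plPos_ne r z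
    have hjz : (j.val : ℤ) = r - 1 ∧ plPos r z = 2 := by
      simp only [plBlk, hp1] at hb
      rw [hp1] at h
      split_ifs at hb <;> omega
    obtain rfl : j = sPl r hr := Fin.ext (by have := hjz.1; simp only [sPl]; omega)
    rw [(pl_point hr z).2.2.2.1 hjz.2]
    have h0 := pl_sing F hr hF v (Sum.inl (sPl r hr).castSucc) (sPl r hr).castSucc fun p hp => by
      rcases lt_or_ge p.val (r - 1) with hlt | hge
      · exact Or.inl (low_zero _ hv (show plPos r _ ≤ plPos r _ by
          simp only [plPos, sPl, Sum.elim_inl, Fin.val_castSucc]; omega) (by simp [hp]))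
      · have : p = Fin.last r := Fin.ext (by
          have : p.val ≠ r - 1 := fun e => hp (Fin.ext e)
          have := p.isLt
          simp only [Fin.val_last]; omega)
        subst this
        refine Or.inr (low_zero _ hvc (le_of_eq ?_) (by simp))
        simp only [plBlk]
        rw [(pl_point hr _).2.1.2 rfl, (pl_point hr _).2.2.1.2 rfl]
        rfl
    rw [low_diag _ hv, one_mul] at h0
    rw [h0, mul_zero]

theorem plLoc₂ (i : Fin r) (hiv : i.val ≠ r - 2) (s : F) (v : ↥(Omega F ⇑(qfPlus (r + 1) F)))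
    (hv : v ∈ low (omE _) (plPos r)) (hc : (omE _ v).1 (Sum.inl i.succ) (Sum.inl i.castSucc) = 0) :
    ((plFrame F r hr hF).E ((plFrame F r hr hF).ψ (emb (kk i) (kk_inj i) (uX s)) * v *
      (plFrame F r hr hF).ψ (emb (kk i) (kk_inj i) (uX (-s))))).1 (Sum.inr (sPl r hr).castSucc) (Sum.inl (Fin.last r)) =
      (omE _ v).1 (Sum.inr (sPl r hr).castSucc) (Sum.inl (Fin.last r)) := by
  have hir := i.isLt
  have hup : ∀ t, (plFrame F r hr hF).ψ (emb (kk i) (kk_inj i) (uX t)) ∈ low (plFrame F r hr hF).E (fun x => -(plFrame F r hr hF).pos x) := fun t => by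
    intro x y hxy
    refine (plFrame F r hr hF).ψ_δ _ x y (fun p q e1 e2 => ?_) (fun p q e1 e2 => ?_)
    · rw [emb_uX, add_eq_left, ite_eq_right_iff]
      intro h; exfalso
      simp only [e1, e2, (plFrame F r hr hF).pos_e, h.1, h.2, Fin.val_succ, Fin.val_castSucc] at hxy
      push_cast at hxy; omega
    · rw [← map_inv, uX_inv, emb_uX, add_eq_left, ite_eq_right_iff]
      intro h; exfalso
      simp only [e1, e2, (plFrame F r hr hF).pos_σe, h.1, h.2, Fin.val_succ, Fin.val_castSucc] at hxy
      push_cast at hxy; omega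
  have hb : plPos r (Sum.inr (sPl r hr).castSucc) = 2 := (pl_point hr _).2.2.2.2 rfl
  have ha : plPos r (Sum.inl (Fin.last r)) = -1 := (pl_point hr _).1.2 rfl
  have hrow : ∀ z, ((plFrame F r hr hF).E ((plFrame F r hr hF).ψ (emb (kk i) (kk_inj i) (uX s)))).1 (Sum.inr (sPl r hr).castSucc) z =
      if Sum.inr (sPl r hr).castSucc = z then 1 else 0 := fun z => by
    rcases le_or_gt (plPos r z) 2 with h | h
    · exact hup s _ z (show -plPos r (Sum.inr (sPl r hr).castSucc) ≤ -plPos r z by rw [hb]; omega)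
    rw [if_neg fun e => by rw [← e, hb] at h; omega]
    refine (plFrame F r hr hF).emb_blk _ _ _ _ fun e => ?_
    change collapse (av r i) (plPos r (Sum.inr (sPl r hr).castSucc)) = collapse (av r i) (plPos r z) at e
    rw [hb] at e
    simp only [collapse, av] at e
    split_ifs at e <;> omega
  rw [map_mul, map_mul, Units.val_mul, Units.val_mul, Matrix.mul_assoc, Matrix.mul_apply,
    Finset.sum_eq_single (Sum.inr (sPl r hr).castSucc)
      (fun z _ hz => by rw [hrow, if_neg (Ne.symm hz), zero_mul]) (by simp),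
    hrow, if_pos rfl, one_mul, Matrix.mul_apply,
    Finset.sum_eq_single (Sum.inl (Fin.last r)) (fun z _ hz => ?_) (by simp),
    low_diag _ (hup (-s)) _, mul_one]
  · rfl
  · rcases le_or_gt (plPos r (Sum.inl (Fin.last r))) (plPos r z) with h | h
    · rw [hup (-s) z (Sum.inl (Fin.last r)) (show -plPos r z ≤ -plPos r (Sum.inl (Fin.last r)) from neg_le_neg h), if_neg hz, mul_zero]
    by_cases hbz : collapse (av r i) (plPos r z) = collapse (av r i) (plPos r (Sum.inl (Fin.last r)))
    swap
    · rw [(plFrame F r hr hF).emb_blk _ _ _ _ hbz, mul_zero]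
    rw [ha] at h hbz
    have hz2 : (i.val : ℤ) = r - 1 ∧ plPos r z = -2 := by
      simp only [collapse, av] at hbz
      split_ifs at hbz <;> omega
    obtain rfl : i = sPl r hr := Fin.ext (by have := hz2.1; simp only [sPl]; omega)
    rw [(pl_point hr z).2.2.1.1 hz2.2]
    have h0 := pl_sing F hr hF v (Sum.inl (sPl r hr).castSucc) (sPl r hr).castSucc fun p hp => by
      rcases lt_or_ge p.val (r - 1) with hlt | hge
      · exact Or.inl (low_zero _ hv (show plPos r _ ≤ plPos r _ by
          simp only [plPos, sPl, Sum.elim_inl, Fin.val_castSucc]; omega) (by simp [hp]))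
      · have : p = Fin.last r := Fin.ext (by
          have : p.val ≠ r - 1 := fun e => hp (Fin.ext e)
          have := p.isLt
          simp only [Fin.val_last]; omega)
        subst this
        left
        rw [← sPl_succ r hr]
        exact hc
    rw [low_diag _ hv, one_mul] at h0
    show (omE _ v).1 _ _ * _ = 0
    rw [h0, zero_mul]

theorem plGen (H : Subgroup ↥(Omega F ⇑(qfPlus (r + 1) F))) (h1 : ∀ A, (plFrame F r hr hF).ψ A ∈ H)
    (h2 : ∀ A, plρ F r hr hF A ∈ H) : H = ⊤ := by
  have he : (plB F r hr hF).e = Sum.inl := rfl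
  have hσ : (plB F r hr hF).σ = Sum.swap := rfl
  have hs : (⟨r - 1, by omega⟩ : Fin (r + 1)) = (sPl r hr).castSucc := rfl
  refine (plB F r hr hF).gen (exists_sq_ne' F hF) (by omega) H h1
    (fun c => ⟨plρ F r hr hF (uX (-c)), h2 _, ?_⟩) (fun c => ⟨plρ F r hr hF (uY c), h2 _, ?_⟩)
    (fun z hz => absurd hz (plPos_ne r z)) (fun z hz => absurd hz (plPos_ne r z))
  · simp only [he, hs]
    exact (plρ_eich F r hr hF c).1
  · simp only [he, hσ, hs, Sum.swap_inl]
    exact (plρ_eich F r hr hF c).2

/-- The last node. -/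
noncomputable def plLast : LastNode (plFrame F r hr hF) where
  ρl := plρ F r hr hF
  bl := Sum.inr (sPl r hr).castSucc
  pl := ⟨r - 2, by omega⟩
  sul := -1
  svl := -1
  blkl := plBlk r
  dial x := dia2 (plPos r x)
  bl_e i := by simp [OBase.frame, plBase]
  bl_pos := by
    show plPos r (Sum.inl (Fin.last r)) < plPos r (Sum.inr (sPl r hr).castSucc)
    simp only [plPos, sPl, Sum.elim_inl, Sum.elim_inr, Fin.val_last, Fin.val_castSucc]
    omega
  dial_σ x := by
    show dia2 (plPos r x.swap) = -dia2 (plPos r x)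
    rw [plPos_swap]
    simp only [dia2]
    split_ifs <;> omega
  ρl_D w := by
    have := plρ_D F r hr hF w
    simp only [rootDia_tpos] at this
    exact this
  scaleX d hd t x y := (plρ_scale F r hr hF d hd t x y).1
  scaleY d hd t x y := (plρ_scale F r hr hF d hd t x y).2
  ρl_blk A x y h := plρ_blk F r hr hF A x y h
  ρl_up t x y h := (plρ_tri F r hr hF t x y).1 (neg_le_neg_iff.1 h)
  ρl_low t x y h := (plρ_tri F r hr hF t x y).2 h
  ρl_aab t := by
    show -1 * (omE _ (plρ F r hr hF _)).1 (Sum.inl (Fin.last r)) _ = t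
    rw [(plρ_entry F r hr hF t).1]; ring
  ρl_bba t := by
    show -1 * (omE _ (plρ F r hr hF _)).1 _ (Sum.inl (Fin.last r)) = t
    rw [(plρ_entry F r hr hF t).2]; ring
  blkl_e i := by
    have := i.isLt
    simp only [OBase.frame, plBase, plBlk, plPos, Sum.elim_inl, Fin.val_castSucc, Fin.val_succ]
    push_cast
    split_ifs <;> omega
  gapV g _ h hh l h1 h2 := by
    have := plPos_ne r l
    simp only [OBase.frame, plBase] at h1 h2
    rw [(pl_point hr _).1.2 rfl] at h1
    rw [(pl_point hr _).2.2.2.2 rfl] at h2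
    rw [(pl_point hr l).2.1.1 (by omega)]
    exact Or.inr (singV F hr hF hh)
  gapU g hg h _ l h1 h2 := by
    have := plPos_ne r l
    simp only [OBase.frame, plBase] at h1 h2
    rw [(pl_point hr _).1.2 rfl] at h1
    rw [(pl_point hr _).2.2.2.2 rfl] at h2
    rw [(pl_point hr l).2.1.1 (by omega)]
    exact Or.inl (singU F hr hF hg)
  kerV v hv h := plKerV F hr hF hv h
  kerU v hv h := plKerU F hr hF hv h
  blkV v hv := by
    refine ⟨fun x y hxy => ?_, low_zero _ hv (le_of_eq ?_) (by simp [OBase.frame, plBase])⟩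
    · change plPos r x ≤ plPos r y at hxy
      rcases le_or_gt (plBlk r x) (plBlk r y) with h | h
      · exact hv x y h
      have hxy' : plPos r x = -1 ∧ plPos r y = 1 := by
        have := plPos_ne r x; have := plPos_ne r y
        simp only [plBlk] at h
        split_ifs at h <;> omega
      rw [(pl_point hr x).1.1 hxy'.1, (pl_point hr y).2.1.1 hxy'.2, if_neg (by simp)]
      exact singV' F hr hF hv
    · show plBlk r _ = plBlk r _
      simp only [plBlk, OBase.frame, plBase]
      rw [(pl_point hr _).1.2 rfl, (pl_point hr _).2.2.2.2 rfl]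
      rfl
  blkU v hv := by
    refine ⟨fun x y hxy => ?_, low_zero _ hv (le_of_eq ?_) (by simp [OBase.frame, plBase])⟩
    · change -plPos r x ≤ -plPos r y at hxy
      rcases le_or_gt (-plBlk r x) (-plBlk r y) with h | h
      · exact hv x y h
      have hxy' : plPos r x = 1 ∧ plPos r y = -1 := by
        have := plPos_ne r x; have := plPos_ne r y
        simp only [plBlk] at h
        split_ifs at h <;> omega
      rw [(pl_point hr x).2.1.1 hxy'.1, (pl_point hr y).1.1 hxy'.2, if_neg (by simp)]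
      exact singU' F hr hF hv
    · show -plBlk r _ = -plBlk r _
      simp only [plBlk, OBase.frame, plBase]
      rw [(pl_point hr _).1.2 rfl, (pl_point hr _).2.2.2.2 rfl]
      rfl
  klr i := by
    have hi := i.isLt
    simp only [OBase.frame, plBase, plPos, sPl, dia2, Sum.elim_inl, Sum.elim_inr, rootDia, av, ne_eq, Fin.ext_iff,
      Fin.val_castSucc, Fin.val_succ]
    push_cast [show 1 ≤ r by omega]
    constructor <;> intro hpl <;>
    · refine ⟨?_, ?_⟩ <;> (try constructor) <;> split_ifs <;> omega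
  loc₁ j hj s v hv hc := plLoc₁ F r hr hF j (fun e => hj (Fin.ext e)) s v hv hc
  loc₂ i hi s v hv hc := plLoc₂ F r hr hF i (fun e => hi (Fin.ext e)) s v hv hc
  gen := plGen F r hr hF
  core N hN h := by
    obtain ⟨b, -, hb1, hb2⟩ := exists_base hF
    rcases h with h | h <;>
      exact (plB F r hr hF).core N hN h hb1 hb2 (by omega) (exists_sq_ne' F hF)

/-- The label of the Levi subgroup. -/
def plLab (x : Fin (r + 1) ⊕ Fin (r + 1)) : ℤ := if plPos r x ≤ -2 then -2 else if 2 ≤ plPos r x then 2 else 0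

variable {r}

/-- The plus-type orthogonal groups square a class. -/
theorem pomegaPlus_square (m : ℕ) (hm : 1 ≤ m) (hF : 9 ≤ Fintype.card F) :
    ClassSquare (POmega F (quadFormPlus (m + 3) F)) := by
  rw [← qfPlus_eq]
  obtain ⟨b, hb, -, -⟩ := exists_base hF
  have hr : 3 ≤ m + 2 := by omega
  set L := plLast F (m + 2) hr hF with hL
  have hp : ∀ x, -4 < plLab (m + 2) x ∧ plLab (m + 2) x < 4 := fun x => by
    simp only [plLab]; split_ifs <;> omega
  have hle : (m + 2 + 1) / 2 * 2 ≤ m + 2 + 1 := Nat.div_mul_le_self _ _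
  obtain ⟨w, hw⟩ := (plB F (m + 2) hr hF).exists_flip ((m + 2 + 1) / 2) (by omega)
  let c : ℕ → ℤ := fun i => if i + 1 < m + 2 then -2 * ((i : ℤ) + 1) else -((m : ℤ) + 2)
  let W : FrameLevi L m :=
    { off := 0
      off_le := by omega
      L₀ := -2
      L₀_ne := by norm_num
      lab := plLab (m + 2)
      lab_σ := fun x => by
        show plLab (m + 2) x.swap = _
        simp only [plLab, plPos_swap]
        split_ifs <;> omega
      lab_mono := fun x y h => by
        change plPos (m + 2) x ≤ plPos (m + 2) y at h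
        simp only [plLab]
        split_ifs <;> omega
      lab_win := fun x => by
        show plLab (m + 2) x = -2 ↔ ∃ i, x = Sum.inl i ∧ _
        rcases x with i | i
        · have := i.isLt
          simp only [plLab, plPos, Sum.elim_inl, Sum.inl.injEq, exists_eq_left']
          split_ifs <;> omega
        · simp only [plLab, plPos, Sum.elim_inr, reduceCtorEq, false_and, exists_false, iff_false]
          split_ifs <;> omega
      mid := fun l hl g hg x y hxy hlab h1 h2 => by
        have hx : plPos (m + 2) x = 1 ∨ plPos (m + 2) x = -1 := by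
          have := plPos_ne (m + 2) x
          simp only [plLab] at h1 h2
          split_ifs at h1 <;> omega
        have hy : plPos (m + 2) y = 1 ∨ plPos (m + 2) y = -1 := by
          have := plPos_ne (m + 2) y
          simp only [plLab] at hlab
          split_ifs at hlab <;> omega
        have hne : plPos (m + 2) x ≠ plPos (m + 2) y := fun e => hxy (plPos_inj _ e)
        show (omE _ g).1 x y = 0
        rcases hl with rfl | rfl
        · rcases hx with hx | hx
          · rw [(pl_point hr x).2.1.1 hx, (pl_point hr y).1.1 (by omega)]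
            exact singV F hr hF hg
          · exact low_zero _ hg (show plPos (m + 2) x ≤ plPos (m + 2) y by omega) hxy
        · rcases hx with hx | hx
          · exact low_zero _ hg (show -plPos (m + 2) x ≤ -plPos (m + 2) y by omega) hxy
          · rw [(pl_point hr x).1.1 hx, (pl_point hr y).2.1.1 (by omega)]
            exact singU F hr hF hg
      base := b
      base_inj := fun x y h => hb _ _ h (hp x).1 (hp x).2 (hp y).1 (hp y).2
      f := fun i => b ^ c i.val
      dval_f := fun x => by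
        have key : ∀ p : Fin (m + 2 + 1),
            L.dval (fun i => b ^ c i.val) (Sum.inl p) = b ^ plLab (m + 2) (Sum.inl p) := by
          intro p
          have hp := p.isLt
          rw [L.dval_base b c]
          congr 1
          show (∑ i : Fin (m + 2), _ * rootDia (av (m + 2) i) ((p.val : ℤ) - ((m + 2 : ℕ) + 1))) + _ = _
          rw [sum_rootDia c]
          simp only [c, hL, plLast, plLab, plPos, dia2, Sum.elim_inl]
          push_cast
          split_ifs <;> omega
        rcases x with i | i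
        · exact key i
        · show L.dval _ ((plFrame F (m + 2) hr hF).σ (Sum.inl i)) = _
          rw [L.dval_σ, key, ← _root_.zpow_neg]
          congr 1
          show _ = plLab (m + 2) (Sum.inl i).swap
          simp only [plLab, plPos_swap]
          split_ifs <;> omega
      jdet := Fin.last (m + 2)
      jdet_sum := Or.inl (by
        rw [Finset.sum_eq_single (⟨m + 1, by omega⟩ : Fin (m + 2)) (fun p _ hp => ?_) (by simp)]
        · simp only [LastNode.dia, Fin.lastCases_last, hL, plLast, OBase.frame, plBase, plPos, dia2,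
            Sum.elim_inl]
          push_cast
          split_ifs <;> omega
        · have : p.val ≠ m + 1 := fun e => hp (Fin.ext e)
          have := p.isLt
          simp only [LastNode.dia, Fin.lastCases_last, hL, plLast, OBase.frame, plBase, plPos, dia2,
            Sum.elim_inl]
          push_cast
          split_ifs <;> omega)
      w := w
      π := fun x => if ((m + 2 : ℕ) + 1 : ℤ) - 2 * ((m + 2 + 1) / 2 : ℕ) < |plPos (m + 2) x| then x.swap else x
      π_π := fun x => by
        split_ifs with h1 h2 <;> first | rfl | exact Sum.swap_swap x | skip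
        exact absurd h1 (by simpa [plPos_swap] using h2)
      cw := fun _ => 1
      w_E := fun x y => (hw x y).trans (if_congr Iff.rfl Units.val_one.symm rfl)
      π_lab := fun x => by
        have := plPos_ne (m + 2) x
        rcases abs_cases (plPos (m + 2) x) with h | h <;> split_ifs with h' <;>
          simp only [plLab, plPos_swap] <;> split_ifs <;> omega
      π_σ := fun x hx => by
        refine if_pos ?_
        simp only [plLab] at hx
        rcases abs_cases (plPos (m + 2) x) with h | h <;> split_ifs at hx <;> omega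
      eps := 1
      cw_σ := fun _ _ => one_mul 1 }
  exact W.toLevi.square (QuotientGroup.mk' _) (QuotientGroup.mk'_surjective _)
    (fun z hz => (QuotientGroup.eq_one_iff z).2 hz) hF

end Cfsg.Agent.GaussPre
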