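import Cfsg.Agent.Lib.GaussPre.FrameTools
import Cfsg.Agent.Lib.GLOrder.SympRootData
import Cfsg.Agent.Lib.Linear.Symplectic
import Cfsg.Agent.Lib.GaussPre.ChevSquare

/-!
# The symplectic groups as frames

* `spFrame`, `spLast`, `spWin` : the frame, the last node and the Levi subgroup of type `A`;
* `psp_square` : `PSp` squares a class.
-/

set_option autoImplicit false
set_option linter.unusedSectionVars false

namespace Cfsg.Agent.GaussPre

open Matrix Cfsg.Agent.GLOrder Cfsg.Agent.GLOrder.SpRoot Cfsg.Agent.SLRGD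

variable (F : Type*) [Field F] [Fintype F] (r : ℕ)

local notation "Sp" => Matrix.symplecticGroup (Fin (r + 1)) F
local notation "Ixs" => Fin (r + 1) ⊕ Fin (r + 1)

/-- Matrices of symplectic elements. -/
def spE : Sp →* GL Ixs F := MonoidHom.toHomUnits (Submonoid.subtype _)

theorem spE_val (g : Sp) : ((spE F r g : GL Ixs F) : Matrix Ixs Ixs F) = g.1 := rfl

/-- The position. -/
def spPos : Ixs → ℤ := Sum.elim (fun i => (i.val : ℤ) - (r + 1)) fun i => (r + 1 : ℤ) - i.val

/-- The block matrix of a linear map of the first vectors. -/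
def spψ : Matrix.SpecialLinearGroup (Fin (r + 1)) F →* Sp where
  toFun A := ⟨fromBlocks A.1 0 0 (A⁻¹).1ᵀ, by
    rw [SymplecticGroup.mem_iff', Matrix.J, fromBlocks_transpose, fromBlocks_multiply, fromBlocks_multiply]
    simp [Matrix.mul_adjugate, Matrix.adjugate_mul, ← Matrix.transpose_mul]⟩
  map_one' := Subtype.ext (by simp)
  map_mul' A B := Subtype.ext (by
    show fromBlocks _ _ _ _ = fromBlocks A.1 0 0 (A⁻¹).1ᵀ * fromBlocks B.1 0 0 (B⁻¹).1ᵀ
    rw [fromBlocks_multiply, _root_.mul_inv_rev, Matrix.SpecialLinearGroup.coe_mul,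
      Matrix.SpecialLinearGroup.coe_mul, Matrix.transpose_mul]
    simp)

theorem spψ_val (A : Matrix.SpecialLinearGroup (Fin (r + 1)) F) :
    ((spE F r (spψ F r A) : GL Ixs F) : Matrix Ixs Ixs F) = fromBlocks A.1 0 0 (A⁻¹).1ᵀ := rfl

/-- The frame. -/
def spFrame : Frame F Sp r Ixs where
  E := spE F r
  inj g h e := Subtype.ext (congrArg Units.val e)
  pos := spPos r
  pos_inj := by
    rintro (i | i) (j | j) h <;> simp only [spPos, Sum.elim_inl, Sum.elim_inr] at h <;>
      first
        | exact congrArg _ (Fin.ext (by omega))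
        | omega
  σ := Sum.swap
  pos_σ := by rintro (i | i) <;> simp [spPos]
  sg := SpRoot.cf
  sg_ne x := by cases x <;> simp [SpRoot.cf]
  form g x y := by
    have h := congrFun (congrFun ((SymplecticGroup.mem_iff' (A := g.1)).1 g.2) x) y
    rw [Matrix.mul_assoc, Matrix.mul_apply, J_eq] at h
    rw [← h]
    refine Finset.sum_congr rfl fun z _ => ?_
    rw [Matrix.transpose_apply, J_mul_apply, spE_val]
    ring
  e := Sum.inl
  pos_e i := rfl
  covers := by
    rintro (i | i)
    · exact Or.inl ⟨i, rfl⟩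
    · exact Or.inr (Or.inl ⟨i, rfl⟩)
  ψ := spψ F r
  ψ_ee A i j := rfl
  ψ_ff A i j := rfl
  ψ_off A x y h1 h2 := by
    rcases x with i | i <;> rcases y with j | j
    · exact (h1 i j rfl rfl).elim
    · simp [spψ_val]
    · simp [spψ_val]
    · exact (h2 i j rfl rfl).elim

/-- The last pair. -/
def spK : Fin 2 → Ixs := ![Sum.inl (Fin.last r), Sum.inr (Fin.last r)]

theorem spK_inj : Function.Injective (spK r) := by
  intro a b h
  fin_cases a <;> fin_cases b <;> simp_all [spK]

theorem spK_mem (A : Matrix.SpecialLinearGroup (Fin 2) F) :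
    (emb (spK r) (spK_inj r) A).1 ∈ Matrix.symplecticGroup (Fin (r + 1)) F := by
  let j : Matrix (Fin 2) (Fin 2) F := !![0, -1; 1, 0]
  have hJP : Matrix.J (Fin (r + 1)) F * incl (F := F) (spK r) = incl (F := F) (spK r) * j := by
    ext x b
    rw [Matrix.mul_apply, Finset.sum_eq_single x.swap (fun z _ hz => by rw [J_eq, if_neg hz, zero_mul]) (by simp),
      J_eq, if_pos rfl, Matrix.mul_apply, Fin.sum_univ_two]
    fin_cases b <;> rcases x with i | i <;> by_cases hi : i = Fin.last r <;>
      simp [incl, spK, j, SpRoot.cf, hi]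
  have hPJ : (incl (F := F) (spK r))ᵀ * Matrix.J (Fin (r + 1)) F = j * (incl (F := F) (spK r))ᵀ := by
    ext a y
    rw [Matrix.mul_apply, Finset.sum_eq_single y.swap (fun z _ hz => by
      rw [J_eq, if_neg (fun e => hz (by rw [e, Sum.swap_swap])), mul_zero]) (by simp),
      J_eq, if_pos (Sum.swap_swap y).symm, Matrix.mul_apply, Fin.sum_univ_two]
    fin_cases a <;> rcases y with i | i <;> by_cases hi : i = Fin.last r <;>
      simp [incl, spK, j, SpRoot.cf, hi]
  have hjA : A.1ᵀ * j * A.1 = j := by
    have h := A.2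
    rw [Matrix.det_fin_two] at h
    ext a b
    fin_cases a <;> fin_cases b <;> simp [j, Matrix.mul_apply, Fin.sum_univ_two] <;>
      first | ring1 | linear_combination h | linear_combination -h
  have gen : ∀ (Pm : Matrix Ixs (Fin 2) F) (Q : Matrix (Fin 2) Ixs F) (Jm : Matrix Ixs Ixs F)
      (B C : Matrix (Fin 2) (Fin 2) F), Jm * Pm = Pm * j → Q * Jm = j * Q → Q * Pm = 1 →
      (1 + Pm * B * Q) * Jm * (1 + Pm * C * Q) = Jm + Pm * (B * j + j * C + B * j * C) * Q := by
    intro Pm Q Jm B C h1 h2 h3
    have e1 : Pm * B * Q * Jm = Pm * (B * j) * Q := by simp only [Matrix.mul_assoc, h2]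
    have e2 : Jm * (Pm * C * Q) = Pm * (j * C) * Q := by
      simp only [← Matrix.mul_assoc, h1]
    have e3 : Pm * (B * j) * Q * (Pm * C * Q) = Pm * (B * j * C) * Q := by
      rw [show Pm * (B * j) * Q * (Pm * C * Q) = Pm * (B * j) * (Q * Pm) * C * Q by simp only [Matrix.mul_assoc],
        h3, Matrix.mul_one, Matrix.mul_assoc Pm]
    rw [Matrix.add_mul, Matrix.one_mul, e1, Matrix.add_mul, Matrix.mul_add, Matrix.mul_add, Matrix.mul_one,
      Matrix.mul_one, e2, e3]
    simp only [Matrix.mul_add, Matrix.add_mul]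
    abel
  show embMat (spK r) A.1 ∈ _
  rw [SymplecticGroup.mem_iff', embMat, Matrix.transpose_add, Matrix.transpose_one, Matrix.transpose_mul,
    Matrix.transpose_mul, Matrix.transpose_transpose, ← Matrix.mul_assoc (incl (F := F) (spK r)),
    gen _ _ _ _ _ hJP hPJ (incl_tr_mul _ (spK_inj r))]
  rw [show (A.1 - 1)ᵀ * j + j * (A.1 - 1) + (A.1 - 1)ᵀ * j * (A.1 - 1) = A.1ᵀ * j * A.1 - j by
    rw [Matrix.transpose_sub, Matrix.transpose_one]
    noncomm_ring, hjA, sub_self, Matrix.mul_zero, Matrix.zero_mul, add_zero]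

/-- `SL(2)` at the last pair. -/
def spρ : Matrix.SpecialLinearGroup (Fin 2) F →* Sp where
  toFun A := ⟨(emb (spK r) (spK_inj r) A).1, spK_mem F r A⟩
  map_one' := Subtype.ext (congrArg (fun g : Matrix.SpecialLinearGroup Ixs F => g.1) (map_one (emb (F := F) (spK r) (spK_inj r))))
  map_mul' A B := Subtype.ext (congrArg (fun g : Matrix.SpecialLinearGroup Ixs F => g.1) (map_mul (emb (F := F) (spK r) (spK_inj r)) A B))

theorem spρ_val (A : Matrix.SpecialLinearGroup (Fin 2) F) :
    ((spE F r (spρ F r A) : GL Ixs F) : Matrix Ixs Ixs F) = (emb (spK r) (spK_inj r) A).1 := rfl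

/-- Upper block unipotent elements. -/
def symU (S : Matrix (Fin (r + 1)) (Fin (r + 1)) F) (hS : Sᵀ = S) : Sp :=
  ⟨fromBlocks 1 S 0 1, by
    rw [SymplecticGroup.mem_iff', Matrix.J, fromBlocks_transpose, fromBlocks_multiply, fromBlocks_multiply]
    simp [hS]⟩

/-- Lower block unipotent elements. -/
def symL (S : Matrix (Fin (r + 1)) (Fin (r + 1)) F) (hS : Sᵀ = S) : Sp :=
  ⟨fromBlocks 1 0 S 1, by
    rw [SymplecticGroup.mem_iff', Matrix.J, fromBlocks_transpose, fromBlocks_multiply, fromBlocks_multiply]
    simp [hS]⟩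

theorem single_sym (i : Fin (r + 1)) (t : F) :
    (Matrix.single i i t : Matrix (Fin (r + 1)) (Fin (r + 1)) F)ᵀ = Matrix.single i i t := Matrix.transpose_single _ _ _

theorem sp_gen (H : Subgroup Sp) (h1 : ∀ A, spψ F r A ∈ H) (h2 : ∀ A, spρ F r A ∈ H) : H = ⊤ := by
  have hl : ∀ t, symU F r (Matrix.single (Fin.last r) (Fin.last r) t) (single_sym F r _ t) ∈ H ∧
      symL F r (Matrix.single (Fin.last r) (Fin.last r) t) (single_sym F r _ t) ∈ H := by
    intro t
    constructor
    · convert h2 (uX t) using 1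
      apply Subtype.ext
      show fromBlocks 1 _ 0 1 = embMat (spK r) (uX t).1
      ext (x | x) (y | y) <;> rw [embMat_apply] <;>
        simp [spK, uX, Fin.sum_univ_two, Matrix.one_apply, Matrix.single_apply, eq_comm, and_comm]
    · convert h2 (uY t) using 1
      apply Subtype.ext
      show fromBlocks 1 0 _ 1 = embMat (spK r) (uY t).1
      ext (x | x) (y | y) <;> rw [embMat_apply] <;>
        simp [spK, uY, Fin.sum_univ_two, Matrix.one_apply, Matrix.single_apply, eq_comm, and_comm]
  have conjU : ∀ (A : Matrix.SpecialLinearGroup (Fin (r + 1)) F) S (hS : Sᵀ = S) (S' : Matrix _ _ F) (hS' : S'ᵀ = S'),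
      A.1 * S * A.1ᵀ = S' → symU F r S hS ∈ H → symU F r S' hS' ∈ H := by
    intro A S hS S' hS' e hm
    have := mul_mem (mul_mem (h1 A) hm) (h1 A⁻¹)
    convert this using 1
    apply Subtype.ext
    show fromBlocks 1 S' 0 1 = fromBlocks A.1 0 0 (A⁻¹).1ᵀ * fromBlocks 1 S 0 1 * fromBlocks (A⁻¹).1 0 0 ((A⁻¹)⁻¹).1ᵀ
    rw [fromBlocks_multiply, fromBlocks_multiply, inv_inv, ← e]
    simp [Matrix.mul_adjugate, Matrix.adjugate_mul, ← Matrix.transpose_mul]
  have conjL : ∀ (A : Matrix.SpecialLinearGroup (Fin (r + 1)) F) S (hS : Sᵀ = S) (S' : Matrix _ _ F) (hS' : S'ᵀ = S'),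
      A.1ᵀ * S * A.1 = S' → symL F r S hS ∈ H → symL F r S' hS' ∈ H := by
    intro A S hS S' hS' e hm
    have := mul_mem (mul_mem (h1 A⁻¹) hm) (h1 A)
    convert this using 1
    apply Subtype.ext
    show fromBlocks 1 0 S' 1 = fromBlocks (A⁻¹).1 0 0 ((A⁻¹)⁻¹).1ᵀ * fromBlocks 1 0 S 1 * fromBlocks A.1 0 0 (A⁻¹).1ᵀ
    rw [fromBlocks_multiply, fromBlocks_multiply, inv_inv, ← e]
    simp [Matrix.mul_adjugate, Matrix.adjugate_mul, ← Matrix.transpose_mul, Matrix.mul_assoc]
  have addU : ∀ S hS S' hS' (h : (S + S')ᵀ = S + S'), symU F r S hS ∈ H → symU F r S' hS' ∈ H →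
      symU F r (S + S') h ∈ H := by
    intro S hS S' hS' h a b
    convert mul_mem a b using 1
    apply Subtype.ext
    show fromBlocks 1 _ 0 1 = fromBlocks 1 S 0 1 * fromBlocks 1 S' 0 1
    rw [fromBlocks_multiply]; simp [add_comm]
  have addL : ∀ S hS S' hS' (h : (S + S')ᵀ = S + S'), symL F r S hS ∈ H → symL F r S' hS' ∈ H →
      symL F r (S + S') h ∈ H := by
    intro S hS S' hS' h a b
    convert mul_mem a b using 1
    apply Subtype.ext
    show fromBlocks 1 0 _ 1 = fromBlocks 1 0 S 1 * fromBlocks 1 0 S' 1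
    rw [fromBlocks_multiply]; simp [add_comm]
  have diagU : ∀ i t, symU F r (Matrix.single i i t) (single_sym F r i t) ∈ H := by
    intro i t
    rcases eq_or_ne i (Fin.last r) with rfl | hi
    · exact (hl t).1
    refine conjU (swapW F r hi) _ _ _ _ ?_ (hl t).1
    ext a b
    rw [Matrix.mul_assoc, Matrix.mul_apply, Finset.sum_eq_single (Fin.last r) (fun z _ hz => ?_) (by simp),
      Matrix.mul_apply, Finset.sum_eq_single (Fin.last r) (fun z _ hz => ?_) (by simp), Matrix.transpose_apply,
      swapW_apply, swapW_apply, Equiv.swap_apply_right, if_neg hi.symm, Matrix.single_apply, Matrix.single_apply]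
    · by_cases ha : a = i <;> by_cases hb : b = i <;> simp [ha, hb, eq_comm, Ne.symm]
    · simp [Matrix.single_apply, Ne.symm hz]
    · simp [Matrix.mul_apply, Matrix.single_apply, Ne.symm hz]
  have diagL : ∀ i t, symL F r (Matrix.single i i t) (single_sym F r i t) ∈ H := by
    intro i t
    rcases eq_or_ne i (Fin.last r) with rfl | hi
    · exact (hl t).2
    refine conjL (swapW F r hi.symm) _ _ _ _ ?_ (hl t).2
    have hrow : ∀ a, (swapW F r hi.symm).1 (Fin.last r) a = if a = i then 1 else 0 := by
      intro a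
      rw [swapW_apply]
      by_cases ha : a = i
      · subst ha; rw [if_pos (Equiv.swap_apply_right _ _).symm, if_neg hi, if_pos rfl]
      · rw [if_neg ha, if_neg fun e => ha ((Equiv.swap _ _).injective (e.symm.trans (Equiv.swap_apply_right _ _).symm))]
    ext a b
    rw [Matrix.mul_assoc, Matrix.mul_apply, Finset.sum_eq_single (Fin.last r) (fun z _ hz => ?_) (by simp),
      Matrix.mul_apply, Finset.sum_eq_single (Fin.last r) (fun z _ hz => ?_) (by simp), Matrix.transpose_apply,
      hrow, hrow, Matrix.single_apply, Matrix.single_apply]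
    · by_cases ha : a = i <;> by_cases hb : b = i <;> simp [ha, hb, Ne.symm]
    · simp [Matrix.single_apply, Ne.symm hz]
    · simp [Matrix.mul_apply, Matrix.single_apply, Ne.symm hz]
  have symP : ∀ i j (t : F), i ≠ j →
      (Matrix.single i j t + Matrix.single j i t : Matrix (Fin (r + 1)) (Fin (r + 1)) F)ᵀ =
        Matrix.single i j t + Matrix.single j i t := fun i j t _ => by
    rw [Matrix.transpose_add, Matrix.transpose_single, Matrix.transpose_single]; exact add_comm _ _
  have offU : ∀ i j t (h : i ≠ j), symU F r (Matrix.single i j t + Matrix.single j i t) (symP i j t h) ∈ H := by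
    intro i j t h
    have hS : (Matrix.single i i t + Matrix.single i j t + Matrix.single j i t + Matrix.single j j t :
        Matrix (Fin (r + 1)) (Fin (r + 1)) F)ᵀ =
        Matrix.single i i t + Matrix.single i j t + Matrix.single j i t + Matrix.single j j t := by
      simp only [Matrix.transpose_add, Matrix.transpose_single]; abel
    have h4 := conjU (x F r h 1) _ (single_sym F r j t) _ hS (by
      rw [x_coe, Matrix.transvection]
      simp [Matrix.transpose_single, Matrix.mul_add, Matrix.add_mul, Matrix.single_mul_single_same]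
      abel) (diagU j t)
    have hS2 : (Matrix.single i i (-t) + Matrix.single j j (-t) : Matrix (Fin (r + 1)) (Fin (r + 1)) F)ᵀ =
        Matrix.single i i (-t) + Matrix.single j j (-t) := by
      simp only [Matrix.transpose_add, Matrix.transpose_single]
    have h5 := addU _ _ _ hS2 (by rw [Matrix.transpose_add, hS, hS2]) h4
      (addU _ _ _ _ hS2 (diagU i (-t)) (diagU j (-t)))
    convert h5 using 2
    ext a b
    simp only [Matrix.add_apply, Matrix.single_apply]
    split_ifs <;> ring
  have offL : ∀ i j t (h : i ≠ j), symL F r (Matrix.single i j t + Matrix.single j i t) (symP i j t h) ∈ H := by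
    intro i j t h
    have hS : (Matrix.single i i t + Matrix.single i j t + Matrix.single j i t + Matrix.single j j t :
        Matrix (Fin (r + 1)) (Fin (r + 1)) F)ᵀ =
        Matrix.single i i t + Matrix.single i j t + Matrix.single j i t + Matrix.single j j t := by
      simp only [Matrix.transpose_add, Matrix.transpose_single]; abel
    have h4 := conjL (x F r h.symm 1) _ (single_sym F r j t) _ hS (by
      rw [x_coe, Matrix.transvection]
      simp [Matrix.transpose_single, Matrix.mul_add, Matrix.add_mul, Matrix.single_mul_single_same]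
      abel) (diagL j t)
    have hS2 : (Matrix.single i i (-t) + Matrix.single j j (-t) : Matrix (Fin (r + 1)) (Fin (r + 1)) F)ᵀ =
        Matrix.single i i (-t) + Matrix.single j j (-t) := by
      simp only [Matrix.transpose_add, Matrix.transpose_single]
    have h5 := addL _ _ _ hS2 (by rw [Matrix.transpose_add, hS, hS2]) h4
      (addL _ _ _ _ hS2 (diagL i (-t)) (diagL j (-t)))
    convert h5 using 2
    ext a b
    simp only [Matrix.add_apply, Matrix.single_apply]
    split_ifs <;> ring
  refine eq_top_of_rootX_mem fun a b h t => ?_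
  rcases a with i | i <;> rcases b with j | j
  · have hij : i ≠ j := fun e => h (by rw [e])
    convert h1 (x F r hij t) using 1
    apply Subtype.ext
    show 1 + rootMat _ _ t = fromBlocks (x F r hij t).1 0 0 ((x F r hij t)⁻¹).1ᵀ
    rw [x, Matrix.SpecialLinearGroup.transvection_inv]
    ext (a | a) (b | b) <;>
      simp [rootMat, SpRoot.cf, Matrix.SpecialLinearGroup.transvection, Matrix.transvection, Matrix.one_apply,
        Matrix.single_apply, eq_comm, and_comm] <;> (try split_ifs) <;> simp_all
  · rcases eq_or_ne i j with rfl | hij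
    · convert diagU i t using 1
      apply Subtype.ext
      show 1 + rootMat _ _ t = fromBlocks 1 _ 0 1
      ext (a | a) (b | b) <;> simp [rootMat, SpRoot.cf, Matrix.one_apply, Matrix.single_apply, eq_comm, and_comm] <;>
        (intro a1 a2 a3; exact absurd a2 (a3 a1))
    · convert offU i j t hij using 1
      apply Subtype.ext
      show 1 + rootMat _ _ t = fromBlocks 1 _ 0 1
      ext (a | a) (b | b) <;> simp [rootMat, SpRoot.cf, Matrix.one_apply, Matrix.single_apply, eq_comm, and_comm] <;>
        (try split_ifs) <;> simp_all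
  · rcases eq_or_ne i j with rfl | hij
    · convert diagL i t using 1
      apply Subtype.ext
      show 1 + rootMat _ _ t = fromBlocks 1 0 _ 1
      ext (a | a) (b | b) <;> simp [rootMat, SpRoot.cf, Matrix.one_apply, Matrix.single_apply, eq_comm, and_comm] <;>
        (intro a1 a2 a3; exact absurd a2 (a3 a1))
    · convert offL i j t hij using 1
      apply Subtype.ext
      show 1 + rootMat _ _ t = fromBlocks 1 0 _ 1
      ext (a | a) (b | b) <;> simp [rootMat, SpRoot.cf, Matrix.one_apply, Matrix.single_apply, eq_comm, and_comm] <;>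
        (try split_ifs) <;> simp_all
  · have hij : j ≠ i := fun e => h (by rw [e])
    convert h1 (x F r hij (-t)) using 1
    apply Subtype.ext
    show 1 + rootMat _ _ t = fromBlocks (x F r hij (-t)).1 0 0 ((x F r hij (-t))⁻¹).1ᵀ
    rw [x, Matrix.SpecialLinearGroup.transvection_inv]
    ext (a | a) (b | b) <;>
      simp [rootMat, SpRoot.cf, Matrix.SpecialLinearGroup.transvection, Matrix.transvection, Matrix.one_apply,
        Matrix.single_apply, eq_comm, and_comm] <;> (try split_ifs) <;> simp_all

theorem sp_core (hF : 9 ≤ Fintype.card F) (N : Subgroup Sp) (hN : N.Normal) {l : Ixs → ℤ}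
    (hl : N ≤ low (spE F r) l) : N = ⊥ := by
  obtain ⟨b, hb, hb1, hb2⟩ := exists_base hF
  have hs : IsSimpleGroup (Sp ⧸ Subgroup.center Sp) := Linear.isSimpleGroup_PSp (by omega) (Or.inl
    ⟨(b : F), b.ne_zero, fun h => by rcases sq_eq_one_iff.1 h with e | e; exacts [hb1 e, hb2 e]⟩)
  have hk : spK r 0 = Sum.inl (Fin.last r) := rfl
  refine core_of_simple (spE F r) (spFrame F r).inj hs (fun z hz => center_Sp.1 hz)
    (g₀ := spρ F r (uD b)) (x₀ := spK r 0) ?_ ?_ N hN hl
  · rw [spρ_val, emb_in]; exact hb1
  · rw [spρ_val, emb_in]; exact hb2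

theorem spPos_ne (x : Ixs) : spPos r x ≠ 0 := by
  rcases x with i | i <;> simp only [spPos, Sum.elim_inl, Sum.elim_inr] <;> omega

theorem spPos_one (x : Ixs) : (spPos r x = 1 ↔ x = spK r 1) ∧ (spPos r x = -1 ↔ x = spK r 0) := by
  rcases x with i | i <;> simp only [spPos, Sum.elim_inl, Sum.elim_inr, spK, Matrix.cons_val_zero,
    Matrix.cons_val_one, Fin.ext_iff, Sum.inl.injEq, Sum.inr.injEq, reduceCtorEq, iff_false, Fin.val_last] <;> omega

/-- The labels of the last node. -/
def spBlk (x : Ixs) : ℤ := if spPos r x = 1 then -1 else spPos r x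

/-- The last node. -/
noncomputable def spLast (hr : 1 ≤ r) (hF : 9 ≤ Fintype.card F) : LastNode (spFrame F r) where
  ρl := spρ F r
  bl := Sum.inr (Fin.last r)
  pl := ⟨r - 1, by omega⟩
  sul := 1
  svl := 1
  blkl := spBlk r
  dial x := (if spPos r x = -1 then 1 else 0) - if spPos r x = 1 then 1 else 0
  bl_e i := by simp [spFrame]
  bl_pos := by simp only [spFrame, spPos, Sum.elim_inl, Sum.elim_inr, Fin.val_last]; omega
  dial_σ x := by
    rcases x with i | i <;> simp only [spFrame, spPos, Sum.swap_inl, Sum.swap_inr, Sum.elim_inl, Sum.elim_inr] <;>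
      split_ifs <;> omega
  ρl_D w := by
    show (spE F r (spρ F r (uD w))).1 = _
    ext x y
    rw [spρ_val, diagonal_apply]
    show embMat _ (uD w).1 x y = _
    rw [embMat_apply, Matrix.one_apply]
    rcases eq_or_ne x (spK r 0) with rfl | h0
    · rw [if_pos ((spPos_one r _).2.2 rfl), if_neg fun e => spK_inj r |>.ne (show (0 : Fin 2) ≠ 1 by decide)
        ((spPos_one r _).1.1 e)]
      rcases eq_or_ne (spK r 0) y with rfl | hy
      · simp [uD, Fin.sum_univ_two, (spK_inj r).ne (show (0 : Fin 2) ≠ 1 by decide)]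
      · simp [uD, Fin.sum_univ_two, (spK_inj r).ne (show (0 : Fin 2) ≠ 1 by decide), hy, Ne.symm hy]
    rcases eq_or_ne x (spK r 1) with rfl | h1
    · rw [if_neg fun e => h0 ((spPos_one r _).2.1 e), if_pos ((spPos_one r _).1.2 rfl)]
      rcases eq_or_ne (spK r 1) y with rfl | hy
      · simp [uD, Fin.sum_univ_two, h0]
      · simp [uD, Fin.sum_univ_two, h0, hy, Ne.symm hy]
    rw [if_neg fun e => h0 ((spPos_one r _).2.1 e), if_neg fun e => h1 ((spPos_one r _).1.1 e)]
    simp [Fin.sum_univ_two, h0, h1]
  scaleX d hd t x y := by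
    show _ * (spE F r (spρ F r _)).1 x y = (spE F r (spρ F r _)).1 x y * _
    rw [spρ_val, spρ_val]
    refine emb_scale _ _ d _ _ (fun a b => ?_) x y
    fin_cases a <;> fin_cases b <;> simp [uX, spK, spFrame, Units.val_div_eq_div_val] <;> field_simp
  scaleY d hd t x y := by
    show _ * (spE F r (spρ F r _)).1 x y = (spE F r (spρ F r _)).1 x y * _
    rw [spρ_val, spρ_val]
    refine emb_scale _ _ d _ _ (fun a b => ?_) x y
    fin_cases a <;> fin_cases b <;> simp [uY, spK, spFrame, Units.val_div_eq_div_val, Units.val_inv_eq_inv_val] <;>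
      field_simp
  ρl_blk A x y h := by
    show (spE F r (spρ F r A)).1 x y = 0
    have hxy : x ≠ y := fun e => h (by rw [e])
    have key : ∀ a, spBlk r (spK r a) = -1 := fun a => by
      fin_cases a
      · show spBlk r (spK r 0) = -1
        rw [spBlk, (spPos_one r _).2.2 rfl]; norm_num
      · show spBlk r (spK r 1) = -1
        rw [spBlk, if_pos ((spPos_one r _).1.2 rfl)]
    rw [spρ_val, emb_out _ _ _ (by
      by_contra hc; push Not at hc; obtain ⟨⟨a, ha⟩, b, hb⟩ := hc; exact h (by rw [ha, hb, key, key])), if_neg hxy]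
  ρl_up t x y h := by
    show (spE F r (spρ F r _)).1 x y = _
    simp only [spFrame] at h
    rw [spρ_val]
    show embMat _ (uX t).1 x y = _
    rw [embMat_apply, Matrix.one_apply]
    have h01 : ¬ (x = spK r 0 ∧ y = spK r 1) := fun e => by
      rw [e.1, e.2, (spPos_one r _).1.2 rfl, (spPos_one r _).2.2 rfl] at h; omega
    simp [uX, Fin.sum_univ_two, h01]
  ρl_low t x y h := by
    show (spE F r (spρ F r _)).1 x y = _
    simp only [spFrame] at h
    rw [spρ_val]
    show embMat _ (uY t).1 x y = _
    rw [embMat_apply, Matrix.one_apply]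
    have h10 : ¬ (x = spK r 1 ∧ y = spK r 0) := fun e => by
      rw [e.1, e.2, (spPos_one r _).1.2 rfl, (spPos_one r _).2.2 rfl] at h; omega
    simp [uY, Fin.sum_univ_two, h10]
  ρl_aab t := by
    show 1 * (spE F r (spρ F r _)).1 (spK r 0) (spK r 1) = t
    rw [spρ_val, emb_in, one_mul]; rfl
  ρl_bba t := by
    show 1 * (spE F r (spρ F r _)).1 (spK r 1) (spK r 0) = t
    rw [spρ_val, emb_in, one_mul]; rfl
  blkl_e i := by
    have := i.isLt
    simp only [spBlk, spFrame, spPos, Sum.elim_inl, Fin.val_castSucc, Fin.val_succ]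
    push_cast
    split_ifs <;> omega
  gapV g _ h _ l h1 h2 := by
    have := spPos_ne r l
    simp only [spFrame, spPos, Sum.elim_inl, Sum.elim_inr, Fin.val_last] at h1 h2 this
    omega
  gapU g _ h _ l h1 h2 := by
    have := spPos_ne r l
    simp only [spFrame, spPos, Sum.elim_inl, Sum.elim_inr, Fin.val_last] at h1 h2 this
    omega
  kerV v hv h := (spFrame F r).low_refine (fun x y hxy => by
    have := spPos_ne r x; have := spPos_ne r y
    simp only [spFrame, spBlk] at hxy ⊢; split_ifs <;> omega) hv fun x y hlt hc => by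
      have := spPos_ne r x; have := spPos_ne r y
      simp only [spFrame, spBlk] at hlt hc
      have e : spPos r x = 1 ∧ spPos r y = -1 := by split_ifs at hc <;> omega
      rw [(spPos_one r x).1.1 e.1, (spPos_one r y).2.1 e.2]
      exact h
  kerU v hv h := (spFrame F r).low_refine (fun x y hxy => by
    have := spPos_ne r x; have := spPos_ne r y
    simp only [spFrame, spBlk] at hxy ⊢; split_ifs <;> omega) hv fun x y hlt hc => by
      have := spPos_ne r x; have := spPos_ne r y
      simp only [spFrame, spBlk] at hlt hc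
      have e : spPos r x = -1 ∧ spPos r y = 1 := by split_ifs at hc <;> omega
      rw [(spPos_one r x).2.1 e.1, (spPos_one r y).1.1 e.2]
      exact h
  blkV v hv := ⟨(spFrame F r).low_coarse (fun x y hxy => by
    have := spPos_ne r x; have := spPos_ne r y
    simp only [spFrame, spBlk] at hxy ⊢; split_ifs <;> omega) hv,
    low_zero _ hv (le_of_eq (by simp [spBlk, spFrame, spPos])) (by simp [spFrame])⟩
  blkU v hv := ⟨(spFrame F r).low_coarse (fun x y hxy => by
    have := spPos_ne r x; have := spPos_ne r y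
    simp only [spFrame, spBlk] at hxy ⊢; split_ifs <;> omega) hv,
    low_zero _ hv (le_of_eq (by simp [spBlk, spFrame, spPos])) (by simp [spFrame])⟩
  klr i := by
    have hi := i.isLt
    simp only [spFrame, spPos, Sum.elim_inl, Sum.elim_inr, rootDia, av, ne_eq, Fin.ext_iff, Fin.val_last,
      Fin.val_castSucc, Fin.val_succ]
    push_cast
    constructor <;> intro hpl <;>
    · refine ⟨?_, ?_⟩ <;> (try constructor) <;> split_ifs <;> omega
  loc₁ j hj s v _ _ := by
    have hjr : j.val + 1 < r := by
      have := j.isLt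
      have : j.val ≠ r - 1 := fun e => hj (Fin.ext e)
      omega
    refine (spFrame F r).loc_of (fun z => ?_) (fun z => ?_)
    · show (spE F r (spρ F r _)).1 _ z = _
      rw [spρ_val]
      exact emb_out _ _ _ (Or.inl fun a => by
        fin_cases a <;> simp [spK, spFrame, Fin.ext_iff, Fin.val_succ] <;> omega)
    · show (spE F r (spρ F r _)).1 z _ = _
      rw [spρ_val]
      exact emb_out _ _ _ (Or.inr fun a => by
        fin_cases a <;> simp [spK, spFrame, Fin.ext_iff, Fin.val_castSucc] <;> omega)
  loc₂ i hi s v _ _ := by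
    have hir : i.val + 1 < r := by
      have := i.isLt
      have : i.val ≠ r - 1 := fun e => hi (Fin.ext e)
      omega
    refine (spFrame F r).loc_of (fun z => (spFrame F r).ψ_δ _ _ _ (fun p q e _ => ?_) fun p q e _ => ?_)
      (fun z => (spFrame F r).ψ_δ _ _ _ (fun p q _ e => ?_) fun p q _ e => ?_)
    · simp [spFrame] at e
    · rw [← map_inv]
      refine emb_out _ _ _ (Or.inr fun b => ?_)
      simp only [spFrame, Sum.swap_inl, Sum.inr.injEq] at e
      rw [← e]
      fin_cases b <;> simp [kk, Fin.ext_iff] <;> omega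
    · refine emb_out _ _ _ (Or.inr fun b => ?_)
      simp only [spFrame, Sum.inl.injEq] at e
      rw [← e]
      fin_cases b <;> simp [kk, Fin.ext_iff] <;> omega
    · simp [spFrame] at e
  gen := sp_gen F r
  core N hN h := h.elim (fun h => sp_core F r hF N hN h) fun h => sp_core F r hF N hN h

/-- The label of the Levi subgroup. -/
def spLab (x : Ixs) : ℤ := Sum.elim (fun _ => -1) (fun _ => 1) x

/-- The symplectic groups square a class. -/
theorem psp_square (m : ℕ) (hF : 9 ≤ Fintype.card F) : ClassSquare (Cfsg.PSp (m + 2) F) := by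
  obtain ⟨b, hb, hb1, hb2⟩ := exists_base hF
  set L := spLast F (m + 1) (by omega) hF with hL
  have hp : ∀ x, (spLab (m + 1) x = -1 ↔ ∃ i, x = Sum.inl i) ∧ -4 < spLab (m + 1) x ∧ spLab (m + 1) x < 4 := by
    rintro (i | i) <;> simp [spLab]
  let J : Matrix.symplecticGroup (Fin (m + 2)) F := ⟨Matrix.J (Fin (m + 2)) F, SymplecticGroup.J_mem _ _⟩
  let W : FrameLevi L m :=
    { off := 0
      off_le := by omega
      L₀ := -1
      L₀_ne := by norm_num
      lab := spLab (m + 1)
      lab_σ := by rintro (i | i) <;> simp [spLab, spFrame]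
      lab_mono := by
        rintro (i | i) (j | j) h <;> simp [spLab, spFrame, spPos] at h ⊢
        omega
      lab_win := fun x => by
        rw [(hp x).1]
        exact ⟨fun ⟨i, e⟩ => ⟨i, e, Nat.zero_le _, by have := i.isLt; omega⟩, fun ⟨i, e, _⟩ => ⟨i, e⟩⟩
      mid := fun l _ g _ x y _ _ h1 h2 => by cases x <;> simp [spLab] at h1 h2
      base := b
      base_inj := fun x y h => hb _ _ h (hp x).2.1 (hp x).2.2 (hp y).2.1 (hp y).2.2
      f := fun i => b ^ (-((i.val : ℤ) + 1))
      dval_f := fun x => by
        have key : ∀ p : Fin (m + 1 + 1), L.dval (fun i => b ^ (-((i.val : ℤ) + 1))) (Sum.inl p) = b ^ (-1 : ℤ) := by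
          intro p
          have hp := p.isLt
          rw [L.dval_base b (fun i => -((i : ℤ) + 1))]
          congr 1
          show (∑ i : Fin (m + 1), _ * rootDia (av (m + 1) i) ((p.val : ℤ) - ((m + 1 : ℕ) + 1))) + _ = _
          rw [sum_rootDia (fun i => -((i : ℤ) + 1))]
          simp only [hL, spLast, spPos, Sum.elim_inl]
          push_cast
          split_ifs <;> omega
        rcases x with i | i
        · exact key i
        · show L.dval _ ((spFrame F (m + 1)).σ (Sum.inl i)) = _
          rw [L.dval_σ, key]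
          simp [spLab]
      jdet := Fin.last (m + 1)
      jdet_sum := Or.inl (by
        rw [Finset.sum_eq_single (⟨m + 1, by omega⟩ : Fin (m + 2)) (fun p _ hp => ?_) (by simp)]
        · simp [LastNode.dia, hL, spLast, spFrame, spPos]
        · have : p.val ≠ m + 1 := fun e => hp (Fin.ext e)
          have := p.isLt
          simp only [LastNode.dia, Fin.lastCases_last, hL, spLast, spFrame, spPos, Sum.elim_inl]
          push_cast
          split_ifs <;> omega)
      w := J
      π := Sum.swap
      π_π := Sum.swap_swap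
      cw := Sum.elim (fun _ => -1) fun _ => 1
      w_E := fun x y => by
        show Matrix.J (Fin (m + 2)) F x y = _
        rw [J_eq]
        rcases x with i | i <;> simp [SpRoot.cf]
      π_lab := by rintro (i | i) <;> simp [spLab]
      π_σ := fun x _ => rfl
      eps := -1
      cw_σ := by rintro (i | i) _ <;> simp [spFrame] }
  exact W.toLevi.square (QuotientGroup.mk' _) (QuotientGroup.mk'_surjective _)
    (fun z hz => (QuotientGroup.eq_one_iff z).2 hz) hF

end Cfsg.Agent.GaussPre
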