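import Cfsg.Agent.Lib.GaussPre.FrameLevi
import Mathlib.RingTheory.IntegralDomain
import Mathlib.GroupTheory.Subgroup.Simple

/-!
# Tools for the frames of the classical groups

* `core_of_simple` : no normal subgroup consists of unitriangular matrices;
* `exists_base` : a unit with no small relation;
* `rootDia_e`, `sum_rootDia` : torus elements in coroot coordinates;
* `emb_scale` : a copy of `SL(2)` at two coordinates under diagonal conjugation.
-/

set_option autoImplicit false
set_option linter.unusedSectionVars false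

namespace Cfsg.Agent.GaussPre

open Matrix

variable {F : Type*} [Field F]

/-- No nontrivial normal subgroup is unitriangular, when the central quotient is simple. -/
theorem core_of_simple {G : Type*} [Group G] [Finite G] {I : Type*} [Fintype I] [DecidableEq I] (E : G →* GL I F)
    (hE : Function.Injective E) (hs : IsSimpleGroup (G ⧸ Subgroup.center G))
    (hc : ∀ z ∈ Subgroup.center G, (E z).1 = 1 ∨ (E z).1 = -1) {g₀ : G} {x₀ : I}
    (h1 : (E g₀).1 x₀ x₀ ≠ 1) (h2 : (E g₀).1 x₀ x₀ ≠ -1)
    (N : Subgroup G) (hN : N.Normal) {l : I → ℤ} (hl : N ≤ low E l) : N = ⊥ := by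
  have hd : ∀ n ∈ N, ∀ x, (E n).1 x x = 1 := fun n hn x => low_diag E (hl hn) x
  rcases (hN.map (QuotientGroup.mk' (Subgroup.center G)) (QuotientGroup.mk'_surjective _)).eq_bot_or_eq_top with h | h
  · rw [Subgroup.map_eq_bot_iff, QuotientGroup.ker_mk'] at h
    rw [eq_bot_iff]
    intro n hn
    rw [Subgroup.mem_bot]
    refine hE ?_
    rw [map_one]
    refine Units.ext ?_
    rcases hc n (h hn) with e | e
    · exact e
    · have := hd n hn x₀
      rw [e, Matrix.neg_apply, Matrix.one_apply_eq] at this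
      rw [e]
      ext a b
      rw [Matrix.neg_apply, Units.val_one]
      rcases eq_or_ne a b with rfl | hab
      · rw [Matrix.one_apply_eq, this]
      · rw [Matrix.one_apply_ne hab, neg_zero]
  · exfalso
    have hg : (QuotientGroup.mk' _ g₀ : G ⧸ Subgroup.center G) ∈ N.map (QuotientGroup.mk' _) := by
      rw [h]; trivial
    obtain ⟨n, hn, e⟩ := hg
    obtain ⟨z, hz, e'⟩ := (QuotientGroup.mk'_eq_mk' _).1 e
    have e2 : (E g₀).1 x₀ x₀ = ((E n).1 * (E z).1) x₀ x₀ := by rw [← Units.val_mul, ← map_mul, e']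
    rcases hc z hz with e | e <;> rw [e] at e2
    · rw [Matrix.mul_one] at e2; exact h1 (e2.trans (hd n hn x₀))
    · rw [Matrix.mul_neg, Matrix.mul_one, Matrix.neg_apply, hd n hn x₀] at e2; exact h2 e2

/-- A unit without relations of length less than 8. -/
theorem exists_base [Fintype F] (hF : 9 ≤ Fintype.card F) :
    ∃ b : Fˣ, (∀ x y : ℤ, b ^ x = b ^ y → -4 < x → x < 4 → -4 < y → y < 4 → x = y) ∧
      (b : F) ≠ 1 ∧ (b : F) ≠ -1 := by
  obtain ⟨b, hb⟩ := IsCyclic.exists_ofOrder_eq_natCard (α := Fˣ)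
  have h8 : 8 ≤ orderOf b := by
    rw [hb, Nat.card_units, Nat.card_eq_fintype_card]; omega
  have key : ∀ k : ℤ, b ^ k = 1 → -8 < k → k < 8 → k = 0 := by
    intro k hk h1 h2
    have hd : (orderOf b : ℤ) ∣ k := orderOf_dvd_iff_zpow_eq_one.2 hk
    by_contra h0
    have h3 := Int.le_of_dvd (abs_pos.2 h0) ((dvd_abs _ _).2 hd)
    rcases abs_cases k with h | h <;> omega
  refine ⟨b, fun x y h h1 h2 h3 h4 => ?_, fun h => ?_, fun h => ?_⟩
  · have := key (x - y) (by rw [_root_.zpow_sub, h, mul_inv_cancel]) (by omega) (by omega)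
    omega
  · have := key 1 (by rw [_root_.zpow_one]; exact Units.ext h) (by norm_num) (by norm_num)
    omega
  · have := key 2 (Units.ext (by rw [zpow_ofNat, Units.val_pow_eq_pow_val, h]; simp)) (by norm_num) (by norm_num)
    omega

theorem rootDia_e {r : ℕ} (i : Fin r) (p : Fin (r + 1)) :
    rootDia (av r i) ((p.val : ℤ) - (r + 1)) = (if p = i.castSucc then 1 else 0) - if p = i.succ then 1 else 0 := by
  have hp := p.isLt
  simp only [rootDia, av, Fin.ext_iff, Fin.val_castSucc, Fin.val_succ]
  split_ifs <;> omega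

/-- The coroot combination at a first vector. -/
theorem sum_rootDia {r : ℕ} (c : ℕ → ℤ) (p : Fin (r + 1)) :
    ∑ i : Fin r, c i.val * rootDia (av r i) ((p.val : ℤ) - (r + 1)) =
      (if p.val < r then c p.val else 0) - if p.val = 0 then 0 else c (p.val - 1) := by
  simp only [rootDia_e, mul_sub, Finset.sum_sub_distrib, mul_ite, mul_one, mul_zero]
  congr 1
  · by_cases h : p.val < r
    · rw [if_pos h, Finset.sum_eq_single (⟨p.val, h⟩ : Fin r) (fun i _ hi => if_neg fun e => hi ?_) (by simp)]
      · exact if_pos (Fin.ext rfl)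
      · exact Fin.ext (show i.val = p.val from (congrArg Fin.val e).symm)
    · rw [if_neg h]
      refine Finset.sum_eq_zero fun i _ => if_neg fun e => h ?_
      rw [e]; exact i.isLt
  · by_cases h : p.val = 0
    · rw [if_pos h]
      refine Finset.sum_eq_zero fun i _ => if_neg fun e => ?_
      rw [e, Fin.val_succ] at h
      omega
    · have hp := p.isLt
      rw [if_neg h, Finset.sum_eq_single (⟨p.val - 1, by omega⟩ : Fin r) (fun i _ hi => if_neg fun e => hi ?_) (by simp)]
      · rw [if_pos (Fin.ext (by rw [Fin.val_succ]; show p.val = p.val - 1 + 1; omega))]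
      · refine Fin.ext ?_
        show i.val = p.val - 1
        rw [e, Fin.val_succ]; omega

theorem LastNode.dval_base {G : Type*} [Group G] {r : ℕ} {I : Type*} [Fintype I] [DecidableEq I]
    {Φ : Frame F G r I} [Finite G] (L : LastNode Φ) (b : Fˣ) (c : ℕ → ℤ) (x : I) :
    L.dval (fun i => b ^ c i.val) x = b ^ ((∑ i : Fin r, c i.val * rootDia (av r i) (Φ.pos x)) + c r * L.dial x) := by
  show ∏ i, (b ^ c i.val) ^ L.dia i x = _
  rw [Fin.prod_univ_castSucc, _root_.zpow_add]
  congr 1
  · simp only [LastNode.dia, Fin.lastCases_castSucc, Fin.val_castSucc, ← _root_.zpow_mul]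
    induction (Finset.univ : Finset (Fin r)) using Finset.cons_induction with
    | empty => simp
    | cons p s hp ih => rw [Finset.prod_cons, Finset.sum_cons, _root_.zpow_add, ih]
  · simp only [LastNode.dia, Fin.lastCases_last, Fin.val_last, ← _root_.zpow_mul]

theorem emb_scale {I : Type*} [Fintype I] [DecidableEq I] (k : Fin 2 → I) (hk : Function.Injective k)
    (d : I → Fˣ) (A B : Matrix.SpecialLinearGroup (Fin 2) F)
    (h : ∀ a b, (d (k a) : F) * A.1 a b = B.1 a b * (d (k b) : F)) (x y : I) :
    (d x : F) * (emb k hk A).1 x y = (emb k hk B).1 x y * (d y : F) := by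
  by_cases hin : ∃ a b, x = k a ∧ y = k b
  · obtain ⟨a, b, rfl, rfl⟩ := hin
    rw [emb_in, emb_in, h]
  · have ho : (∀ a, x ≠ k a) ∨ ∀ b, y ≠ k b := by
      by_contra hc; push Not at hc; obtain ⟨⟨a, ha⟩, b, hb⟩ := hc; exact hin ⟨a, b, ha, hb⟩
    rw [emb_out _ _ _ ho, emb_out _ _ _ ho]
    by_cases e : x = y
    · subst e; simp
    · simp [e]

end Cfsg.Agent.GaussPre
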