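import Cfsg.Agent.Lib.GaussPre.System
import Mathlib.Algebra.Group.Subgroup.Lattice
import Mathlib.Data.Fintype.Card

/-!
# Gauss systems from root subgroups with a graded commutator rule

* `GSData` : root elements with coordinates of the roots at the fundamental roots;
* `side`, `sideDel`, `coord` : the two unipotent subgroups and their coordinates at the fundamental roots;
* `GSData.toSys` : the resulting `GaussSys`.
-/

set_option autoImplicit false
set_option linter.unusedSectionVars false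

namespace Cfsg.Agent.GaussPre

variable (G : Type*) [Group G] (F : Type*) [Field F] (n : ℕ) (Φ : Type*)

/-- Root elements of a split group of rank `n`, with roots indexed by `Φ`. -/
structure GSData where
  co : Φ → Fin n → ℤ
  el : Bool → Fin n → Φ
  X : Φ → F → G
  tor : (Fin n → Fˣ) →* G
  chi : Φ → (Fin n → Fˣ) →* Fˣ
  k : Fin n → Fin n → ℕ
  par : Fin n → Fin n
  co_el : ∀ b i j, co (el b i) j = if j = i then (if b = true then 1 else -1) else 0
  sign : ∀ r, (∀ i, 0 ≤ co r i) ∨ ∀ i, co r i ≤ 0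
  co_ne : ∀ r, ∃ i, co r i ≠ 0
  line : ∀ r i, (∀ j, j ≠ i → co r j = 0) → r = el true i ∨ r = el false i
  indep : ∀ i j, i ≠ j → k i j = 0 → ∀ r, (∀ l, l ≠ i → l ≠ j → co r l = 0) → co r i = 0 ∨ co r j = 0
  X_add : ∀ r a b, X r (a + b) = X r a * X r b
  X_ne : ∀ b i a, X (el b i) a = 1 → a = 0
  tor_X : ∀ f r a, tor f * X r a = X r ((chi r f : F) * a) * tor f
  comm : ∀ r s, (∃ i, co r i + co s i ≠ 0) → ∀ a b, X r a * X s b * (X r a)⁻¹ * (X s b)⁻¹ ∈
    Subgroup.closure {g : G | ∃ (q : Φ) (t : F), g = X q t ∧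
      ∃ x y : ℕ, 0 < x ∧ 0 < y ∧ ∀ i, co q i = x * co r i + y * co s i}
  chi_neg : ∀ i f, chi (el false i) f = (chi (el true i) f)⁻¹
  chi_other : ∀ i j, i ≠ j → ∀ w : Fˣ, chi (el true j) (Pi.mulSingle i w) = (w⁻¹) ^ k i j
  sl2 : ∀ i a b (w : Fˣ), (w : F) = 1 + a * b → X (el true i) b * X (el false i) a =
    X (el false i) (a / w) * tor (Pi.mulSingle i w) * X (el true i) (b / w)
  uniq : ∀ v ∈ Subgroup.closure {g : G | ∃ q t, g = X q t ∧ ∀ i, co q i ≤ 0}, ∀ f,
    ∀ u ∈ Subgroup.closure {g : G | ∃ q t, g = X q t ∧ ∀ i, 0 ≤ co q i}, v * tor f * u = 1 → v = 1 ∧ u = 1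
  opp : ∃ w : G, ∀ q t, (∀ i, co q i ≤ 0) →
    w * X q t * w⁻¹ ∈ Subgroup.closure {g : G | ∃ q t, g = X q t ∧ ∀ i, 0 ≤ co q i}
  opp' : ∃ w : G, ∀ q t, (∀ i, 0 ≤ co q i) →
    w * X q t * w⁻¹ ∈ Subgroup.closure {g : G | ∃ q t, g = X q t ∧ ∀ i, co q i ≤ 0}
  par_lt : ∀ i : Fin n, i.val ≠ 0 → (par i).val < i.val
  k_adj : ∀ i j, i ≠ j → k i j ≠ 0 → (i.val ≠ 0 ∧ par i = j) ∨ (j.val ≠ 0 ∧ par j = i)
  k_pos : ∀ i : Fin n, i.val ≠ 0 → k i (par i) ≠ 0 ∧ k (par i) i ≠ 0
  k_up : ∀ i : Fin n, i.val ≠ 0 → k i (par i) ≤ 3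
  k_down : ∀ i : Fin n,
    ∑ j ∈ Finset.univ.filter (fun j : Fin n => j.val ≠ 0 ∧ par j = i), k i j ≤ 3
  gen : Subgroup.closure {g : G | ∃ b i t, g = X (el b i) t} = ⊤

variable {G F n Φ} (D : GSData G F n Φ)

namespace GSData

/-- The root elements of a set of roots. -/
def span (A : Set Φ) : Subgroup G := Subgroup.closure {g : G | ∃ q t, g = D.X q t ∧ q ∈ A}

theorem mem_span {A : Set Φ} {q : Φ} (h : q ∈ A) (t : F) : D.X q t ∈ D.span A :=
  Subgroup.subset_closure ⟨q, t, rfl, h⟩

theorem span_mono {A B : Set Φ} (h : A ⊆ B) : D.span A ≤ D.span B :=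
  Subgroup.closure_mono fun _ ⟨q, t, e, hq⟩ => ⟨q, t, e, h hq⟩

theorem X_zero (r : Φ) : D.X r 0 = 1 := by
  have := D.X_add r 0 0; rwa [add_zero, left_eq_mul] at this

theorem X_neg (r : Φ) (a : F) : D.X r (-a) = (D.X r a)⁻¹ :=
  eq_inv_of_mul_eq_one_left (by rw [← D.X_add, neg_add_cancel, D.X_zero])

/-- The combinations of two roots. -/
def comb (r s : Φ) : Set Φ := {q | ∃ x y : ℕ, 0 < x ∧ 0 < y ∧ ∀ i, D.co q i = x * D.co r i + y * D.co s i}

theorem comm_mem {r s : Φ} (h : ∃ i, D.co r i + D.co s i ≠ 0) (a b : F) :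
    D.X r a * D.X s b * (D.X r a)⁻¹ * (D.X s b)⁻¹ ∈ D.span (D.comb r s) := D.comm r s h a b

/-- Conjugation of a root element. -/
theorem conj_mem {A : Set Φ} {r : Φ} (a : F)
    (hA : ∀ s ∈ A, (∃ i, D.co r i + D.co s i ≠ 0) ∧ D.comb r s ⊆ A) {g : G} (hg : g ∈ D.span A) :
    D.X r a * g * (D.X r a)⁻¹ ∈ D.span A := by
  induction hg using Subgroup.closure_induction with
  | mem x hx =>
    obtain ⟨s, t, rfl, hs⟩ := hx
    rw [show D.X r a * D.X s t * (D.X r a)⁻¹ =
      D.X r a * D.X s t * (D.X r a)⁻¹ * (D.X s t)⁻¹ * D.X s t by group]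
    exact mul_mem (D.span_mono (hA s hs).2 (D.comm_mem (hA s hs).1 a t)) (D.mem_span hs t)
  | one => simp
  | mul x y _ _ hx hy =>
    rw [show D.X r a * (x * y) * (D.X r a)⁻¹ = D.X r a * x * (D.X r a)⁻¹ * (D.X r a * y * (D.X r a)⁻¹) by group]
    exact mul_mem hx hy
  | inv x _ hx =>
    rw [show D.X r a * x⁻¹ * (D.X r a)⁻¹ = (D.X r a * x * (D.X r a)⁻¹)⁻¹ by group]
    exact inv_mem hx

/-- Conjugation of a span by a span. -/
theorem span_conj_mem {A B : Set Φ}
    (hA : ∀ r ∈ B, ∀ s ∈ A, (∃ i, D.co r i + D.co s i ≠ 0) ∧ D.comb r s ⊆ A) {b : G} (hb : b ∈ D.span B)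
    {g : G} (hg : g ∈ D.span A) : b * g * b⁻¹ ∈ D.span A ∧ b⁻¹ * g * b ∈ D.span A := by
  induction hb using Subgroup.closure_induction generalizing g with
  | mem x hx =>
    obtain ⟨r, t, rfl, hr⟩ := hx
    refine ⟨D.conj_mem t (hA r hr) hg, ?_⟩
    have h := D.conj_mem (-t) (hA r hr) hg
    rwa [D.X_neg, inv_inv] at h
  | one => simpa using hg
  | mul x y _ _ hx hy =>
    constructor
    · rw [show x * y * g * (x * y)⁻¹ = x * (y * g * y⁻¹) * x⁻¹ by group]
      exact (hx (hy hg).1).1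
    · rw [show (x * y)⁻¹ * g * (x * y) = y⁻¹ * (x⁻¹ * g * x) * y by group]
      exact (hy (hx hg).2).2
  | inv x _ hx => exact ⟨by rw [inv_inv]; exact (hx hg).2, by rw [inv_inv]; exact (hx hg).1⟩

/-- The sign of a side. -/
def sgn (b : Bool) : ℤ := if b then 1 else -1

/-- The roots of one sign. -/
def sideSet (b : Bool) : Set Φ := {q | ∀ i, 0 ≤ sgn b * D.co q i}

/-- The roots of one sign other than a fundamental one. -/
def delSet (b : Bool) (i : Fin n) : Set Φ := {q | q ∈ D.sideSet b ∧ q ≠ D.el b i}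

/-- The unipotent subgroup of one sign. -/
def side (b : Bool) : Subgroup G := D.span (D.sideSet b)

/-- Its radical at a fundamental root. -/
def sideDel (b : Bool) (i : Fin n) : Subgroup G := D.span (D.delSet b i)

theorem sgn_mul_self (b : Bool) : sgn b * sgn b = 1 := by cases b <;> rfl

theorem sgn_not (b : Bool) : sgn (!b) = -sgn b := by cases b <;> rfl

theorem co_el' (b : Bool) (i j : Fin n) : D.co (D.el b i) j = if j = i then sgn b else 0 := by
  rw [D.co_el]; rfl

theorem el_mem_side (b : Bool) (i : Fin n) : D.el b i ∈ D.sideSet b := fun j => by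
  rw [D.co_el']
  split <;> simp [sgn_mul_self]

theorem el_inj {b : Bool} {i j : Fin n} (h : D.el b i = D.el b j) : i = j := by
  have := congrArg (fun q => D.co q i) h
  simp only [D.co_el', if_pos] at this
  by_contra hne
  rw [if_neg hne] at this
  cases b <;> simp [sgn] at this

/-- A root of one sign with a nonzero coordinate away from a node is not the fundamental one. -/
theorem mem_delSet_of {b : Bool} {i l : Fin n} (hl : l ≠ i) {q : Φ} (h : 0 < sgn b * D.co q l) :
    q ∈ D.delSet b i := by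
  refine ⟨fun j => ?_, fun e => ?_⟩
  · rcases D.sign q with hq | hq <;> have h1 := hq j <;> have h2 := hq l <;>
      cases b <;> simp only [sgn, Bool.false_eq_true, ite_false, ite_true] at h ⊢ <;> omega
  · rw [e, D.co_el', if_neg hl, mul_zero] at h
    exact lt_irrefl _ h

theorem del_supp {b : Bool} {i : Fin n} {q : Φ} (hq : q ∈ D.delSet b i) :
    ∃ l, l ≠ i ∧ 0 < sgn b * D.co q l := by
  by_contra hc
  push Not at hc
  have hz : ∀ l, l ≠ i → D.co q l = 0 := fun l hl => by
    have h1 := hc l hl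
    have h2 := hq.1 l
    have : sgn b * D.co q l = 0 := le_antisymm h1 h2
    cases b <;> simpa [sgn] using this
  have hi := hq.1 i
  rcases D.line q i hz with rfl | rfl
  · cases b
    · rw [D.co_el', if_pos rfl] at hi; simp [sgn] at hi
    · exact hq.2 rfl
  · cases b
    · exact hq.2 rfl
    · rw [D.co_el', if_pos rfl] at hi; simp [sgn] at hi

/-- The radical is normalised by both root elements of its node and by its side. -/
theorem del_conj {b : Bool} {i : Fin n} :
    ∀ r ∈ D.sideSet b ∪ {D.el (!b) i}, ∀ s ∈ D.delSet b i,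
      (∃ l, D.co r l + D.co s l ≠ 0) ∧ D.comb r s ⊆ D.delSet b i := by
  intro r hr s hs
  obtain ⟨l, hl, hpos⟩ := D.del_supp hs
  have hr' : 0 ≤ sgn b * D.co r l := by
    rcases hr with hr | hr
    · exact hr l
    · rw [Set.mem_singleton_iff.1 hr, D.co_el', if_neg hl, mul_zero]
  refine ⟨⟨l, fun e => ?_⟩, ?_⟩
  · have h' : sgn b * D.co r l + sgn b * D.co s l = 0 := by rw [← mul_add, e, mul_zero]
    omega
  rintro q ⟨x, y, hx, hy, hq⟩
  refine D.mem_delSet_of hl ?_
  rw [hq l, mul_add, mul_left_comm, mul_left_comm (sgn b)]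
  have hy' : (0 : ℤ) < y := by exact_mod_cast hy
  exact add_pos_of_nonneg_of_pos (mul_nonneg (by positivity) hr') (mul_pos hy' hpos)

theorem sideDel_le (b : Bool) (i : Fin n) : D.sideDel b i ≤ D.side b := D.span_mono fun _ h => h.1

theorem sideDel_conj {b : Bool} {i : Fin n} {x g : G} (hx : x ∈ D.side b) (hg : g ∈ D.sideDel b i) :
    x * g * x⁻¹ ∈ D.sideDel b i ∧ x⁻¹ * g * x ∈ D.sideDel b i :=
  D.span_conj_mem (fun r hr => D.del_conj r (Or.inl hr)) hx hg

theorem sideDel_opp {b : Bool} {i : Fin n} (s : F) {g : G} (hg : g ∈ D.sideDel b i) :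
    D.X (D.el (!b) i) s * g * D.X (D.el (!b) i) (-s) ∈ D.sideDel b i := by
  rw [D.X_neg]
  exact D.conj_mem s (D.del_conj _ (Or.inr rfl)) hg

theorem exists_coord (b : Bool) (i : Fin n) {v : G} (hv : v ∈ D.side b) :
    ∃ a, v * D.X (D.el b i) (-a) ∈ D.sideDel b i := by
  have hel : ∀ a, D.X (D.el b i) a ∈ D.side b := fun a => D.mem_span (D.el_mem_side b i) a
  induction hv using Subgroup.closure_induction with
  | mem x hx =>
    obtain ⟨q, t, rfl, hq⟩ := hx
    by_cases h : q = D.el b i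
    · exact ⟨t, by rw [h, D.X_neg, mul_inv_cancel]; exact one_mem _⟩
    · exact ⟨0, by rw [neg_zero, D.X_zero, mul_one]; exact D.mem_span (A := D.delSet b i) ⟨hq, h⟩ t⟩
  | one => exact ⟨0, by simp [D.X_zero]⟩
  | mul x y _ _ hx hy =>
    obtain ⟨a, ha⟩ := hx
    obtain ⟨c, hc⟩ := hy
    refine ⟨a + c, ?_⟩
    have e : x * y * D.X (D.el b i) (-(a + c)) =
        x * D.X (D.el b i) (-a) * (D.X (D.el b i) a * (y * D.X (D.el b i) (-c)) * (D.X (D.el b i) a)⁻¹) := by
      rw [neg_add_rev, D.X_add, D.X_neg _ a, D.X_neg _ c]; group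
    rw [e]
    exact mul_mem ha (D.sideDel_conj (hel a) hc).1
  | inv x _ hx =>
    obtain ⟨a, ha⟩ := hx
    refine ⟨-a, ?_⟩
    rw [neg_neg]
    have h := (D.sideDel_conj (hel a) (inv_mem ha)).2
    rw [D.X_neg] at h
    rw [show x⁻¹ * D.X (D.el b i) a =
      (D.X (D.el b i) a)⁻¹ * (x * (D.X (D.el b i) a)⁻¹)⁻¹ * D.X (D.el b i) a by group]
    exact h

variable [Fintype F]

theorem exists_param (hF : 4 ≤ Fintype.card F) (a : F) : ∃ t : F, t ≠ 0 ∧ 1 + a * t ≠ 0 ∧ 1 - a * t ≠ 0 := by
  classical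
  obtain ⟨t, -, ht⟩ := Finset.exists_mem_notMem_of_card_lt_card (s := ({0, -a⁻¹, a⁻¹} : Finset F))
    (t := Finset.univ) (lt_of_le_of_lt Finset.card_le_three (by rw [Finset.card_univ]; omega))
  simp only [Finset.mem_insert, Finset.mem_singleton, not_or] at ht
  refine ⟨t, ht.1, fun e => ht.2.1 ?_, fun e => ht.2.2 ?_⟩
  · rw [inv_eq_of_mul_eq_one_right (show a * -t = 1 by linear_combination -e), neg_neg]
  · rw [inv_eq_of_mul_eq_one_right (show a * t = 1 by linear_combination -e)]

theorem el_not_mem_del (hF : 4 ≤ Fintype.card F) (b : Bool) (i : Fin n) {a : F}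
    (h : D.X (D.el b i) a ∈ D.sideDel b i) : a = 0 := by
  obtain ⟨t, ht, h1, h2⟩ := exists_param hF a
  have h' := D.sideDel_le b i (D.sideDel_opp t h)
  have hm : ∀ b c, D.X (D.el b i) c ∈ D.side b := fun b c => D.mem_span (D.el_mem_side b i) c
  have hmV : ∀ g, g ∈ D.side false → g ∈ Subgroup.closure {g : G | ∃ q t, g = D.X q t ∧ ∀ i, D.co q i ≤ 0} :=
    fun g hg => D.span_mono (B := {q | ∀ i, D.co q i ≤ 0}) (fun q hq i => by
      have := hq i; simp only [sgn, Bool.false_eq_true, ite_false] at this; omega) hg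
  have hmU : ∀ g, g ∈ D.side true → g ∈ Subgroup.closure {g : G | ∃ q t, g = D.X q t ∧ ∀ i, 0 ≤ D.co q i} :=
    fun g hg => D.span_mono (B := {q | ∀ i, 0 ≤ D.co q i}) (fun q hq i => by
      have := hq i; simp only [sgn, ite_true, one_mul] at this; exact this) hg
  cases b with
  | false =>
    simp only [Bool.not_false] at h'
    set w : Fˣ := Units.mk0 (1 + a * t) h1 with hw
    set v := D.X (D.el true i) t * D.X (D.el false i) a * D.X (D.el true i) (-t)
    have e : v⁻¹ * D.X (D.el false i) (a / w) * D.tor (Pi.mulSingle i w) *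
        (D.X (D.el true i) (t / w) * D.X (D.el true i) (-t)) = 1 := by
      have e1 := D.sl2 i a t w rfl
      calc _ = v⁻¹ * (D.X (D.el false i) (a / w) * D.tor (Pi.mulSingle i w) * D.X (D.el true i) (t / w)) *
            D.X (D.el true i) (-t) := by group
        _ = v⁻¹ * v := by rw [← e1]; simp only [v]; group
        _ = 1 := inv_mul_cancel v
    have hu := (D.uniq _ (hmV _ (mul_mem (inv_mem h') (hm _ _))) _ _ (hmU _ (mul_mem (hm _ _) (hm _ _))) e).2
    rw [← D.X_add] at hu
    have hz := D.X_ne _ _ _ hu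
    have hw1 : (w : F) = 1 := by
      rw [add_neg_eq_zero, div_eq_iff w.ne_zero] at hz
      exact mul_left_cancel₀ ht (by rw [mul_one]; exact hz.symm)
    rw [hw, Units.val_mk0] at hw1
    exact (mul_eq_zero.1 (by linear_combination hw1 : a * t = 0)).resolve_right ht
  | true =>
    simp only [Bool.not_true] at h'
    set w : Fˣ := Units.mk0 (1 - a * t) h2 with hw
    set u := D.X (D.el false i) t * D.X (D.el true i) a * D.X (D.el false i) (-t)
    have e : (D.X (D.el false i) t * D.X (D.el false i) (-t / w)) * D.tor (Pi.mulSingle i w) *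
        (D.X (D.el true i) (a / w) * u⁻¹) = 1 := by
      have e1 := D.sl2 i (-t) a w (by rw [hw, Units.val_mk0]; ring)
      calc _ = D.X (D.el false i) t *
            (D.X (D.el false i) (-t / w) * D.tor (Pi.mulSingle i w) * D.X (D.el true i) (a / w)) * u⁻¹ := by group
        _ = u * u⁻¹ := by rw [← e1]; simp only [u]; group
        _ = 1 := mul_inv_cancel u
    have hv := (D.uniq _ (hmV _ (mul_mem (hm _ _) (hm _ _))) _ _ (hmU _ (mul_mem (hm _ _) (inv_mem h'))) e).1
    rw [← D.X_add] at hv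
    have hz := D.X_ne _ _ _ hv
    have hw1 : (w : F) = 1 := by
      rw [neg_div, add_neg_eq_zero, eq_div_iff w.ne_zero] at hz
      exact mul_left_cancel₀ ht (by rw [mul_one]; exact hz)
    rw [hw, Units.val_mk0] at hw1
    exact (mul_eq_zero.1 (by linear_combination -hw1 : a * t = 0)).resolve_right ht

open Classical in
/-- The coordinate at a fundamental root. -/
noncomputable def coord (b : Bool) (i : Fin n) (v : G) : F :=
  if h : v ∈ D.side b then (D.exists_coord b i h).choose else 0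

theorem coord_spec (b : Bool) (i : Fin n) {v : G} (hv : v ∈ D.side b) :
    v * D.X (D.el b i) (-(D.coord b i v)) ∈ D.sideDel b i := by
  rw [coord, dif_pos hv]; exact (D.exists_coord b i hv).choose_spec

theorem coord_eq (hF : 4 ≤ Fintype.card F) {b : Bool} {i : Fin n} {v : G} (hv : v ∈ D.side b) {a : F}
    (ha : v * D.X (D.el b i) (-a) ∈ D.sideDel b i) : D.coord b i v = a := by
  have h := mul_mem (inv_mem (D.coord_spec b i hv)) ha
  have e : (v * D.X (D.el b i) (-(D.coord b i v)))⁻¹ * (v * D.X (D.el b i) (-a)) =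
      D.X (D.el b i) (D.coord b i v - a) := by
    rw [D.X_neg _ (D.coord b i v), mul_inv_rev, inv_inv, sub_eq_add_neg, D.X_add]; group
  rw [e] at h
  exact sub_eq_zero.1 (D.el_not_mem_del hF b i h)

theorem coord_zero_of_mem (hF : 4 ≤ Fintype.card F) {b : Bool} {i : Fin n} {v : G} (hv : v ∈ D.sideDel b i) :
    D.coord b i v = 0 :=
  D.coord_eq hF (D.sideDel_le b i hv) (by rwa [neg_zero, D.X_zero, mul_one])

theorem mem_del_of_coord {b : Bool} {i : Fin n} {v : G} (hv : v ∈ D.side b) (h : D.coord b i v = 0) :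
    v ∈ D.sideDel b i := by
  have := D.coord_spec b i hv
  rwa [h, neg_zero, D.X_zero, mul_one] at this

theorem coord_mul (hF : 4 ≤ Fintype.card F) {b : Bool} (i : Fin n) {x y : G} (hx : x ∈ D.side b)
    (hy : y ∈ D.side b) : D.coord b i (x * y) = D.coord b i x + D.coord b i y := by
  refine D.coord_eq hF (mul_mem hx hy) ?_
  set a := D.coord b i x
  set c := D.coord b i y
  have e : x * y * D.X (D.el b i) (-(a + c)) =
      x * D.X (D.el b i) (-a) * (D.X (D.el b i) a * (y * D.X (D.el b i) (-c)) * (D.X (D.el b i) a)⁻¹) := by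
    rw [neg_add_rev, D.X_add, D.X_neg _ a, D.X_neg _ c]; group
  rw [e]
  exact mul_mem (D.coord_spec b i hx)
    (D.sideDel_conj (D.mem_span (D.el_mem_side b i) a) (D.coord_spec b i hy)).1

theorem coord_el (hF : 4 ≤ Fintype.card F) (b : Bool) (i j : Fin n) (a : F) :
    D.coord b j (D.X (D.el b i) a) = if i = j then a else 0 := by
  split
  next h =>
    subst h
    refine D.coord_eq hF (D.mem_span (D.el_mem_side b i) a) ?_
    rw [D.X_neg, mul_inv_cancel]; exact one_mem _
  next h => exact D.coord_zero_of_mem hF (D.mem_span (A := D.delSet b j) ⟨D.el_mem_side b i, fun e => h (D.el_inj e)⟩ a)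

/-- A node commuting with a node fixes its coordinate. -/
theorem coord_loc (hF : 4 ≤ Fintype.card F) {i j : Fin n} (hij : i ≠ j) (hk : D.k i j = 0) (s : F) {v : G}
    (hv : v ∈ D.sideDel false i) :
    D.coord false j (D.X (D.el true i) s * v * D.X (D.el true i) (-s)) = D.coord false j v := by
  suffices h : ∀ v ∈ D.sideDel false i,
      D.X (D.el true i) s * v * D.X (D.el true i) (-s) * v⁻¹ ∈ D.sideDel false j by
    have hv' := D.sideDel_le _ _ hv
    have hd := h v hv
    have := D.coord_mul hF j (D.sideDel_le _ _ hd) hv'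
    rw [D.coord_zero_of_mem hF hd, zero_add, inv_mul_cancel_right] at this
    exact this
  intro v hv
  rw [D.X_neg]
  induction hv using Subgroup.closure_induction with
  | mem x hx =>
    obtain ⟨q, t, rfl, hq⟩ := hx
    refine D.span_mono ?_ (D.comm_mem (D.del_conj _ (Or.inr rfl) q hq).1 s t)
    intro p hp
    have hp' := (D.del_conj _ (Or.inr rfl) q hq).2 hp
    refine ⟨hp'.1, fun e => ?_⟩
    obtain ⟨x, y, hx, hy, hp⟩ := hp
    have hx' : (0 : ℤ) < x := by exact_mod_cast hx
    have hy' : (0 : ℤ) < y := by exact_mod_cast hy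
    have hz : ∀ l, l ≠ i → l ≠ j → D.co q l = 0 := by
      intro l hli hlj
      have := hp l
      rw [e, D.co_el', if_neg hlj, D.co_el', if_neg hli, mul_zero, zero_add] at this
      exact (mul_eq_zero.1 this.symm).resolve_left hy'.ne'
    rcases D.indep i j hij hk q hz with h | h
    · have := hp i
      rw [e, D.co_el', if_neg hij, D.co_el', if_pos rfl, h, mul_zero, add_zero] at this
      simp [sgn] at this
      omega
    · have := hp j
      rw [e, D.co_el', if_pos rfl, D.co_el', if_neg hij.symm, h, mul_zero, mul_zero, add_zero] at this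
      simp [sgn] at this
  | one => simp
  | mul x y hxm _ hx hy =>
    set r := D.X (D.el true i) s
    rw [show r * (x * y) * r⁻¹ * (x * y)⁻¹ = r * x * r⁻¹ * x⁻¹ * (x * (r * y * r⁻¹ * y⁻¹) * x⁻¹) by group]
    exact mul_mem hx (D.sideDel_conj (D.sideDel_le _ _ hxm) hy).1
  | inv x hxm hx =>
    set r := D.X (D.el true i) s
    rw [show r * x⁻¹ * r⁻¹ * (x⁻¹)⁻¹ = x⁻¹ * (x * (r * x⁻¹ * r⁻¹)) * x by group]
    refine (D.sideDel_conj (D.sideDel_le _ _ hxm) ?_).2
    rw [show x * (r * x⁻¹ * r⁻¹) = (r * x * r⁻¹ * x⁻¹)⁻¹ by group]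
    exact inv_mem hx

theorem core (b : Bool) {v : G} (h : ∀ g, g * v * g⁻¹ ∈ D.side b) : v = 1 := by
  have hV : ∀ g, g ∈ D.side false → g ∈ Subgroup.closure {g : G | ∃ q t, g = D.X q t ∧ ∀ i, D.co q i ≤ 0} :=
    fun g hg => D.span_mono (B := {q | ∀ i, D.co q i ≤ 0}) (fun q hq i => by
      have := hq i; simp only [sgn, Bool.false_eq_true, ite_false] at this; omega) hg
  have hU : ∀ g, g ∈ D.side true → g ∈ Subgroup.closure {g : G | ∃ q t, g = D.X q t ∧ ∀ i, 0 ≤ D.co q i} :=
    fun g hg => D.span_mono (B := {q | ∀ i, 0 ≤ D.co q i}) (fun q hq i => by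
      have := hq i; simp only [sgn, ite_true, one_mul] at this; exact this) hg
  have hv : v ∈ D.side b := by simpa using h 1
  cases b with
  | false =>
    obtain ⟨w, hw⟩ := D.opp
    have key : ∀ g ∈ D.side false, w * g * w⁻¹ ∈
        Subgroup.closure {g : G | ∃ q t, g = D.X q t ∧ ∀ i, 0 ≤ D.co q i} := fun g hg => by
      have hg' := hV g hg
      clear hg
      induction hg' using Subgroup.closure_induction with
      | mem x hx => obtain ⟨q, t, rfl, hq⟩ := hx; exact hw q t hq
      | one => simp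
      | mul x y _ _ hx hy =>
        rw [show w * (x * y) * w⁻¹ = w * x * w⁻¹ * (w * y * w⁻¹) by group]; exact mul_mem hx hy
      | inv x _ hx => rw [show w * x⁻¹ * w⁻¹ = (w * x * w⁻¹)⁻¹ by group]; exact inv_mem hx
    have := (D.uniq _ (hV _ (h w)) 1 _ (inv_mem (key v hv)) (by rw [map_one, mul_one, mul_inv_cancel])).1
    exact conj_eq_one_iff.1 this
  | true =>
    obtain ⟨w, hw⟩ := D.opp'
    have key : ∀ g ∈ D.side true, w * g * w⁻¹ ∈
        Subgroup.closure {g : G | ∃ q t, g = D.X q t ∧ ∀ i, D.co q i ≤ 0} := fun g hg => by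
      have hg' := hU g hg
      clear hg
      induction hg' using Subgroup.closure_induction with
      | mem x hx => obtain ⟨q, t, rfl, hq⟩ := hx; exact hw q t hq
      | one => simp
      | mul x y _ _ hx hy =>
        rw [show w * (x * y) * w⁻¹ = w * x * w⁻¹ * (w * y * w⁻¹) by group]; exact mul_mem hx hy
      | inv x _ hx => rw [show w * x⁻¹ * w⁻¹ = (w * x * w⁻¹)⁻¹ by group]; exact inv_mem hx
    have := (D.uniq _ (inv_mem (key v hv)) 1 _ (hU _ (h w)) (by rw [map_one, mul_one, inv_mul_cancel])).2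
    exact conj_eq_one_iff.1 this

/-- The Gauss system. -/
noncomputable def toSys (hF : 4 ≤ Fintype.card F) : GaussSys G F n where
  V := D.side false
  U := D.side true
  xp i := D.X (D.el true i)
  xm i := D.X (D.el false i)
  tor := D.tor
  chi i := D.chi (D.el true i)
  c := D.coord false
  d := D.coord true
  k := D.k
  par := D.par
  xp_add i := D.X_add _
  xm_add i := D.X_add _
  xp_mem i a := D.mem_span (D.el_mem_side true i) a
  xm_mem i a := D.mem_span (D.el_mem_side false i) a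
  tor_xp f i a := D.tor_X f _ a
  tor_xm f i a := by rw [D.tor_X, D.chi_neg]
  sl2 := D.sl2
  chi_other := D.chi_other
  comm i j hij a b := by
    have h := D.comm_mem (r := D.el true i) (s := D.el false j) ⟨i, by
      rw [D.co_el', D.co_el', if_pos rfl, if_neg hij, add_zero]; decide⟩ a b
    have he : D.comb (D.el true i) (D.el false j) = ∅ := Set.eq_empty_iff_forall_notMem.2 fun q ⟨x, y, hx, hy, hq⟩ => by
      have h1 := hq i
      have h2 := hq j
      simp only [D.co_el', if_pos, if_neg hij, if_neg hij.symm, sgn, Bool.false_eq_true, ite_false, ite_true] at h1 h2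
      rcases D.sign q with hs | hs <;> have := hs i <;> have := hs j <;> omega
    rw [he, span, show {g : G | ∃ q t, g = D.X q t ∧ q ∈ (∅ : Set Φ)} = ∅ by simp, Subgroup.closure_empty,
      Subgroup.mem_bot, mul_inv_eq_one, mul_inv_eq_iff_eq_mul] at h
    exact h
  c_mul j x hx y hy := D.coord_mul hF j hx hy
  d_mul j x hx y hy := D.coord_mul hF j hx hy
  c_xm := D.coord_el hF false
  d_xp := D.coord_el hF true
  conjp i s v hv hc := by
    have h := D.sideDel_opp s (D.mem_del_of_coord hv hc)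
    exact ⟨D.sideDel_le _ _ h, D.coord_zero_of_mem hF h⟩
  conjm i s v hv hc := by
    have h := D.sideDel_opp s (D.mem_del_of_coord hv hc)
    exact ⟨D.sideDel_le _ _ h, D.coord_zero_of_mem hF h⟩
  loc i j s hij hk v hv hc := D.coord_loc hF hij hk s (D.mem_del_of_coord hv hc)
  par_lt := D.par_lt
  k_adj := D.k_adj
  k_pos := D.k_pos
  k_up := D.k_up
  k_down := D.k_down
  gen := by
    rw [eq_top_iff, ← D.gen]
    refine Subgroup.closure_mono ?_
    rintro g ⟨b, i, t, rfl⟩
    cases b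
    · exact Or.inr ⟨i, t, rfl⟩
    · exact Or.inl ⟨i, t, rfl⟩
  coreV v h := D.core false h
  coreU v h := D.core true h

end GSData

end Cfsg.Agent.GaussPre
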