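import Cfsg.Agent.Lib.GaussPre.Step
import Mathlib.Tactic.Linarith

/-!
# Gauss decomposition with prescribed torus part

* `exists_gauss` : in a group with a `GaussSys` over a field with at least nine elements, every
  non-central element has, for every torus element `t`, a conjugate of the form `v t u`.
-/

set_option autoImplicit false
set_option linter.unusedSectionVars false

namespace Cfsg.Agent.GaussPre

variable {G : Type*} [Group G] {F : Type*} [Field F] [Fintype F] {n : ℕ} (S : GaussSys G F n)

namespace GaussSys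

/-- The children of a node. -/
def kids (i : Fin n) : Finset (Fin n) := Finset.univ.filter fun j : Fin n => j.val ≠ 0 ∧ S.par j = i

theorem lt_of_mem_kids {i j : Fin n} (h : j ∈ S.kids i) : i.val < j.val := by
  obtain ⟨hj, rfl⟩ := (Finset.mem_filter.1 h).2
  exact S.par_lt j hj

/-- A nonzero coordinate can be moved to the root. -/
theorem exists_root (hF : 9 ≤ Fintype.card F) {g : G} :
    ∀ (m : ℕ) (i : Fin n), i.val = m → ∀ f v, S.Rep g f v → S.c i v ≠ 0 →
      ∃ f' v' i', i'.val = 0 ∧ S.Rep g f' v' ∧ S.c i' v' ≠ 0 := by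
  classical
  intro m
  induction m using Nat.strong_induction_on with
  | _ m ih =>
    intro i hi f v hr hc
    by_cases h0 : i.val = 0
    · exact ⟨f, v, i, h0, hr, hc⟩
    have hlt := S.par_lt i h0
    have hne : i ≠ S.par i := fun e => by rw [← e] at hlt; exact lt_irrefl _ hlt
    obtain ⟨f', v', h', -, -, hJ', -⟩ := S.step hF hr hc {S.par i} (by simpa using hne)
      (fun a ha b hb hab => absurd ((Finset.mem_singleton.1 ha).trans (Finset.mem_singleton.1 hb).symm) hab)
      (fun j hj => by rw [Finset.mem_singleton.1 hj]; exact (S.k_pos i h0).1)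
      (by rw [Finset.sum_singleton]; exact S.k_up i h0) 1
    exact ih _ (hi ▸ hlt) _ rfl f' v' h' (hJ' _ (Finset.mem_singleton_self _))

/-- Every non-central element has a conjugate `v t u` with prescribed `t`. -/
theorem exists_gauss (hF : 9 ≤ Fintype.card F) {g : G} (hg : g ∉ Subgroup.center G) (τ : Fin n → Fˣ) :
    ∃ v ∈ S.V, ∃ u ∈ S.U, IsConj g (v * S.tor τ * u) := by
  classical
  obtain ⟨f0, v0, i0, hr0, hc0⟩ := S.exists_coord hF hg
  obtain ⟨f1, v1, i1, hi1, hr1, hc1⟩ := S.exists_root hF _ i0 rfl f0 v0 hr0 hc0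
  have main : ∀ m, m ≤ n → ∃ f v, S.Rep g f v ∧ (∀ l : Fin n, l.val < m → f l = τ l) ∧
      ∀ l : Fin n, m ≤ l.val → (l.val = 0 ∨ (S.par l).val < m) → S.c l v ≠ 0 := by
    intro m
    induction m with
    | zero =>
      exact fun _ => ⟨f1, v1, hr1, fun l hl => absurd hl (Nat.not_lt_zero _), fun l _ hl => by
        rcases hl with hl | hl
        · rwa [show l = i1 from Fin.ext (hl.trans hi1.symm)]
        · exact absurd hl (Nat.not_lt_zero _)⟩
    | succ m ih =>
      intro hm
      obtain ⟨f, v, hr, hf, hc⟩ := ih (Nat.le_of_succ_le hm)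
      set i : Fin n := ⟨m, hm⟩ with hi
      have hci : S.c i v ≠ 0 := hc i le_rfl (by
        by_cases h0 : m = 0
        · exact Or.inl h0
        · exact Or.inr (S.par_lt i h0))
      have hii : i ∉ S.kids i := fun h => lt_irrefl _ (S.lt_of_mem_kids h)
      have hpair : ∀ a ∈ S.kids i, ∀ b ∈ S.kids i, a ≠ b → S.k a b = 0 := by
        intro a ha b hb hab
        by_contra hk
        rcases S.k_adj a b hab hk with ⟨-, h⟩ | ⟨-, h⟩
        · rw [(Finset.mem_filter.1 ha).2.2] at h
          exact hii (by rw [← h] at hb; exact hb)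
        · rw [(Finset.mem_filter.1 hb).2.2] at h
          exact hii (by rw [← h] at ha; exact ha)
      have hpos : ∀ j ∈ S.kids i, S.k i j ≠ 0 := fun j hj => by
        obtain ⟨hj0, hje⟩ := (Finset.mem_filter.1 hj).2
        have := (S.k_pos j hj0).2
        rwa [hje] at this
      obtain ⟨f', v', hr', hfi, hfl, hcJ, hcl⟩ := S.step hF hr hci (S.kids i) hii hpair hpos (S.k_down i) (τ i)
      refine ⟨f', v', hr', fun l hl => ?_, fun l hl hp => ?_⟩
      · rcases Nat.lt_succ_iff_lt_or_eq.1 hl with h | h
        · rw [hfl l (fun hk => absurd (S.lt_of_mem_kids hk) (by show ¬ m < l.val; omega))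
            (fun e => h.ne (congrArg Fin.val e)), hf l h]
        · rw [show l = i from Fin.ext h, hfi]
      · have hl0 : l.val ≠ 0 := by omega
        have hli : l ≠ i := fun e => by have := congrArg Fin.val e; simp only [hi] at this; omega
        by_cases hk : l ∈ S.kids i
        · exact hcJ l hk
        have hpl : (S.par l).val < m + 1 := hp.resolve_left hl0
        have hne : (S.par l).val ≠ m := fun e => hk (Finset.mem_filter.2 ⟨Finset.mem_univ l, hl0, Fin.ext e⟩)
        rw [hcl l hk hli ?_]
        · exact hc l (by omega) (Or.inr (by omega))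
        by_contra hkk
        rcases S.k_adj i l (Ne.symm hli) hkk with ⟨h0, h⟩ | ⟨-, h⟩
        · have h2 := S.par_lt i h0
          rw [h] at h2
          exact absurd h2 (by show ¬ l.val < m; omega)
        · exact hne (by rw [h])
  obtain ⟨f, v, hr, hf, -⟩ := main n le_rfl
  obtain ⟨hv, u, hu, hgc⟩ := hr
  exact ⟨v, hv, u, hu, by rwa [show τ = f from funext fun l => (hf l l.isLt).symm]⟩

end GaussSys

end Cfsg.Agent.GaussPre
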