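import Cfsg.Agent.Lib.GaussPre.SL
import Mathlib.Data.Matrix.Block
import Mathlib.LinearAlgebra.Matrix.GeneralLinearGroup.Defs
import Mathlib.LinearAlgebra.Matrix.SchurComplement

/-!
# The block subgroups of shape `(1, 1, k)` of `SL (k + 2, F)`

* `emb d A` : the block diagonal matrix; `embHom` : the same on invertible matrices;
* `slM`, `slP`, `slQ` : the Levi subgroup and the two radicals;
* `exists_split_low`, `exists_split_up` : the decomposition of the unitriangular subgroups;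
* `slM_conj_P`, `slM_conj_Q`, `fixP`, `fixQ` : normalisation and fixed points.
-/

set_option autoImplicit false
set_option linter.unusedSectionVars false

namespace Cfsg.Agent.GaussPre

open Matrix Cfsg.Agent.SLRGD

variable (F : Type*) [Field F] (k : ℕ)

local notation "Γ" => Matrix.SpecialLinearGroup (Fin (k + 1 + 1)) F

/-- The labelling of the blocks. -/
def blkEquiv : Fin 2 ⊕ Fin k ≃ Fin (k + 1 + 1) := finSumFinEquiv.trans (finCongr (by omega))

theorem blkEquiv_inl (i : Fin 2) : (blkEquiv k (Sum.inl i)).val = i.val := by simp [blkEquiv]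

theorem blkEquiv_inr (i : Fin k) : (blkEquiv k (Sum.inr i)).val = i.val + 2 := by simp [blkEquiv]

variable {F k}

/-- A matrix by its blocks. -/
def ofB (a : Matrix (Fin 2) (Fin 2) F) (b : Matrix (Fin 2) (Fin k) F) (c : Matrix (Fin k) (Fin 2) F)
    (d : Matrix (Fin k) (Fin k) F) : Matrix (Fin (k + 1 + 1)) (Fin (k + 1 + 1)) F :=
  Matrix.reindex (blkEquiv k) (blkEquiv k) (fromBlocks a b c d)

theorem ofB_mul (a a' : Matrix (Fin 2) (Fin 2) F) (b b' : Matrix (Fin 2) (Fin k) F)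
    (c c' : Matrix (Fin k) (Fin 2) F) (d d' : Matrix (Fin k) (Fin k) F) :
    ofB a b c d * ofB a' b' c' d' = ofB (a * a' + b * c') (a * b' + b * d') (c * a' + d * c') (c * b' + d * d') := by
  simp only [ofB, Matrix.reindex_apply, Matrix.submatrix_mul_equiv, fromBlocks_multiply]

theorem ofB_one : ofB (1 : Matrix (Fin 2) (Fin 2) F) 0 0 (1 : Matrix (Fin k) (Fin k) F) = 1 := by
  simp [ofB, fromBlocks_one]

theorem ofB_det_low (a : Matrix (Fin 2) (Fin 2) F) (c : Matrix (Fin k) (Fin 2) F) (d : Matrix (Fin k) (Fin k) F) :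
    (ofB a 0 c d).det = a.det * d.det := by
  rw [ofB, Matrix.det_reindex_self, det_fromBlocks_zero₁₂]

theorem ofB_inj {a a' : Matrix (Fin 2) (Fin 2) F} {b b' : Matrix (Fin 2) (Fin k) F}
    {c c' : Matrix (Fin k) (Fin 2) F} {d d' : Matrix (Fin k) (Fin k) F} (h : ofB a b c d = ofB a' b' c' d') :
    a = a' ∧ b = b' ∧ c = c' ∧ d = d' :=
  fromBlocks_inj.1 ((Matrix.reindex (blkEquiv k) (blkEquiv k)).injective h)

theorem exists_ofB (M : Matrix (Fin (k + 1 + 1)) (Fin (k + 1 + 1)) F) : ∃ a b c d, M = ofB a b c d := by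
  set N := (Matrix.reindex (blkEquiv k) (blkEquiv k)).symm M with hN
  refine ⟨N.toBlocks₁₁, N.toBlocks₁₂, N.toBlocks₂₁, N.toBlocks₂₂, ?_⟩
  rw [ofB, fromBlocks_toBlocks, hN, Equiv.apply_symm_apply]

theorem ofB_apply₁₁ (a : Matrix (Fin 2) (Fin 2) F) (b : Matrix (Fin 2) (Fin k) F) (c : Matrix (Fin k) (Fin 2) F)
    (d : Matrix (Fin k) (Fin k) F) (i j : Fin 2) : ofB a b c d (blkEquiv k (Sum.inl i)) (blkEquiv k (Sum.inl j)) = a i j := by
  simp [ofB]

theorem ofB_apply₁₂ (a : Matrix (Fin 2) (Fin 2) F) (b : Matrix (Fin 2) (Fin k) F) (c : Matrix (Fin k) (Fin 2) F)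
    (d : Matrix (Fin k) (Fin k) F) (i : Fin 2) (j : Fin k) :
    ofB a b c d (blkEquiv k (Sum.inl i)) (blkEquiv k (Sum.inr j)) = b i j := by simp [ofB]

theorem ofB_apply₂₁ (a : Matrix (Fin 2) (Fin 2) F) (b : Matrix (Fin 2) (Fin k) F) (c : Matrix (Fin k) (Fin 2) F)
    (d : Matrix (Fin k) (Fin k) F) (i : Fin k) (j : Fin 2) :
    ofB a b c d (blkEquiv k (Sum.inr i)) (blkEquiv k (Sum.inl j)) = c i j := by simp [ofB]

theorem ofB_apply₂₂ (a : Matrix (Fin 2) (Fin 2) F) (b : Matrix (Fin 2) (Fin k) F) (c : Matrix (Fin k) (Fin 2) F)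
    (d : Matrix (Fin k) (Fin k) F) (i j : Fin k) :
    ofB a b c d (blkEquiv k (Sum.inr i)) (blkEquiv k (Sum.inr j)) = d i j := by simp [ofB]

variable (F k) in
/-- Block diagonal invertible matrices of shape `(1, 1, k)`. -/
def embHom : (Fin 2 → Fˣ) × GL (Fin k) F →* GL (Fin (k + 1 + 1)) F where
  toFun p :=
    { val := ofB (diagonal fun i => (p.1 i : F)) 0 0 p.2.1
      inv := ofB (diagonal fun i => ((p.1 i)⁻¹ : Fˣ).1) 0 0 p.2⁻¹.1
      val_inv := by
        rw [ofB_mul, ← ofB_one]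
        congr 1 <;> simp [diagonal_mul_diagonal, ← Units.val_mul]
      inv_val := by
        rw [ofB_mul, ← ofB_one]
        congr 1 <;> simp [diagonal_mul_diagonal, ← Units.val_mul] }
  map_one' := Units.ext (by
    refine Eq.trans ?_ ofB_one
    show ofB (diagonal fun i => ((1 : Fin 2 → Fˣ) i : F)) 0 0 (1 : GL (Fin k) F).1 = _
    congr 1 <;> simp)
  map_mul' p q := Units.ext (by
    rw [Units.val_mul]
    show ofB _ _ _ _ = ofB _ _ _ _ * ofB _ _ _ _
    rw [ofB_mul]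
    congr 1 <;> simp [diagonal_mul_diagonal, Units.val_mul])

theorem embHom_coe (p : (Fin 2 → Fˣ) × GL (Fin k) F) :
    (embHom F k p : Matrix (Fin (k + 1 + 1)) (Fin (k + 1 + 1)) F) = ofB (diagonal fun i => (p.1 i : F)) 0 0 p.2.1 :=
  rfl

/-- As an element of the general linear group. -/
abbrev toG (g : Γ) : GL (Fin (k + 1 + 1)) F := Matrix.SpecialLinearGroup.toGL g

variable (F k) in
/-- The Levi subgroup. -/
def slM : Subgroup Γ := (embHom F k).range.comap Matrix.SpecialLinearGroup.toGL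

theorem mem_slM {g : Γ} : g ∈ slM F k ↔ ∃ p, g.1 = ofB (diagonal fun i => ((p : (Fin 2 → Fˣ) × GL (Fin k) F).1 i : F)) 0 0 p.2.1 := by
  constructor
  · rintro ⟨p, hp⟩
    exact ⟨p, (congrArg Units.val hp).symm⟩
  · rintro ⟨p, hp⟩
    exact ⟨p, Units.ext hp.symm⟩

/-- The lower radical: blocks `[[1, 0], [c, 1]]`, `0`, `C`, `1`. -/
def IsLowP (g : Γ) : Prop := ∃ (c : F) (C : Matrix (Fin k) (Fin 2) F), g.1 = ofB !![1, 0; c, 1] 0 C 1

theorem low_two_mul (c c' : F) : (!![1, 0; c, 1] : Matrix (Fin 2) (Fin 2) F) * !![1, 0; c', 1] = !![1, 0; c + c', 1] := by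
  ext i j; fin_cases i <;> fin_cases j <;> simp [Matrix.mul_apply, Fin.sum_univ_two]

theorem up_two_mul (c c' : F) : (!![1, c; 0, 1] : Matrix (Fin 2) (Fin 2) F) * !![1, c'; 0, 1] = !![1, c + c'; 0, 1] := by
  ext i j; fin_cases i <;> fin_cases j <;> simp [Matrix.mul_apply, Fin.sum_univ_two, add_comm]

theorem eye_two : (!![1, 0; 0, 1] : Matrix (Fin 2) (Fin 2) F) = 1 := by
  ext i j; fin_cases i <;> fin_cases j <;> simp

variable (F k) in
/-- The lower radical. -/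
def slP : Subgroup Γ where
  carrier := {g | IsLowP g}
  one_mem' := ⟨0, 0, by rw [eye_two, Matrix.SpecialLinearGroup.coe_one, ofB_one]⟩
  mul_mem' := by
    rintro g h ⟨c, C, hg⟩ ⟨c', C', hh⟩
    refine ⟨c + c', C * !![1, 0; c', 1] + C', ?_⟩
    rw [Matrix.SpecialLinearGroup.coe_mul, hg, hh, ofB_mul, low_two_mul]
    congr 1 <;> simp
  inv_mem' := by
    rintro g ⟨c, C, hg⟩
    refine ⟨-c, -(C * !![1, 0; -c, 1]), ?_⟩
    have h : g.1 * ofB !![1, 0; -c, 1] 0 (-(C * !![1, 0; -c, 1])) 1 = 1 := by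
      rw [hg, ofB_mul, low_two_mul, add_neg_cancel, eye_two]
      refine Eq.trans ?_ ofB_one
      congr 1 <;> simp
    have h2 := congrArg (g⁻¹.1 * ·) h
    simp only [← mul_assoc, ← Matrix.SpecialLinearGroup.coe_mul, inv_mul_cancel, Matrix.SpecialLinearGroup.coe_one,
      one_mul, mul_one] at h2
    exact h2.symm

/-- The upper radical: blocks `[[1, c], [0, 1]]`, `C`, `0`, `1`. -/
def IsUpQ (g : Γ) : Prop := ∃ (c : F) (C : Matrix (Fin 2) (Fin k) F), g.1 = ofB !![1, c; 0, 1] C 0 1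

variable (F k) in
/-- The upper radical. -/
def slQ : Subgroup Γ where
  carrier := {g | IsUpQ g}
  one_mem' := ⟨0, 0, by rw [eye_two, Matrix.SpecialLinearGroup.coe_one, ofB_one]⟩
  mul_mem' := by
    rintro g h ⟨c, C, hg⟩ ⟨c', C', hh⟩
    refine ⟨c + c', !![1, c; 0, 1] * C' + C, ?_⟩
    rw [Matrix.SpecialLinearGroup.coe_mul, hg, hh, ofB_mul, up_two_mul]
    congr 1 <;> simp
  inv_mem' := by
    rintro g ⟨c, C, hg⟩
    refine ⟨-c, -(!![1, -c; 0, 1] * C), ?_⟩
    have h : ofB !![1, -c; 0, 1] (-(!![1, -c; 0, 1] * C)) 0 1 * g.1 = 1 := by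
      rw [hg, ofB_mul, up_two_mul, neg_add_cancel, eye_two]
      refine Eq.trans ?_ ofB_one
      congr 1 <;> simp <;> (ext i; fin_cases i <;> simp)
    have h2 := congrArg (· * g⁻¹.1) h
    simp only [mul_assoc, ← Matrix.SpecialLinearGroup.coe_mul, mul_inv_cancel, Matrix.SpecialLinearGroup.coe_one,
      one_mul, mul_one] at h2
    exact h2.symm

theorem conj_coe {g : Γ} {p : (Fin 2 → Fˣ) × GL (Fin k) F} (hg : toG g = embHom F k p) (v : Γ) :
    (g * v * g⁻¹).1 = ofB (diagonal fun i => (p.1 i : F)) 0 0 p.2.1 * v.1 *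
      ofB (diagonal fun i => ((p.1 i)⁻¹ : Fˣ).1) 0 0 p.2⁻¹.1 := by
  have h1 : g.1 = (embHom F k p).1 := congrArg Units.val hg
  have h2 : g⁻¹.1 = (embHom F k p⁻¹).1 := by
    rw [map_inv, ← hg, ← map_inv Matrix.SpecialLinearGroup.toGL]
    rfl
  rw [Matrix.SpecialLinearGroup.coe_mul, Matrix.SpecialLinearGroup.coe_mul, h1, h2]
  rfl

theorem slM_conj_P {g : Γ} (hg : g ∈ slM F k) {v : Γ} (hv : v ∈ slP F k) : g * v * g⁻¹ ∈ slP F k := by
  obtain ⟨p, hp⟩ := hg
  obtain ⟨c, C, hv⟩ := hv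
  refine ⟨p.1 1 * c * ((p.1 0)⁻¹ : Fˣ), p.2.1 * C * diagonal fun i => ((p.1 i)⁻¹ : Fˣ).1, ?_⟩
  rw [conj_coe hp.symm, hv, ofB_mul, ofB_mul]
  congr 1
  · ext i j
    fin_cases i <;> fin_cases j <;> simp [Matrix.mul_apply, Fin.sum_univ_two]
  · simp
  · simp
  · simp [← Units.val_mul]

theorem slM_conj_Q {g : Γ} (hg : g ∈ slM F k) {v : Γ} (hv : v ∈ slQ F k) : g * v * g⁻¹ ∈ slQ F k := by
  obtain ⟨p, hp⟩ := hg
  obtain ⟨c, C, hv⟩ := hv
  refine ⟨p.1 0 * c * ((p.1 1)⁻¹ : Fˣ), (diagonal fun i => (p.1 i : F)) * C * p.2⁻¹.1, ?_⟩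
  rw [conj_coe hp.symm, hv, ofB_mul, ofB_mul]
  congr 1
  · ext i j
    fin_cases i <;> fin_cases j <;> simp [Matrix.mul_apply, Fin.sum_univ_two]
  · simp
  · simp
  · simp [← Units.val_mul]

/-- Block shape of lower unitriangular matrices. -/
theorem exists_split_low {v : Γ} (hv : v ∈ slV F (k + 1)) :
    ∃ vP ∈ slP F k, ∃ vM : Γ, v = vP * vM ∧ ∃ D : GL (Fin k) F, toG vM = embHom F k (1, D) ∧ D.1.det = 1 ∧
      (∀ i j : Fin k, i < j → D.1 i j = 0) ∧ ∀ i, D.1 i i = 1 := by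
  obtain ⟨a, b, c, d, hM⟩ := exists_ofB v.1
  have hup : ∀ p q : Fin (k + 1 + 1), p < q → v.1 p q = 0 :=
    fun p q h => hv.1.1 (OrderDual.toDual_lt_toDual.2 h)
  have hb : b = 0 := by
    ext i j
    rw [← ofB_apply₁₂ a b c d, ← hM, Matrix.zero_apply]
    exact hup _ _ (by rw [Fin.lt_def, blkEquiv_inl, blkEquiv_inr]; omega)
  have hd0 : ∀ i j : Fin k, i < j → d i j = 0 := fun i j h => by
    rw [← ofB_apply₂₂ a b c d, ← hM]
    exact hup _ _ (by rw [Fin.lt_def, blkEquiv_inr, blkEquiv_inr]; exact Nat.add_lt_add_right h 2)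
  have hd1 : ∀ i, d i i = 1 := fun i => by rw [← ofB_apply₂₂ a b c d, ← hM]; exact hv.2 _
  have ha : a = !![1, 0; a 1 0, 1] := by
    ext i j
    fin_cases i <;> fin_cases j <;> simp
    · rw [← ofB_apply₁₁ a b c d, ← hM]; exact hv.2 _
    · rw [← ofB_apply₁₁ a b c d, ← hM]
      exact hup _ _ (by rw [Fin.lt_def, blkEquiv_inl, blkEquiv_inl]; decide)
    · rw [← ofB_apply₁₁ a b c d, ← hM]; exact hv.2 _
  have hdd : d.det = 1 := by
    rw [← Matrix.det_transpose, Matrix.det_of_isUpperTriangular (M := dᵀ) (fun i j h => hd0 j i h)]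
    exact Finset.prod_eq_one fun i _ => hd1 i
  set D := Matrix.GeneralLinearGroup.mkOfDetNeZero d (by rw [hdd]; exact one_ne_zero) with hD
  have hDc : D.1 = d := rfl
  let vM : Γ := ⟨(embHom F k (1, D)).1, by
    rw [embHom_coe, ofB_det_low, det_diagonal, hDc, hdd]; simp⟩
  have hvM : toG vM = embHom F k (1, D) := Units.ext rfl
  refine ⟨v * vM⁻¹, ?_, vM, by group, D, hvM, hdd, hd0, hd1⟩
  refine ⟨a 1 0, c, ?_⟩
  have h2 : vM⁻¹.1 = (embHom F k (1, D)⁻¹).1 := by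
    rw [map_inv, ← hvM, ← map_inv Matrix.SpecialLinearGroup.toGL]
    rfl
  rw [Matrix.SpecialLinearGroup.coe_mul, h2, hM, hb, embHom_coe, ofB_mul, ← ha]
  congr 1
  · simp
  · simp
  · simp
  · rw [Matrix.mul_zero, zero_add, ← hDc]
    show D.1 * (D⁻¹ : GL (Fin k) F).1 = 1
    rw [← Units.val_mul, mul_inv_cancel, Units.val_one]

/-- Block shape of upper unitriangular matrices. -/
theorem exists_split_up {v : Γ} (hv : v ∈ slU F (k + 1)) :
    ∃ vQ ∈ slQ F k, ∃ vM : Γ, v = vM * vQ ∧ ∃ D : GL (Fin k) F, toG vM = embHom F k (1, D) ∧ D.1.det = 1 ∧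
      (∀ i j : Fin k, j < i → D.1 i j = 0) ∧ ∀ i, D.1 i i = 1 := by
  obtain ⟨a, b, c, d, hM⟩ := exists_ofB v.1
  have hlo : ∀ p q : Fin (k + 1 + 1), q < p → v.1 p q = 0 := fun p q h => hv.1.1 h
  have hc : c = 0 := by
    ext i j
    rw [← ofB_apply₂₁ a b c d, ← hM, Matrix.zero_apply]
    exact hlo _ _ (by rw [Fin.lt_def, blkEquiv_inl, blkEquiv_inr]; omega)
  have hd0 : ∀ i j : Fin k, j < i → d i j = 0 := fun i j h => by
    rw [← ofB_apply₂₂ a b c d, ← hM]
    exact hlo _ _ (by rw [Fin.lt_def, blkEquiv_inr, blkEquiv_inr]; exact Nat.add_lt_add_right h 2)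
  have hd1 : ∀ i, d i i = 1 := fun i => by rw [← ofB_apply₂₂ a b c d, ← hM]; exact hv.2 _
  have ha : a = !![1, a 0 1; 0, 1] := by
    ext i j
    fin_cases i <;> fin_cases j <;> simp
    · rw [← ofB_apply₁₁ a b c d, ← hM]; exact hv.2 _
    · rw [← ofB_apply₁₁ a b c d, ← hM]
      exact hlo _ _ (by rw [Fin.lt_def, blkEquiv_inl, blkEquiv_inl]; decide)
    · rw [← ofB_apply₁₁ a b c d, ← hM]; exact hv.2 _
  have hdd : d.det = 1 := by
    rw [Matrix.det_of_isUpperTriangular (fun i j h => hd0 i j h)]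
    exact Finset.prod_eq_one fun i _ => hd1 i
  set D := Matrix.GeneralLinearGroup.mkOfDetNeZero d (by rw [hdd]; exact one_ne_zero) with hD
  have hDc : D.1 = d := rfl
  let vM : Γ := ⟨(embHom F k (1, D)).1, by
    rw [embHom_coe, ofB_det_low, det_diagonal, hDc, hdd]; simp⟩
  have hvM : toG vM = embHom F k (1, D) := Units.ext rfl
  refine ⟨vM⁻¹ * v, ?_, vM, by group, D, hvM, hdd, hd0, hd1⟩
  refine ⟨a 0 1, b, ?_⟩
  have h2 : vM⁻¹.1 = (embHom F k (1, D)⁻¹).1 := by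
    rw [map_inv, ← hvM, ← map_inv Matrix.SpecialLinearGroup.toGL]
    rfl
  rw [Matrix.SpecialLinearGroup.coe_mul, h2, hM, hc, embHom_coe, ofB_mul, ← ha]
  congr 1
  · simp
  · simp
  · simp
  · rw [Matrix.zero_mul, zero_add, ← hDc]
    show (D⁻¹ : GL (Fin k) F).1 * D.1 = 1
    rw [← Units.val_mul, inv_mul_cancel, Units.val_one]

/-- No fixed points below. -/
theorem fixP {g : Γ} {p : (Fin 2 → Fˣ) × GL (Fin k) F} (hg : toG g = embHom F k p) (hp : p.1 0 ≠ p.1 1)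
    (hdet : ∀ i, (p.2.1 - (p.1 i : F) • 1).det ≠ 0) {v : Γ} (hv : v ∈ slP F k) (hc : g * v = v * g) : v = 1 := by
  obtain ⟨c, C, hv⟩ := hv
  have e : g.1 * v.1 = v.1 * g.1 := by rw [← Matrix.SpecialLinearGroup.coe_mul, hc, Matrix.SpecialLinearGroup.coe_mul]
  rw [show g.1 = ofB (diagonal fun i => (p.1 i : F)) 0 0 p.2.1 from congrArg Units.val hg, hv, ofB_mul, ofB_mul] at e
  obtain ⟨e1, -, e3, -⟩ := ofB_inj e
  simp only [Matrix.zero_mul, Matrix.mul_zero, add_zero, zero_add, Matrix.one_mul] at e1 e3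
  have hc0 : c = 0 := by
    have h := congrFun (congrFun e1 1) 0
    simp [Matrix.mul_apply, Fin.sum_univ_two] at h
    have h' : ((p.1 1 : F) - p.1 0) * c = 0 := by linear_combination h
    exact (mul_eq_zero.1 h').resolve_left (sub_ne_zero.2 fun e => hp (Units.ext e.symm))
  have hC : C = 0 := by
    have key : ∀ j, (fun i => C i j) = 0 := fun j => by
      by_contra hne
      refine hdet j (Matrix.exists_mulVec_eq_zero_iff.1 ⟨_, hne, ?_⟩)
      funext i
      have h1 : (p.2.1 * C) i j = (C * diagonal fun i => (p.1 i : F)) i j := by rw [e3]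
      rw [Matrix.mul_diagonal] at h1
      rw [Matrix.sub_mulVec, Matrix.smul_mulVec, Matrix.one_mulVec, Pi.sub_apply, Pi.smul_apply, Pi.zero_apply,
        smul_eq_mul, sub_eq_zero, mul_comm, ← h1]
      rfl
    ext i j
    exact congrFun (key j) i
  apply Subtype.ext
  rw [hv, hc0, hC, eye_two, ofB_one, Matrix.SpecialLinearGroup.coe_one]

/-- No fixed points above. -/
theorem fixQ {g : Γ} {p : (Fin 2 → Fˣ) × GL (Fin k) F} (hg : toG g = embHom F k p) (hp : p.1 0 ≠ p.1 1)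
    (hdet : ∀ i, (p.2.1 - (p.1 i : F) • 1).det ≠ 0) {v : Γ} (hv : v ∈ slQ F k) (hc : g * v = v * g) : v = 1 := by
  obtain ⟨c, C, hv⟩ := hv
  have e : g.1 * v.1 = v.1 * g.1 := by rw [← Matrix.SpecialLinearGroup.coe_mul, hc, Matrix.SpecialLinearGroup.coe_mul]
  rw [show g.1 = ofB (diagonal fun i => (p.1 i : F)) 0 0 p.2.1 from congrArg Units.val hg, hv, ofB_mul, ofB_mul] at e
  obtain ⟨e1, e2, -, -⟩ := ofB_inj e
  simp only [Matrix.zero_mul, Matrix.mul_zero, add_zero, zero_add, Matrix.mul_one] at e1 e2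
  have hc0 : c = 0 := by
    have h := congrFun (congrFun e1 0) 1
    simp [Matrix.mul_apply, Fin.sum_univ_two] at h
    have h' : ((p.1 0 : F) - p.1 1) * c = 0 := by linear_combination h
    exact (mul_eq_zero.1 h').resolve_left (sub_ne_zero.2 fun e => hp (Units.ext e))
  have hC : C = 0 := by
    have key : ∀ i, C i = 0 := fun i => by
      by_contra hne
      refine hdet i (Matrix.exists_vecMul_eq_zero_iff.1 ⟨_, hne, ?_⟩)
      funext j
      have h1 : ((diagonal fun i => (p.1 i : F)) * C) i j = (C * p.2.1) i j := by rw [e2]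
      rw [Matrix.diagonal_mul] at h1
      rw [Matrix.vecMul_sub, Matrix.vecMul_smul, Matrix.vecMul_one, Pi.sub_apply, Pi.smul_apply, Pi.zero_apply,
        smul_eq_mul, sub_eq_zero, h1]
      rfl
    ext i j
    exact congrFun (key i) j
  apply Subtype.ext
  rw [hv, hc0, hC, eye_two, ofB_one, Matrix.SpecialLinearGroup.coe_one]

end Cfsg.Agent.GaussPre
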