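import Cfsg.Agent.Lib.GaussPre.Cell
import Mathlib.Algebra.Polynomial.Roots
import Mathlib.Tactic.LinearCombination

/-!
# One node of the tree

* `child` : a conjugation by a negative simple root element of a neighbour prepares its coordinate;
* `children` : the same for several neighbours that are pairwise non-adjacent;
* `step` : at a node with nonzero coordinate any torus coordinate can be reached, with nonzero
  coordinates at given neighbours.
-/

set_option autoImplicit false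
set_option linter.unusedSectionVars false

namespace Cfsg.Agent.GaussPre

variable {G : Type*} [Group G] {F : Type*} [Field F] [Fintype F] [DecidableEq F] {n : ℕ}

/-- A nondegenerate quadratic polynomial has at most two roots. -/
theorem card_quad_le (p q r : F) (h : p ≠ 0 ∨ q ≠ 0) :
    (Finset.univ.filter fun x : F => p * (x * x) + q * x + r = 0).card ≤ 2 := by
  classical
  by_contra hc
  push_neg at hc
  obtain ⟨x, y, z, hx, hy, hz, hxy, hxz, hyz⟩ := Finset.two_lt_card_iff.1 hc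
  simp only [Finset.mem_filter, Finset.mem_univ, true_and] at hx hy hz
  have e1 : p * (x + y) + q = 0 :=
    (mul_eq_zero.1 (show (x - y) * (p * (x + y) + q) = 0 by linear_combination hx - hy)).resolve_left
      (sub_ne_zero.2 hxy)
  have e2 : p * (x + z) + q = 0 :=
    (mul_eq_zero.1 (show (x - z) * (p * (x + z) + q) = 0 by linear_combination hx - hz)).resolve_left
      (sub_ne_zero.2 hxz)
  have hp : p = 0 :=
    (mul_eq_zero.1 (show p * (y - z) = 0 by linear_combination e1 - e2)).resolve_right (sub_ne_zero.2 hyz)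
  rw [hp, zero_mul, zero_add] at e1
  rcases h with h | h
  exacts [h hp, h e1]

/-- The equation `(1 + s c) ^ k = β` has at most `k` solutions. -/
theorem card_pow_eq_le {c : F} (hc : c ≠ 0) {k : ℕ} (hk : k ≠ 0) (β : F) :
    (Finset.univ.filter fun s : F => (1 + s * c) ^ k = β).card ≤ k := by
  classical
  calc (Finset.univ.filter fun s : F => (1 + s * c) ^ k = β).card
      ≤ (Polynomial.nthRoots k β).toFinset.card := by
        refine Finset.card_le_card_of_injOn (fun s => 1 + s * c) (fun s hs => ?_) ?_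
        · simp only [Finset.coe_filter, Finset.mem_univ, true_and, Set.mem_setOf_eq] at hs
          rw [Finset.mem_coe, Multiset.mem_toFinset, Polynomial.mem_nthRoots (Nat.pos_of_ne_zero hk)]
          exact hs
        · intro a _ b _ h
          exact mul_right_cancel₀ hc (add_left_cancel h)
    _ ≤ Multiset.card (Polynomial.nthRoots k β) := Multiset.toFinset_card_le _
    _ ≤ k := Polynomial.card_nthRoots k β

variable (S : GaussSys G F n)

namespace GaussSys

theorem phi_mul {i j : Fin n} (s : F) {x y : G} (hx : x ∈ S.V) (hcx : S.c i x = 0) (hy : y ∈ S.V)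
    (hcy : S.c i y = 0) :
    S.c j (S.xp i s * (x * y) * S.xp i (-s)) =
      S.c j (S.xp i s * x * S.xp i (-s)) + S.c j (S.xp i s * y * S.xp i (-s)) := by
  rw [← S.c_mul j _ (S.conjp i s x hx hcx).1 _ (S.conjp i s y hy hcy).1, S.xp_neg]
  congr 1
  group

/-- How the prepared coordinate changes. -/
theorem phi_move {i j l : Fin n} (hij : i ≠ j) (hil : i ≠ l) (s r e : F) {v : G} (hv : v ∈ S.V)
    (hs : 1 + S.c i v * s ≠ 0) :
    S.phi i l s (S.xm j r * v * S.xm j e) =
      (if j = l then r + e * (1 + S.c i v * s) ^ S.k i j else 0) + S.phi i l s v := by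
  set c := S.c i v with hc
  obtain ⟨hrv, hrc⟩ := S.radV_mem i hv
  have hcji : ∀ a, S.c i (S.xm j a) = 0 := fun a => S.c_xm_ne (Ne.symm hij) a
  have hci : S.c i (S.xm j r * v * S.xm j e) = c := by
    rw [S.c_mul i _ (mul_mem (S.xm_mem _ _) hv) _ (S.xm_mem _ _), S.c_mul i _ (S.xm_mem _ _) v hv, hcji, hcji,
      zero_add, add_zero]
  set w := Units.mk0 _ hs with hw
  set Y := S.xm i c * S.xm j e * S.xm i (-c) with hY
  have hYm : Y ∈ S.V := mul_mem (mul_mem (S.xm_mem _ _) (S.xm_mem _ _)) (S.xm_mem _ _)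
  have hYc : S.c i Y = 0 := by
    rw [hY, S.c_mul i _ (mul_mem (S.xm_mem _ _) (S.xm_mem _ _)) _ (S.xm_mem _ _),
      S.c_mul i _ (S.xm_mem _ _) _ (S.xm_mem _ _), hcji, S.c_xm_self, S.c_xm_self, add_zero, add_neg_cancel]
  have hrad : S.radV i (S.xm j r * v * S.xm j e) = S.xm j r * S.radV i v * Y := by
    rw [hY, radV, hci, radV, ← hc, S.xm_neg i c]
    group
  have hj : S.c l (S.xm j r) = if j = l then r else 0 := S.c_xm j l r
  have hYl : S.c l (S.xp i s * Y * S.xp i (-s)) = if j = l then e * (1 + c * s) ^ S.k i j else 0 := by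
    have e1 : S.xp i s * S.xm i c = S.xm i (c / w) * S.tor (Pi.mulSingle i w) * S.xp i (s / w) :=
      S.sl2 i c s w (by rw [hw, Units.val_mk0])
    have e2 : S.xm i (-c) * S.xp i (-s) = S.xp i (-(s / w)) * (S.tor (Pi.mulSingle i w))⁻¹ * S.xm i (-(c / w)) := by
      have := congrArg Inv.inv e1
      simp only [mul_inv_rev, ← S.xp_neg, ← S.xm_neg] at this
      rw [this, mul_assoc]
    have e3 : S.xp i (s / w) * S.xm j e * S.xp i (-(s / w)) = S.xm j e := by
      rw [S.comm i j hij, mul_assoc, S.xp_mul_neg, mul_one]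
    have e4 : S.xp i s * Y * S.xp i (-s) =
        S.xm i (c / w) * S.xm j (e / (S.chi j (Pi.mulSingle i w) : F)) * S.xm i (-(c / w)) := by
      calc S.xp i s * Y * S.xp i (-s) = (S.xp i s * S.xm i c) * S.xm j e * (S.xm i (-c) * S.xp i (-s)) := by
            rw [hY]; group
        _ = S.xm i (c / w) * S.tor (Pi.mulSingle i w) * (S.xp i (s / w) * S.xm j e * S.xp i (-(s / w))) *
              (S.tor (Pi.mulSingle i w))⁻¹ * S.xm i (-(c / w)) := by
            rw [e1, e2]; group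
        _ = _ := by
            rw [e3, mul_assoc (S.xm i _) _ (S.xm j e), S.tor_xm']
            group
    rw [e4, S.c_mul l _ (mul_mem (S.xm_mem _ _) (S.xm_mem _ _)) _ (S.xm_mem _ _),
      S.c_mul l _ (S.xm_mem _ _) _ (S.xm_mem _ _), S.c_xm_ne hil, S.c_xm_ne hil, zero_add, add_zero, S.c_xm]
    split_ifs with h
    · rw [S.chi_other i j hij, Units.val_pow_eq_pow_val, Units.val_inv_eq_inv_val, hw, Units.val_mk0, inv_pow,
        div_inv_eq_mul]
    · rfl
  rw [phi, hrad, phi, S.phi_mul s (mul_mem (S.xm_mem _ _) hrv) (by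
      rw [S.c_mul i _ (S.xm_mem _ _) _ hrv, hcji, hrc, add_zero]) hYm hYc,
    S.phi_mul s (S.xm_mem _ _) (hcji r) hrv hrc, hYl]
  have e5 : S.c l (S.xp i s * S.xm j r * S.xp i (-s)) = if j = l then r else 0 := by
    rw [S.comm i j hij, mul_assoc, S.xp_mul_neg, mul_one, hj]
  rw [e5]
  split_ifs <;> ring

/-- Preparing the coordinate of one neighbour `j` of `i`. -/
theorem child (hF : 9 ≤ Fintype.card F) {i j : Fin n} (hij : i ≠ j) {g : G} {f : Fin n → Fˣ} {v : G}
    (h : S.Rep g f v) (T : Finset F) (hT : T.card ≤ 3)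
    (hs : ∀ s ∈ T, 1 + S.c i v * s ≠ 0 ∧ (1 + S.c i v * s) ^ S.k i j ≠ (S.chi j f : F)) :
    ∃ f' v', S.Rep g f' v' ∧ (∃ w, f' = f * Pi.mulSingle j w) ∧ S.c i v' = S.c i v ∧
      (∀ l, l ≠ j → S.c l v' = S.c l v) ∧ (∀ s ∈ T, S.phi i j s v' ≠ 0) ∧
      ∀ l, l ≠ j → l ≠ i → ∀ s ∈ T, S.phi i l s v' = S.phi i l s v := by
  classical
  obtain ⟨hv, u, hu, hg⟩ := h
  obtain ⟨u1, hu1, hd1, eu⟩ := S.splitU j hu
  set δ := S.d j u with hδ
  set χ : F := (S.chi j f : F) with hχ
  have hχ0 : χ ≠ 0 := Units.ne_zero _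
  let A : F → F := fun s => (1 + S.c i v * s) ^ S.k i j / χ
  let bad : F → Finset F := fun s => Finset.univ.filter fun r =>
    (-δ) * (r * r) + (1 - A s - δ * S.phi i j s v) * r + S.phi i j s v = 0
  obtain ⟨r, hr⟩ := exists_notMem (insert δ⁻¹ (T.biUnion bad)) (by
    refine lt_of_le_of_lt ((Finset.card_insert_le _ _).trans (Nat.add_le_add_right
      (Finset.card_biUnion_le_card_mul _ _ 2 fun s hs' => ?_) 1)) (by omega)
    refine card_quad_le _ _ _ ?_
    by_cases hd : δ = 0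
    · refine Or.inr fun e => (hs s hs').2 ?_
      rw [hd, zero_mul, sub_zero, sub_eq_zero] at e
      exact (div_eq_one_iff_eq hχ0).1 e.symm
    · exact Or.inl (neg_ne_zero.2 hd))
  simp only [Finset.mem_insert, Finset.mem_biUnion, not_or, not_exists, not_and, bad, Finset.mem_filter,
    Finset.mem_univ, true_and] at hr
  have hw0 : 1 - δ * r ≠ 0 := fun e => hr.1 (eq_inv_of_mul_eq_one_left (by linear_combination -e))
  set w := Units.mk0 _ hw0 with hw
  obtain ⟨hu2, -⟩ := S.conjm j r u1 hu1 hd1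
  set e := -r / (w : F) / χ with he
  have hv' : S.xm j r * v * S.xm j e ∈ S.V := mul_mem (mul_mem (S.xm_mem _ _) hv) (S.xm_mem _ _)
  have hcl : ∀ l, l ≠ j → S.c l (S.xm j r * v * S.xm j e) = S.c l v := fun l hl => by
    rw [S.c_mul l _ (mul_mem (S.xm_mem _ _) hv) _ (S.xm_mem _ _), S.c_mul l _ (S.xm_mem _ _) v hv,
      S.c_xm_ne (Ne.symm hl), S.c_xm_ne (Ne.symm hl), zero_add, add_zero]
  refine ⟨f * Pi.mulSingle j w, S.xm j r * v * S.xm j e, ?_, ⟨w, rfl⟩, hcl i hij, hcl, ?_, ?_⟩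
  · refine Rep.of_conj S (S.xm j r) (u' := S.xp j (δ / w) * (S.xm j r * u1 * S.xm j (-r)))
      (mul_mem (S.xp_mem _ _) hu2) hv' hg ?_
    calc S.xm j r * (v * S.tor f * u) * (S.xm j r)⁻¹
        = S.xm j r * v * (S.tor f * S.xp j δ * S.xm j (-r)) * (S.xm j r * u1 * S.xm j (-r)) := by
          conv_lhs => rw [eu]
          rw [S.xm_neg]; group
      _ = _ := by
          rw [S.xm_move j f r δ w (by rw [hw, Units.val_mk0]), ← hχ, ← he]
          group
  · intro s hsT h0
    rw [S.phi_move hij hij s r e hv (hs s hsT).1, if_pos rfl] at h0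
    refine hr.2 s hsT ?_
    have e2 : e * (1 + S.c i v * s) ^ S.k i j * (1 - δ * r) = -r * A s := by
      have e3 : e * (1 - δ * r) = -r / χ := by
        rw [he, hw, Units.val_mk0, div_right_comm, div_mul_cancel₀ _ hw0]
      simp only [A]
      linear_combination (1 + S.c i v * s) ^ S.k i j * e3
    linear_combination (1 - δ * r) * h0 - e2
  · intro l hlj hli s hsT
    rw [S.phi_move hij (Ne.symm hli) s r e hv (hs s hsT).1, if_neg (Ne.symm hlj), zero_add]

/-- Preparing the coordinates of pairwise non-adjacent neighbours. -/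
theorem children (hF : 9 ≤ Fintype.card F) {i : Fin n} {g : G} {f : Fin n → Fˣ} {v : G}
    (h : S.Rep g f v) (T : Finset F) (hT : T.card ≤ 3) (J : Finset (Fin n)) (hiJ : i ∉ J)
    (hJ : ∀ a ∈ J, ∀ b ∈ J, a ≠ b → S.k a b = 0)
    (hs : ∀ j ∈ J, ∀ s ∈ T, 1 + S.c i v * s ≠ 0 ∧ (1 + S.c i v * s) ^ S.k i j ≠ (S.chi j f : F)) :
    ∃ f' v', S.Rep g f' v' ∧ (∀ l, l ∉ J → f' l = f l) ∧ S.c i v' = S.c i v ∧
      (∀ l, l ∉ J → S.c l v' = S.c l v) ∧ (∀ j ∈ J, ∀ s ∈ T, S.phi i j s v' ≠ 0) := by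
  classical
  induction J using Finset.induction_on generalizing f v with
  | empty => exact ⟨f, v, h, fun _ _ => rfl, rfl, fun _ _ => rfl, by simp⟩
  | insert a J haJ ih =>
    have hia : i ≠ a := fun e => hiJ (e ▸ Finset.mem_insert_self i J)
    have hJi : i ∉ J := fun e => hiJ (Finset.mem_insert_of_mem e)
    -- the others first
    obtain ⟨f1, v1, h1, hf1, hc1, hl1, hp1⟩ := ih h hJi
      (fun x hx y hy => hJ x (Finset.mem_insert_of_mem hx) y (Finset.mem_insert_of_mem hy))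
      (fun j hj => hs j (Finset.mem_insert_of_mem hj))
    have hchi : S.chi a f1 = S.chi a f := by
      have e : S.chi a (f1 / f) = 1 := by
        rw [← Finset.univ_prod_mulSingle (f1 / f), map_prod]
        refine Finset.prod_eq_one fun l _ => ?_
        by_cases hl : l ∈ J
        · have hla : l ≠ a := fun e => haJ (e ▸ hl)
          rw [S.chi_other l a hla, hJ l (Finset.mem_insert_of_mem hl) a (Finset.mem_insert_self _ _) hla, pow_zero]
        · rw [Pi.div_apply, hf1 l hl, div_self', Pi.mulSingle_one, map_one]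
      rwa [map_div, div_eq_one] at e
    obtain ⟨f2, v2, h2, ⟨w, hw⟩, hc2, hl2, hp2, hq2⟩ := S.child hF hia h1 T hT (fun s hsT => by
      rw [hc1, hchi]; exact hs a (Finset.mem_insert_self _ _) s hsT)
    refine ⟨f2, v2, h2, fun l hl => ?_, hc2.trans hc1, fun l hl => ?_, fun j hj s hsT => ?_⟩
    · rw [hw, Pi.mul_apply, Pi.mulSingle_eq_of_ne (fun (e : l = a) => hl (e.symm ▸ Finset.mem_insert_self a J)), mul_one]
      exact hf1 l fun e => hl (Finset.mem_insert_of_mem e)
    · rw [hl2 l (fun (e : l = a) => hl (e.symm ▸ Finset.mem_insert_self a J)), hl1 l fun e => hl (Finset.mem_insert_of_mem e)]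
    · rcases Finset.mem_insert.1 hj with rfl | hj'
      · exact hp2 s hsT
      · rw [hq2 j (fun e => haJ (e ▸ hj')) (fun e => hJi (e ▸ hj')) s hsT]
        exact hp1 j hj' s hsT

/-- The step at a node with nonzero coordinate. -/
theorem step (hF : 9 ≤ Fintype.card F) {i : Fin n} {g : G} {f : Fin n → Fˣ} {v : G} (h : S.Rep g f v)
    (hi : S.c i v ≠ 0) (J : Finset (Fin n)) (hiJ : i ∉ J) (hJ : ∀ a ∈ J, ∀ b ∈ J, a ≠ b → S.k a b = 0)
    (hk : ∀ j ∈ J, S.k i j ≠ 0) (hsum : ∑ j ∈ J, S.k i j ≤ 3) (τ : Fˣ) :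
    ∃ f' v', S.Rep g f' v' ∧ f' i = τ ∧ (∀ l, l ∉ J → l ≠ i → f' l = f l) ∧ (∀ j ∈ J, S.c j v' ≠ 0) ∧
      ∀ l, l ∉ J → l ≠ i → S.k i l = 0 → S.c l v' = S.c l v := by
  classical
  set c := S.c i v with hc
  let bad : Fin n → Finset F := fun j => Finset.univ.filter fun s => (1 + s * c) ^ S.k i j = (S.chi j f : F)
  set B := insert (-c⁻¹) (J.biUnion bad) with hB
  have hBc : B.card ≤ 4 := by
    refine (Finset.card_insert_le _ _).trans (Nat.add_le_add_right (Finset.card_biUnion_le.trans ?_) 1)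
    exact (Finset.sum_le_sum fun j hj => card_pow_eq_le hi (hk j hj) _).trans hsum
  obtain ⟨T, hTs, hT⟩ := Finset.exists_subset_card_eq (s := Finset.univ \ B) (n := 3) (by
    rw [Finset.card_univ_diff]; omega)
  have hTB : ∀ s ∈ T, 1 + c * s ≠ 0 ∧ ∀ j ∈ J, (1 + c * s) ^ S.k i j ≠ (S.chi j f : F) := by
    intro s hs
    have := (Finset.mem_sdiff.1 (hTs hs)).2
    simp only [hB, Finset.mem_insert, Finset.mem_biUnion, not_or, not_exists, not_and, bad, Finset.mem_filter,
      Finset.mem_univ, true_and] at this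
    refine ⟨fun e => this.1 ?_, fun j hj e => this.2 j hj (by rw [mul_comm s c]; exact e)⟩
    rw [eq_neg_iff_add_eq_zero]
    field_simp
    linear_combination e
  obtain ⟨f1, v1, h1, hf1, hc1, hl1, hp1⟩ := S.children hF h T hT.le J hiJ hJ
    fun j hj s hs => ⟨(hTB s hs).1, (hTB s hs).2 j hj⟩
  rw [← hc] at hc1
  obtain ⟨hv1, u, hu, hg⟩ := h1
  obtain ⟨u1, hu1, hd1, eu⟩ := S.splitU i hu
  set δ := S.d i u with hδ
  set χ : F := (S.chi i f1 : F) with hχ
  have hχ0 : χ ≠ 0 := Units.ne_zero _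
  obtain ⟨s, hsT, hs⟩ : ∃ s ∈ T, -(c * χ) * (s * s) + (1 - χ + δ * c * χ) * s + δ * χ ≠ 0 := by
    by_contra hn
    push_neg at hn
    have h2 := Finset.card_le_card (show T ⊆ Finset.univ.filter _ from
      fun s hs => Finset.mem_filter.2 ⟨Finset.mem_univ s, hn s hs⟩)
    have h3 := card_quad_le (-(c * χ)) (1 - χ + δ * c * χ) (δ * χ) (Or.inl (neg_ne_zero.2 (mul_ne_zero hi hχ0)))
    omega
  have hw0 : 1 + c * s ≠ 0 := (hTB s hsT).1
  set w := Units.mk0 _ hw0 with hw
  set d' := s / (w : F) / χ + δ - s with hd'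
  have hd0 : d' ≠ 0 := by
    intro e
    apply hs
    have e2 : d' * ((w : F) * χ) = s + (δ - s) * ((w : F) * χ) := by
      rw [hd', add_sub_assoc, add_mul, div_div, div_mul_cancel₀ _ (mul_ne_zero (Units.ne_zero _) hχ0)]
    rw [e, zero_mul, hw, Units.val_mk0] at e2
    linear_combination -e2
  set W := τ / (f1 i * w) with hW
  set r := (1 - (W : F)) / d' with hr
  have hrW : (W : F) = 1 - d' * r := by rw [hr, mul_div_cancel₀ _ hd0]; ring
  -- conjugation by `xp i s`
  obtain ⟨hrv, hrc⟩ := S.radV_mem i hv1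
  obtain ⟨hva, hvac⟩ := S.conjp i s _ hrv hrc
  set u2 := S.xp i s * u1 * S.xp i (-s) with hu2
  have hu2m : u2 ∈ S.U := mul_mem (mul_mem (S.xp_mem _ _) hu1) (S.xp_mem _ _)
  set v2 := S.xp i s * S.radV i v1 * S.xp i (-s) * S.xm i (c / (w : F)) with hv2
  have hv2m : v2 ∈ S.V := mul_mem hva (S.xm_mem _ _)
  set g1 := v2 * S.tor (f1 * Pi.mulSingle i w) * (S.xp i d' * u2) with hg1
  have e1 : S.xp i s * S.xm i c = S.xm i (c / w) * S.tor (Pi.mulSingle i w) * S.xp i (s / w) :=
    S.sl2 i c s w (by rw [hw, Units.val_mk0])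
  have hg1c : IsConj g g1 := hg.trans (isConj_iff.2 ⟨S.xp i s, by
    rw [hg1, hv2, hu2]
    have e2 : S.xp i (s / w) * S.tor f1 = S.tor f1 * S.xp i (s / w / χ) := by
      rw [S.tor_xp, ← hχ, mul_div_cancel₀ _ hχ0]
    have e4 : v1 = S.radV i v1 * S.xm i c := by rw [← hc1, S.radV_mul]
    calc S.xp i s * (v1 * S.tor f1 * u) * (S.xp i s)⁻¹
        = S.xp i s * S.radV i v1 * S.xp i (-s) * (S.xp i s * S.xm i c) * S.tor f1 * S.xp i δ * S.xp i (-s) *
            (S.xp i s * u1 * S.xp i (-s)) := by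
          conv_lhs => rw [eu, e4]
          simp only [S.xp_neg]; group
      _ = S.xp i s * S.radV i v1 * S.xp i (-s) * S.xm i (c / w) * S.tor (Pi.mulSingle i w) *
            (S.xp i (s / w) * S.tor f1) * S.xp i δ * S.xp i (-s) * (S.xp i s * u1 * S.xp i (-s)) := by
          rw [e1]; group
      _ = S.xp i s * S.radV i v1 * S.xp i (-s) * S.xm i (c / w) * S.tor (Pi.mulSingle i w) * S.tor f1 *
            (S.xp i (s / w / χ) * S.xp i δ * S.xp i (-s)) * (S.xp i s * u1 * S.xp i (-s)) := by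
          rw [e2]; group
      _ = _ := by
          rw [← S.xp_add, ← S.xp_add, ← sub_eq_add_neg, ← hd',
            show f1 * Pi.mulSingle i w = Pi.mulSingle i w * f1 from mul_comm _ _, map_mul]
          group⟩)
  -- conjugation by `xm i r`
  obtain ⟨u4, hu4, hd4, eu4⟩ := S.splitU i (u := S.xp i d' * u2) (mul_mem (S.xp_mem _ _) hu2m)
  have hδ4 : S.d i (S.xp i d' * u2) = d' := by
    rw [S.d_mul i _ (S.xp_mem _ _) _ hu2m, S.d_xp_self, hu2,
      S.d_mul i _ (mul_mem (S.xp_mem _ _) hu1) _ (S.xp_mem _ _), S.d_mul i _ (S.xp_mem _ _) _ hu1,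
      S.d_xp_self, S.d_xp_self, hd1, add_zero, add_neg_cancel, add_zero]
  rw [hδ4] at eu4
  obtain ⟨hu5, -⟩ := S.conjm i r u4 hu4 hd4
  set e := -r / (W : F) / (S.chi i (f1 * Pi.mulSingle i w) : F) with he
  refine ⟨f1 * Pi.mulSingle i w * Pi.mulSingle i W, S.xm i r * v2 * S.xm i e, ?_, ?_, ?_, ?_, ?_⟩
  · refine Rep.of_conj S (S.xm i r) (u' := S.xp i (d' / W) * (S.xm i r * u4 * S.xm i (-r)))
      (mul_mem (S.xp_mem _ _) hu5) (mul_mem (mul_mem (S.xm_mem _ _) hv2m) (S.xm_mem _ _)) hg1c ?_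
    calc S.xm i r * (v2 * S.tor (f1 * Pi.mulSingle i w) * (S.xp i d' * u2)) * (S.xm i r)⁻¹
        = S.xm i r * v2 * (S.tor (f1 * Pi.mulSingle i w) * S.xp i d' * S.xm i (-r)) *
            (S.xm i r * u4 * S.xm i (-r)) := by
          conv_lhs => rw [eu4]
          rw [S.xm_neg]; group
      _ = _ := by
          rw [S.xm_move i _ r d' W hrW, ← he]
          group
  · rw [Pi.mul_apply, Pi.mul_apply, Pi.mulSingle_eq_same, Pi.mulSingle_eq_same, hW, mul_div_cancel]
  · intro l hl hli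
    rw [Pi.mul_apply, Pi.mul_apply, Pi.mulSingle_eq_of_ne hli, Pi.mulSingle_eq_of_ne hli, mul_one, mul_one,
      hf1 l hl]
  · intro j hj
    have hij : i ≠ j := fun e => hiJ (e ▸ hj)
    rw [S.c_mul j _ (mul_mem (S.xm_mem _ _) hv2m) _ (S.xm_mem _ _), S.c_mul j _ (S.xm_mem _ _) _ hv2m,
      S.c_xm_ne hij, S.c_xm_ne hij, zero_add, add_zero, hv2, S.c_mul j _ hva _ (S.xm_mem _ _), S.c_xm_ne hij,
      add_zero]
    exact hp1 j hj s hsT
  · intro l hl hli hkl
    have hil : i ≠ l := Ne.symm hli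
    rw [S.c_mul l _ (mul_mem (S.xm_mem _ _) hv2m) _ (S.xm_mem _ _), S.c_mul l _ (S.xm_mem _ _) _ hv2m,
      S.c_xm_ne hil, S.c_xm_ne hil, zero_add, add_zero, hv2, S.c_mul l _ hva _ (S.xm_mem _ _), S.c_xm_ne hil,
      add_zero, S.loc i l s hil hkl _ hrv hrc, S.c_radV hil hv1, hl1 l hl]

end GaussSys

end Cfsg.Agent.GaussPre
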