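import Cfsg.Agent.EqLemmas
import Mathlib.Algebra.Field.Basic
import Mathlib.Algebra.BigOperators.Group.Finset.Basic

/-!
# Split groups with a Dynkin tree, for the Gauss decomposition with prescribed torus part

`GaussSys G F n` records what is used of a split group of rank `n` over the field `F`:
* `xp i`, `xm i` : the simple root elements, `tor` : the torus, `chi i` : the simple roots;
* `V`, `U` : the two unipotent subgroups, `c i`, `d i` : their coordinates at the simple roots;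
* `par` : the tree (root `0`), `k i j` : minus the Cartan integers of adjacent nodes.
Results: the elementary identities (`xp_zero`, `tor_xp`, `sl2'`, `c_one`, `c_xm_self`, `conjp_c`).
-/

set_option autoImplicit false
set_option linter.unusedSectionVars false

namespace Cfsg.Agent.GaussPre

variable (G : Type*) [Group G] (F : Type*) [Field F] (n : ℕ)

/-- Data of a split group of rank `n`. -/
structure GaussSys where
  V : Subgroup G
  U : Subgroup G
  xp : Fin n → F → G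
  xm : Fin n → F → G
  tor : (Fin n → Fˣ) →* G
  chi : Fin n → (Fin n → Fˣ) →* Fˣ
  c : Fin n → G → F
  d : Fin n → G → F
  k : Fin n → Fin n → ℕ
  par : Fin n → Fin n
  xp_add : ∀ i a b, xp i (a + b) = xp i a * xp i b
  xm_add : ∀ i a b, xm i (a + b) = xm i a * xm i b
  xp_mem : ∀ i a, xp i a ∈ U
  xm_mem : ∀ i a, xm i a ∈ V
  tor_xp : ∀ f i a, tor f * xp i a = xp i ((chi i f : F) * a) * tor f
  tor_xm : ∀ f i a, tor f * xm i a = xm i (((chi i f)⁻¹ : Fˣ) * a) * tor f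
  sl2 : ∀ i a b (w : Fˣ), (w : F) = 1 + a * b →
    xp i b * xm i a = xm i (a / w) * tor (Pi.mulSingle i w) * xp i (b / w)
  chi_other : ∀ i j, i ≠ j → ∀ w : Fˣ, chi j (Pi.mulSingle i w) = (w⁻¹) ^ k i j
  comm : ∀ i j, i ≠ j → ∀ a b, xp i a * xm j b = xm j b * xp i a
  c_mul : ∀ j, ∀ x ∈ V, ∀ y ∈ V, c j (x * y) = c j x + c j y
  d_mul : ∀ j, ∀ x ∈ U, ∀ y ∈ U, d j (x * y) = d j x + d j y
  c_xm : ∀ i j a, c j (xm i a) = if i = j then a else 0
  d_xp : ∀ i j a, d j (xp i a) = if i = j then a else 0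
  conjp : ∀ i s, ∀ v ∈ V, c i v = 0 →
    xp i s * v * xp i (-s) ∈ V ∧ c i (xp i s * v * xp i (-s)) = 0
  conjm : ∀ i s, ∀ u ∈ U, d i u = 0 →
    xm i s * u * xm i (-s) ∈ U ∧ d i (xm i s * u * xm i (-s)) = 0
  loc : ∀ i j s, i ≠ j → k i j = 0 → ∀ v ∈ V, c i v = 0 → c j (xp i s * v * xp i (-s)) = c j v
  par_lt : ∀ i : Fin n, i.val ≠ 0 → (par i).val < i.val
  k_adj : ∀ i j, i ≠ j → k i j ≠ 0 → (i.val ≠ 0 ∧ par i = j) ∨ (j.val ≠ 0 ∧ par j = i)
  k_pos : ∀ i : Fin n, i.val ≠ 0 → k i (par i) ≠ 0 ∧ k (par i) i ≠ 0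
  k_up : ∀ i : Fin n, i.val ≠ 0 → k i (par i) ≤ 3
  k_down : ∀ i : Fin n,
    ∑ j ∈ Finset.univ.filter (fun j : Fin n => j.val ≠ 0 ∧ par j = i), k i j ≤ 3
  gen : Subgroup.closure ({g | ∃ i a, g = xp i a} ∪ {g | ∃ i a, g = xm i a}) = ⊤
  coreV : ∀ v : G, (∀ g, g * v * g⁻¹ ∈ V) → v = 1
  coreU : ∀ u : G, (∀ g, g * u * g⁻¹ ∈ U) → u = 1

variable {G F n} (S : GaussSys G F n)

namespace GaussSys

theorem xp_zero (i : Fin n) : S.xp i 0 = 1 := by
  have := S.xp_add i 0 0; rwa [add_zero, left_eq_mul] at this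

theorem xm_zero (i : Fin n) : S.xm i 0 = 1 := by
  have := S.xm_add i 0 0; rwa [add_zero, left_eq_mul] at this

theorem xp_neg (i : Fin n) (a : F) : S.xp i (-a) = (S.xp i a)⁻¹ :=
  eq_inv_of_mul_eq_one_left (by rw [← S.xp_add, neg_add_cancel, S.xp_zero])

theorem xm_neg (i : Fin n) (a : F) : S.xm i (-a) = (S.xm i a)⁻¹ :=
  eq_inv_of_mul_eq_one_left (by rw [← S.xm_add, neg_add_cancel, S.xm_zero])

theorem xp_mul_neg (i : Fin n) (a : F) : S.xp i a * S.xp i (-a) = 1 := by rw [S.xp_neg, mul_inv_cancel]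

theorem xp_neg_mul (i : Fin n) (a : F) : S.xp i (-a) * S.xp i a = 1 := by rw [S.xp_neg, inv_mul_cancel]

theorem xm_mul_neg (i : Fin n) (a : F) : S.xm i a * S.xm i (-a) = 1 := by rw [S.xm_neg, mul_inv_cancel]

theorem xm_neg_mul (i : Fin n) (a : F) : S.xm i (-a) * S.xm i a = 1 := by rw [S.xm_neg, inv_mul_cancel]

theorem tor_xm' (f : Fin n → Fˣ) (i : Fin n) (a : F) :
    S.tor f * S.xm i a = S.xm i (a / (S.chi i f : F)) * S.tor f := by
  rw [S.tor_xm, Units.val_inv_eq_inv_val, div_eq_inv_mul]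

theorem chi_mul (i : Fin n) (f : Fin n → Fˣ) {j : Fin n} (hij : j ≠ i) (hk : S.k j i = 0) (w : Fˣ) :
    S.chi i (f * Pi.mulSingle j w) = S.chi i f := by
  rw [map_mul, S.chi_other j i hij, hk, pow_zero, mul_one]

theorem c_one (j : Fin n) : S.c j 1 = 0 := by
  have := S.c_mul j 1 (one_mem _) 1 (one_mem _)
  rwa [mul_one, left_eq_add] at this

theorem d_one (j : Fin n) : S.d j 1 = 0 := by
  have := S.d_mul j 1 (one_mem _) 1 (one_mem _)
  rwa [mul_one, left_eq_add] at this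

theorem c_xm_self (i : Fin n) (a : F) : S.c i (S.xm i a) = a := by rw [S.c_xm, if_pos rfl]

theorem c_xm_ne {i j : Fin n} (h : i ≠ j) (a : F) : S.c j (S.xm i a) = 0 := by rw [S.c_xm, if_neg h]

theorem d_xp_self (i : Fin n) (a : F) : S.d i (S.xp i a) = a := by rw [S.d_xp, if_pos rfl]

/-- The part of an element of `V` in the radical of a simple root. -/
def radV (i : Fin n) (v : G) : G := v * S.xm i (-(S.c i v))

theorem radV_mem (i : Fin n) {v : G} (hv : v ∈ S.V) : S.radV i v ∈ S.V ∧ S.c i (S.radV i v) = 0 :=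
  ⟨mul_mem hv (S.xm_mem _ _), by rw [radV, S.c_mul i v hv _ (S.xm_mem _ _), S.c_xm_self, add_neg_cancel]⟩

theorem radV_mul (i : Fin n) (v : G) : S.radV i v * S.xm i (S.c i v) = v := by
  rw [radV, mul_assoc, S.xm_neg_mul, mul_one]

theorem c_radV {i j : Fin n} (h : i ≠ j) {v : G} (hv : v ∈ S.V) : S.c j (S.radV i v) = S.c j v := by
  rw [radV, S.c_mul j v hv _ (S.xm_mem _ _), S.c_xm_ne h, add_zero]

/-- Splitting an element of `U` at a simple root. -/
theorem splitU (i : Fin n) {u : G} (hu : u ∈ S.U) :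
    ∃ u' ∈ S.U, S.d i u' = 0 ∧ u = S.xp i (S.d i u) * u' := by
  refine ⟨S.xp i (-(S.d i u)) * u, mul_mem (S.xp_mem _ _) hu, ?_, ?_⟩
  · rw [S.d_mul i _ (S.xp_mem _ _) u hu, S.d_xp_self, neg_add_cancel]
  · rw [← mul_assoc, S.xp_mul_neg, one_mul]

/-- Splitting an element of `U` at a simple root, on the other side. -/
theorem splitU' (i : Fin n) {u : G} (hu : u ∈ S.U) :
    ∃ u' ∈ S.U, S.d i u' = 0 ∧ u = u' * S.xp i (S.d i u) := by
  refine ⟨u * S.xp i (-(S.d i u)), mul_mem hu (S.xp_mem _ _), ?_, ?_⟩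
  · rw [S.d_mul i u hu _ (S.xp_mem _ _), S.d_xp_self, add_neg_cancel]
  · rw [mul_assoc, S.xp_neg_mul, mul_one]

/-- The coordinate at `j` after conjugation by `xp i s` of the radical part at `i`. -/
def phi (i j : Fin n) (s : F) (v : G) : F := S.c j (S.xp i s * S.radV i v * S.xp i (-s))

end GaussSys

end Cfsg.Agent.GaussPre
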